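import Mathlib.LinearAlgebra.Projectivization.PSL.PSL2
import Mathlib.Tactic
set_option linter.all false

/-!
Transvections generate `SL ι F`; `SL ι F` is perfect when `3 ≤ card ι`; `PSL ι F` is simple when
`3 ≤ card ι`.
-/

set_option autoImplicit false
set_option linter.unusedSimpArgs false

namespace Cfsg.Agent.LieClassical.SLGen

open Matrix Matrix.SpecialLinearGroup
open scoped commutatorElement

variable {ι F : Type*} [Field F] [DecidableEq ι] [Fintype ι]

/-- Addition of a transvection. -/
theorem transvection_smul {i j : ι} (hij : i ≠ j) (b : F) (v : ι → F) :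
    (SpecialLinearGroup.transvection hij b) • v = v + (b * v j) • Pi.single i (1 : F) := by
  rw [Matrix.SpecialLinearGroup.smul_def]
  change ((1 : Matrix ι ι F) + single i j b) *ᵥ v = _
  rw [add_mulVec, one_mulVec, Matrix.single_mulVec_eq]

theorem smul_ext {A B : SpecialLinearGroup ι F} (h : ∀ v : ι → F, A • v = B • v) : A = B := by
  apply Subtype.ext
  refine Matrix.ext_of_mulVec_single fun i => ?_
  exact h (Pi.single i 1)

theorem diag2n_smul {i j : ι} (hij : i ≠ j) (a : F) (ha : a ≠ 0) (v : ι → F) :
    (diag2n hij a ha) • v = v + ((a - 1) * v i) • Pi.single i (1 : F) +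
      ((a⁻¹ - 1) * v j) • Pi.single j (1 : F) := by
  rw [Matrix.SpecialLinearGroup.smul_def]
  change (diagonal _) *ᵥ v = _
  ext k
  rw [mulVec_diagonal]
  by_cases hk : k = i
  · subst hk
    simp [hij]
    ring
  · by_cases hk' : k = j
    · subst hk'
      simp [hk]
      ring
    · simp [hk, hk']

theorem diag2n_decompose {i j : ι} (hij : i ≠ j) (a : F) (ha : a ≠ 0) :
    diag2n hij a ha = SpecialLinearGroup.transvection hij a *
      SpecialLinearGroup.transvection hij.symm (- a⁻¹) *
      SpecialLinearGroup.transvection hij a *
      SpecialLinearGroup.transvection hij (-1) *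
      SpecialLinearGroup.transvection hij.symm 1 *
      SpecialLinearGroup.transvection hij (-1) := by
  apply smul_ext
  intro v
  simp only [mul_smul, transvection_smul, diag2n_smul]
  ext k
  by_cases hk : k = i
  · subst hk
    simp [hij, hij.symm]
    field_simp
    ring
  · by_cases hk' : k = j
    · subst hk'
      simp [hk, hij, hij.symm]
      field_simp
      ring
    · simp [hk, hk', hij, hij.symm]

/-- Induction principle: `SL ι F` is generated (as a monoid) by transvections. -/
theorem transvection_induction [Nontrivial ι] (P : SpecialLinearGroup ι F → Prop)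
    (htransvec : ∀ (i j : ι) (h : i ≠ j) (c : F), P (SpecialLinearGroup.transvection h c))
    (hmul : ∀ A B, P A → P B → P (A * B)) (A : SpecialLinearGroup ι F) : P A := by
  refine diagonal_transvection_induction' P _ (fun i j hij c hc ↦ ?_) htransvec hmul
  rw [diag2n_decompose hij c hc]
  refine hmul _ _ (hmul _ _ (hmul _ _ (hmul _ _ (hmul _ _ ?_ ?_) ?_) ?_) ?_) ?_
  all_goals exact htransvec _ _ _ _

/-- The set of transvections. -/
def transvections (ι F : Type*) [Field F] [DecidableEq ι] [Fintype ι] :
    Set (SpecialLinearGroup ι F) :=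
  {A | ∃ (i j : ι) (h : i ≠ j) (c : F), A = SpecialLinearGroup.transvection h c}

theorem closure_transvections : Subgroup.closure (transvections ι F) = ⊤ := by
  rcases subsingleton_or_nontrivial ι with hι | hι
  · refine top_unique fun A _ => ?_
    have : A = 1 := by
      rcases isEmpty_or_nonempty ι with he | ⟨⟨i⟩⟩
      · exact Subsingleton.elim _ _
      · apply Subtype.ext
        ext a b
        obtain rfl := Subsingleton.elim a b
        have h := A.2
        have : Unique ι := ⟨⟨i⟩, fun x => Subsingleton.elim _ _⟩
        rw [det_unique] at h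
        rw [Subsingleton.elim default a] at h
        simpa using h
    rw [this]
    exact one_mem _
  · refine top_unique fun A _ => ?_
    exact transvection_induction (fun A => A ∈ Subgroup.closure (transvections ι F))
      (fun i j h c => Subgroup.subset_closure ⟨i, j, h, c, rfl⟩) (fun _ _ => mul_mem) A

theorem commutator_transvection {i j k : ι} (hij : i ≠ j) (hik : i ≠ k) (hkj : k ≠ j) (a b : F) :
    ⁅(SpecialLinearGroup.transvection hik a : SpecialLinearGroup ι F),
      SpecialLinearGroup.transvection hkj b⁆ = SpecialLinearGroup.transvection hij (a * b) := by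
  rw [commutatorElement_def, transvection_inv, transvection_inv]
  apply smul_ext
  intro v
  simp only [mul_smul, transvection_smul]
  ext l
  by_cases hl : l = i
  · subst hl
    simp [hij, hij.symm, hik, hik.symm, hkj, hkj.symm]
    ring
  · by_cases hl' : l = k
    · subst hl'
      simp [hij, hij.symm, hik, hik.symm, hkj, hkj.symm]
    · simp [hl, hl', hij, hij.symm, hik, hik.symm, hkj, hkj.symm]

theorem commutator_eq_top (h : 3 ≤ Fintype.card ι) :
    commutator (SpecialLinearGroup ι F) = ⊤ := by
  have : Nontrivial ι := Fintype.one_lt_card_iff_nontrivial.mp (by omega)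
  refine top_unique fun A _ => ?_
  refine transvection_induction (fun A => A ∈ commutator (SpecialLinearGroup ι F))
      (fun i j hij c => ?_) (fun _ _ => mul_mem) A
  obtain ⟨k, hk⟩ : ∃ k : ι, k ∉ ({i, j} : Finset ι) := by
    by_contra hcon
    push Not at hcon
    have h1 : (Finset.univ : Finset ι) ⊆ {i, j} := fun x _ => hcon x
    have h2 := Finset.card_le_card h1
    have h3 := Finset.card_le_two (a := i) (b := j)
    rw [Finset.card_univ] at h2
    omega
  simp only [Finset.mem_insert, Finset.mem_singleton, not_or] at hk
  rw [← one_mul c, ← commutator_transvection hij (Ne.symm hk.1) hk.2 1 c]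
  exact Subgroup.commutator_mem_commutator (Subgroup.mem_top _) (Subgroup.mem_top _)

open scoped LinearAlgebra.Projectivization

theorem iSup_lineStab_eq_top [Nontrivial ι] :
    (⨆ p : ℙ F (ι → F), lineStab p.submodule) = (⊤ : Subgroup (SpecialLinearGroup ι F)) := by
  refine top_unique fun A _ => ?_
  refine transvection_induction
      (fun A => A ∈ (⨆ p : ℙ F (ι → F), lineStab p.submodule))
      (fun i j hij c => ?_) (fun _ _ => mul_mem) A
  have h1 : SpecialLinearGroup.transvection hij c ∈
      lineStab (Projectivization.mk F (Pi.single i (1 : F) : ι → F)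
        (Pi.single_ne_zero_iff.2 one_ne_zero)).submodule := by
    rw [Projectivization.submodule_mk]
    exact SL2Gen.transvection_mem_lineStab hij c
  exact (le_iSup (fun p : ℙ F (ι → F) => lineStab p.submodule) _) h1

theorem iSup_iwasawaT_eq_top [Nontrivial ι] :
    iSup (PSL.iwasawaT (F := F) (ι := ι)) = ⊤ := by
  have step1 : iSup (PSL.iwasawaT (F := F) (ι := ι)) =
      Subgroup.map (QuotientGroup.mk' (Subgroup.center (Matrix.SpecialLinearGroup ι F)))
        (⨆ p : ℙ F (ι → F),
          Matrix.SpecialLinearGroup.lineStab (F := F) (ι := ι) p.submodule) := by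
    rw [Subgroup.map_iSup]
  rw [step1, iSup_lineStab_eq_top]
  exact Subgroup.map_top_of_surjective _ (QuotientGroup.mk'_surjective _)

open MulAction

/-- The Iwasawa structure on `PSL ι F`. -/
noncomputable def iwasawa [Nontrivial ι] :
    IwasawaStructure (Matrix.ProjectiveSpecialLinearGroup ι F) (ℙ F (ι → F)) where
  T := PSL.iwasawaT
  is_comm p := by
    have hSL : IsMulCommutative (lineStab (F := F) (ι := ι) p.submodule) := by
      rw [← Projectivization.mk_rep p, Projectivization.submodule_mk]
      exact lineStab_isMulCommutative_of_span p.rep p.rep_nonzero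
    exact Subgroup.map_isMulCommutative _ _
  is_conj g p := by
    obtain ⟨g_SL, rfl⟩ := QuotientGroup.mk_surjective g
    rw [Matrix.ProjectiveSpecialLinearGroup.smul_proj_mk]
    change Subgroup.map _ _ = _
    rw [PSL.smul_submodule, Matrix.SpecialLinearGroup.lineStab_smul,
      PSL.iwasawaT_map_conj]
  is_generator := iSup_iwasawaT_eq_top

/-- If `SL ι F` is perfect and `ι` is nontrivial then `PSL ι F` is simple. -/
theorem psl_isSimpleGroup_of_perfect [Nontrivial ι]
    (h : commutator (SpecialLinearGroup ι F) = ⊤) :
    IsSimpleGroup (Matrix.ProjectiveSpecialLinearGroup ι F) := by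
  have h1 : Group.IsPerfect (SpecialLinearGroup ι F) := ⟨h⟩
  have h2 : Group.IsPerfect (Matrix.ProjectiveSpecialLinearGroup ι F) := inferInstance
  exact MulAction.IwasawaStructure.isSimpleGroup h2.commutator_eq_top iwasawa inferInstance

theorem psl_isSimpleGroup (h : 3 ≤ Fintype.card ι) :
    IsSimpleGroup (Matrix.ProjectiveSpecialLinearGroup ι F) := by
  have : Nontrivial ι := Fintype.one_lt_card_iff_nontrivial.mp (by omega)
  exact psl_isSimpleGroup_of_perfect (commutator_eq_top h)

end Cfsg.Agent.LieClassical.SLGen
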