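import Mathlib
import Cfsg.Agent.LieClassical.HermBasic
set_option linter.all false

/-!
# Number of vectors of given norm for the standard Hermitian form
-/

set_option autoImplicit false

namespace Cfsg.Agent.LieClassical.HermCount

open Cfsg Cfsg.Agent.LieClassical.HermBasic

variable {F : Type*} [Field F] {q : ℕ}

theorem herm_cons {n : ℕ} (a b : F) (v w : Fin n → F) :
    hermForm (n + 1) F q (Fin.cons a v) (Fin.cons b w) = a * b ^ q + hermForm n F q v w := by
  simp only [herm_def, Fin.sum_univ_succ, Fin.cons_zero, Fin.cons_succ]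

variable [Fintype F]

theorem card_succ (n : ℕ) (c : F) :
    Nat.card {v : Fin (n + 1) → F // hermForm (n + 1) F q v v = c} =
      ∑ a : F, Nat.card {v : Fin n → F // hermForm n F q v v = c - a * a ^ q} := by
  classical
  rw [← Nat.card_sigma]
  apply Nat.card_congr
  refine
    { toFun := fun v => ⟨v.1 0, ⟨Fin.tail v.1, ?_⟩⟩
      invFun := fun p => ⟨Fin.cons p.1 p.2.1, ?_⟩
      left_inv := fun v => Subtype.ext (Fin.cons_self_tail v.1)
      right_inv := fun p => rfl }
  · have h := v.2
    rw [← Fin.cons_self_tail v.1, herm_cons] at h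
    linear_combination h
  · rw [herm_cons, p.2.2]; ring

/-- Scaling: the number of vectors of norm `c` is the same for all nonzero fixed `c`. -/
theorem card_scale (hF : Fintype.card F = q ^ 2) (n : ℕ) {c : F} (hc : c ^ q = c) (h0 : c ≠ 0) :
    Nat.card {v : Fin n → F // hermForm n F q v v = c} =
      Nat.card {v : Fin n → F // hermForm n F q v v = 1} := by
  obtain ⟨y, hy0, hy⟩ := exists_norm_eq_ne hF hc h0
  have hyq : y ^ q ≠ 0 := pow_ne_zero _ hy0
  apply Nat.card_congr
  refine
    { toFun := fun v => ⟨y⁻¹ • v.1, ?_⟩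
      invFun := fun v => ⟨y • v.1, ?_⟩
      left_inv := fun v => Subtype.ext (by simp [smul_smul, mul_inv_cancel₀ hy0])
      right_inv := fun v => Subtype.ext (by simp [smul_smul, inv_mul_cancel₀ hy0]) }
  · rw [herm_smul_left, herm_smul_right, v.2, ← hy, inv_pow]
    field_simp
  · rw [herm_smul_left, herm_smul_right, v.2, mul_one, hy]

theorem card_aux (hF : Fintype.card F = q ^ 2) (n : ℕ) :
    ((q : ℤ) * Nat.card {v : Fin n → F // hermForm n F q v v = 0} =
        (q : ℤ) ^ (2 * n) + (-q : ℤ) ^ n * (q - 1)) ∧
    ((q : ℤ) * Nat.card {v : Fin n → F // hermForm n F q v v = 1} =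
        (q : ℤ) ^ (2 * n) - (-q : ℤ) ^ n) := by
  classical
  induction n with
  | zero =>
    constructor
    · have : Nat.card {v : Fin 0 → F // hermForm 0 F q v v = 0} = 1 := by
        rw [Nat.card_eq_one_iff_unique]
        refine ⟨⟨fun a b => Subtype.ext (Subsingleton.elim _ _)⟩, ⟨⟨0, ?_⟩⟩⟩
        exact Fin.sum_univ_zero _
      rw [this]; simp
    · have : Nat.card {v : Fin 0 → F // hermForm 0 F q v v = 1} = 0 := by
        rw [Nat.card_eq_zero]
        left
        refine ⟨fun v => ?_⟩
        have h := v.2
        have h' : hermForm 0 F q v.1 v.1 = 0 := Fin.sum_univ_zero _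
        rw [h'] at h
        exact zero_ne_one h
      rw [this]; simp
  | succ n ih =>
    obtain ⟨ih0, ih1⟩ := ih
    set a := Nat.card {v : Fin n → F // hermForm n F q v v = 0} with ha
    set b := Nat.card {v : Fin n → F // hermForm n F q v v = 1} with hb
    have h2 := two_le hF
    have hcardF : Finset.card (Finset.univ : Finset F) = q ^ 2 := by
      rw [Finset.card_univ, hF]
    have e0 : Nat.card {v : Fin (n + 1) → F // hermForm (n + 1) F q v v = 0} =
        a + (q ^ 2 - 1) * b := by
      rw [card_succ]
      have : ∀ x : F, Nat.card {v : Fin n → F // hermForm n F q v v = 0 - x * x ^ q} =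
          if x = 0 then a else b := by
        intro x
        split_ifs with hx
        · subst hx; simp only [zero_mul, sub_zero]; exact ha.symm
        · apply card_scale hF n
          · rw [zero_sub, neg_pow_q hF, norm_pow_q hF]
          · rw [zero_sub, neg_ne_zero]; exact fun h => hx ((norm_eq_zero hF).1 h)
      have hfil : (Finset.univ.filter fun x : F => x = 0).card = 1 := by
        rw [Finset.card_eq_one]
        exact ⟨0, by ext x; simp⟩
      have hfil' : (Finset.univ.filter fun x : F => ¬ x = 0).card = q ^ 2 - 1 := by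
        have := Finset.card_filter_add_card_filter_not (s := (Finset.univ : Finset F))
          (fun x : F => x = 0)
        rw [hfil, hcardF] at this
        omega
      rw [Finset.sum_congr rfl fun x _ => this x, Finset.sum_ite]
      rw [Finset.sum_const, Finset.sum_const, smul_eq_mul, smul_eq_mul, hfil, hfil', one_mul]
    have e1 : Nat.card {v : Fin (n + 1) → F // hermForm (n + 1) F q v v = 1} =
        (q + 1) * a + (q ^ 2 - (q + 1)) * b := by
      rw [card_succ]
      have : ∀ x : F, Nat.card {v : Fin n → F // hermForm n F q v v = 1 - x * x ^ q} =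
          if x * x ^ q = 1 then a else b := by
        intro x
        split_ifs with hx
        · rw [hx, sub_self]
        · apply card_scale hF n
          · rw [sub_pow_q hF, norm_pow_q hF, one_pow]
          · exact sub_ne_zero.2 (Ne.symm hx)
      have hfil : (Finset.univ.filter fun x : F => x * x ^ q = 1).card = q + 1 := by
        rw [← card_norm_eq_one hF, Nat.card_eq_fintype_card, Fintype.card_subtype]
      have hfil' : (Finset.univ.filter fun x : F => ¬ x * x ^ q = 1).card = q ^ 2 - (q + 1) := by
        have := Finset.card_filter_add_card_filter_not (s := (Finset.univ : Finset F))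
          (fun x : F => x * x ^ q = 1)
        rw [hfil, hcardF] at this
        omega
      rw [Finset.sum_congr rfl fun x _ => this x, Finset.sum_ite]
      rw [Finset.sum_const, Finset.sum_const, smul_eq_mul, smul_eq_mul, hfil, hfil']
    have hq1 : 1 ≤ q ^ 2 := by nlinarith
    have hq2 : q + 1 ≤ q ^ 2 := by nlinarith
    rw [e0, e1]
    push_cast [Nat.cast_sub hq1, Nat.cast_sub hq2]
    constructor
    · calc (q : ℤ) * (a + (q ^ 2 - 1) * b) = q * a + (q ^ 2 - 1) * (q * b) := by ring
        _ = _ := by rw [ih0, ih1]; ring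
    · calc (q : ℤ) * ((q + 1) * a + (q ^ 2 - (q + 1)) * b) =
            (q + 1) * (q * a) + (q ^ 2 - (q + 1)) * (q * b) := by ring
        _ = _ := by rw [ih0, ih1]; ring

/-- `q` times the number of isotropic vectors (zero included). -/
theorem card_herm_eq_zero (hF : Fintype.card F = q ^ 2) (n : ℕ) :
    (q : ℤ) * Nat.card {v : Fin n → F // hermForm n F q v v = 0} =
      (q : ℤ) ^ (2 * n) + (-q : ℤ) ^ n * (q - 1) :=
  (card_aux hF n).1

/-- `q` times the number of vectors of norm `c`, `c` a nonzero element of the fixed field. -/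
theorem card_herm_eq (hF : Fintype.card F = q ^ 2) (n : ℕ) {c : F} (hc : c ^ q = c) (h0 : c ≠ 0) :
    (q : ℤ) * Nat.card {v : Fin n → F // hermForm n F q v v = c} =
      (q : ℤ) ^ (2 * n) - (-q : ℤ) ^ n := by
  rw [card_scale hF n hc h0]; exact (card_aux hF n).2

/-- Natural number form, norm one. -/
theorem card_norm_one (hF : Fintype.card F = q ^ 2) (n : ℕ) :
    Nat.card {v : Fin n → F // hermForm n F q v v = 1} =
      (if Even n then q ^ (n - 1) * (q ^ n - 1) else q ^ (n - 1) * (q ^ n + 1)) := by
  have h2 := two_le hF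
  have hq0 : (q : ℤ) ≠ 0 := by exact_mod_cast (by omega : q ≠ 0)
  have h := (card_aux hF n).2
  have h1 : 1 ≤ q ^ n := Nat.one_le_pow _ _ (by omega)
  rcases n with _ | n
  · simp only [Nat.mul_zero, pow_zero, sub_self] at h
    have h' := (mul_eq_zero.1 h).resolve_left hq0
    have h'' : Nat.card {v : Fin 0 → F // hermForm 0 F q v v = 1} = 0 := by exact_mod_cast h'
    rw [h'']; simp
  · rw [Nat.add_sub_cancel]
    apply Int.natCast_inj.1
    apply mul_left_cancel₀ hq0
    rw [h]
    split_ifs with he
    · push_cast [Nat.cast_sub h1]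
      rw [he.neg_pow]; ring
    · rw [Nat.not_even_iff_odd] at he
      push_cast
      rw [he.neg_pow]; ring

/-- Natural number form, isotropic vectors (zero included). -/
theorem card_isotropic (hF : Fintype.card F = q ^ 2) (n : ℕ) :
    Nat.card {v : Fin n → F // hermForm n F q v v = 0} =
      (if Even n then (q ^ n - 1) * (q ^ (n - 1) + 1)
        else (q ^ n + 1) * (q ^ (n - 1) - 1)) + 1 := by
  have h2 := two_le hF
  have hq0 : (q : ℤ) ≠ 0 := by exact_mod_cast (by omega : q ≠ 0)
  have h := (card_aux hF n).1
  have h1 : 1 ≤ q ^ n := Nat.one_le_pow _ _ (by omega)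
  rcases n with _ | n
  · simp only [Nat.mul_zero, pow_zero, one_mul] at h
    have h' : (q : ℤ) * Nat.card {v : Fin 0 → F // hermForm 0 F q v v = 0} = q * 1 := by
      rw [h]; ring
    have h'' := mul_left_cancel₀ hq0 h'
    have h3 : Nat.card {v : Fin 0 → F // hermForm 0 F q v v = 0} = 1 := by exact_mod_cast h''
    rw [h3]; simp
  · rw [Nat.add_sub_cancel]
    have h3 : 1 ≤ q ^ n := Nat.one_le_pow _ _ (by omega)
    apply Int.natCast_inj.1
    apply mul_left_cancel₀ hq0
    rw [h]
    split_ifs with he
    · push_cast [Nat.cast_sub h1]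
      rw [he.neg_pow]; ring
    · rw [Nat.not_even_iff_odd] at he
      push_cast [Nat.cast_sub h3]
      rw [he.neg_pow]; ring

end Cfsg.Agent.LieClassical.HermCount
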