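import Cfsg.Prelude.Def_Classical
set_option linter.all false

/-!
Basic facts on `Cfsg.SU n F q`: unfolded membership, diagonal and even permutation matrices in it, the
existence of a nontrivial element of norm one, and the description of the centre for `n ≥ 3`.
-/

set_option autoImplicit false
open Cfsg

namespace Cfsg.Agent.LieClassical.SUBasic

open Matrix

variable {F : Type*} [Field F]

/-- `hermForm`, unfolded. -/
theorem hermForm_apply (n q : ℕ) (u v : Fin n → F) :
    hermForm n F q u v = ∑ i, u i * (v i) ^ q := rfl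

/-- Membership in `SU`, unfolded. -/
theorem mem_SU_iff {n q : ℕ} (A : Matrix.SpecialLinearGroup (Fin n) F) :
    A ∈ Cfsg.SU n F q ↔
      ∀ u v : Fin n → F, hermForm n F q ((A : Matrix (Fin n) (Fin n) F) *ᵥ u)
        ((A : Matrix (Fin n) (Fin n) F) *ᵥ v) = hermForm n F q u v :=
  Iff.rfl

/-- The diagonal matrix with entries of norm one, of determinant one, as an element of `SU`. -/
def suDiag {n : ℕ} (q : ℕ) (a : Fin n → F) (hd : ∏ i, a i = 1)
    (ha : ∀ i, a i ^ (q + 1) = 1) : Cfsg.SU n F q :=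
  ⟨⟨Matrix.diagonal a, by rw [Matrix.det_diagonal, hd]⟩, by
    refine (mem_SU_iff _).2 ?_
    intro u v
    simp only [hermForm_apply, Matrix.mulVec_diagonal]
    refine Finset.sum_congr rfl fun i _ => ?_
    have h := ha i
    rw [pow_succ'] at h
    calc a i * u i * (a i * v i) ^ q = (a i * a i ^ q) * (u i * v i ^ q) := by
          rw [mul_pow]; ring
      _ = u i * v i ^ q := by rw [h, one_mul]⟩

/-- Even permutation matrices, as elements of `SU`. -/
def suPerm {n : ℕ} (q : ℕ) (σ : Equiv.Perm (Fin n)) (hσ : Equiv.Perm.sign σ = 1) :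
    Cfsg.SU n F q :=
  ⟨⟨σ.permMatrix F, by rw [Matrix.det_permutation, hσ]; simp⟩, by
    refine (mem_SU_iff _).2 ?_
    intro u v
    simp only [hermForm_apply, Matrix.permMatrix_mulVec]
    exact Equiv.sum_comp σ (fun i => u i * v i ^ q)⟩

@[simp] theorem coe_suDiag {n : ℕ} (q : ℕ) (a : Fin n → F) (hd : ∏ i, a i = 1)
    (ha : ∀ i, a i ^ (q + 1) = 1) :
    (((suDiag q a hd ha : Cfsg.SU n F q) : Matrix.SpecialLinearGroup (Fin n) F) :
      Matrix (Fin n) (Fin n) F) = Matrix.diagonal a := rfl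

@[simp] theorem coe_suPerm {n : ℕ} (q : ℕ) (σ : Equiv.Perm (Fin n))
    (hσ : Equiv.Perm.sign σ = 1) :
    (((suPerm q σ hσ : Cfsg.SU n F q) : Matrix.SpecialLinearGroup (Fin n) F) :
      Matrix (Fin n) (Fin n) F) = σ.permMatrix F := rfl

/-- Commuting elements of `SU` commute as matrices. -/
theorem coe_mul_comm {n q : ℕ} {A : Cfsg.SU n F q} (hA : A ∈ Subgroup.center (Cfsg.SU n F q))
    (B : Cfsg.SU n F q) :
    ((A : Matrix.SpecialLinearGroup (Fin n) F) : Matrix (Fin n) (Fin n) F) *
        ((B : Matrix.SpecialLinearGroup (Fin n) F) : Matrix (Fin n) (Fin n) F) =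
      ((B : Matrix.SpecialLinearGroup (Fin n) F) : Matrix (Fin n) (Fin n) F) *
        ((A : Matrix.SpecialLinearGroup (Fin n) F) : Matrix (Fin n) (Fin n) F) := by
  have h := Subgroup.mem_center_iff.1 hA B
  have h' := congrArg (fun X : Cfsg.SU n F q =>
    ((X : Matrix.SpecialLinearGroup (Fin n) F) : Matrix (Fin n) (Fin n) F)) h
  simpa using h'.symm

/-- Off-diagonal entries of central elements vanish. -/
theorem offdiag_eq_zero {n q : ℕ} (hn : 3 ≤ n) {c : F} (hc : c ^ (q + 1) = 1) (hc1 : c ≠ 1)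
    {A : Cfsg.SU n F q} (hA : A ∈ Subgroup.center (Cfsg.SU n F q)) {i j : Fin n} (hij : i ≠ j) :
    ((A : Matrix.SpecialLinearGroup (Fin n) F) : Matrix (Fin n) (Fin n) F) i j = 0 := by
  have hc0 : c ≠ 0 := by
    rintro rfl
    rw [zero_pow (Nat.succ_ne_zero q)] at hc
    exact zero_ne_one hc
  -- a third index
  obtain ⟨k, hk⟩ : ∃ k : Fin n, k ∉ ({i, j} : Finset (Fin n)) := by
    by_contra hcon
    push Not at hcon
    have h1 : (Finset.univ : Finset (Fin n)).card ≤ ({i, j} : Finset (Fin n)).card :=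
      Finset.card_le_card fun k _ => hcon k
    have h2 : ({i, j} : Finset (Fin n)).card ≤ 2 := Finset.card_le_two
    rw [Finset.card_univ, Fintype.card_fin] at h1
    omega
  simp only [Finset.mem_insert, Finset.mem_singleton, not_or] at hk
  obtain ⟨hki, hkj⟩ := hk
  set a : Fin n → F := fun m => if m = i then c else if m = k then c⁻¹ else 1 with ha
  have hprod : ∏ m, a m = 1 := by
    rw [← Finset.mul_prod_erase Finset.univ a (Finset.mem_univ i),
      ← Finset.mul_prod_erase (Finset.univ.erase i) a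
        (Finset.mem_erase.2 ⟨hki, Finset.mem_univ k⟩)]
    have h1 : ∏ x ∈ (Finset.univ.erase i).erase k, a x = 1 := by
      refine Finset.prod_eq_one fun x hx => ?_
      rw [Finset.mem_erase, Finset.mem_erase] at hx
      simp [ha, hx.1, hx.2.1]
    rw [h1]
    simp [ha, hki, hc0]
  have hnorm : ∀ m, a m ^ (q + 1) = 1 := by
    intro m
    simp only [ha]
    split_ifs
    · exact hc
    · rw [inv_pow, hc, inv_one]
    · exact one_pow _
  have h := coe_mul_comm hA (suDiag q a hprod hnorm)
  rw [coe_suDiag] at h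
  have h' := congrFun (congrFun h i) j
  rw [Matrix.mul_diagonal, Matrix.diagonal_mul] at h'
  have hai : a i = c := by simp [ha]
  have haj : a j = 1 := by simp [ha, hij.symm, Ne.symm hkj]
  rw [hai, haj, mul_one] at h'
  have h3 : (1 - c) * ((A : Matrix.SpecialLinearGroup (Fin n) F) :
      Matrix (Fin n) (Fin n) F) i j = 0 := by
    rw [sub_mul, one_mul, ← h', sub_self]
  rcases mul_eq_zero.1 h3 with h4 | h4
  · exact absurd (sub_eq_zero.1 h4).symm hc1
  · exact h4

/-- Diagonal entries of central elements agree. -/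
theorem diag_eq {n q : ℕ} (hn : 3 ≤ n)
    {A : Cfsg.SU n F q} (hA : A ∈ Subgroup.center (Cfsg.SU n F q)) (i j : Fin n) :
    ((A : Matrix.SpecialLinearGroup (Fin n) F) : Matrix (Fin n) (Fin n) F) i i =
    ((A : Matrix.SpecialLinearGroup (Fin n) F) : Matrix (Fin n) (Fin n) F) j j := by
  rcases eq_or_ne i j with rfl | hij
  · rfl
  obtain ⟨k, hk⟩ : ∃ k : Fin n, k ∉ ({i, j} : Finset (Fin n)) := by
    by_contra hcon
    push Not at hcon
    have h1 : (Finset.univ : Finset (Fin n)).card ≤ ({i, j} : Finset (Fin n)).card :=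
      Finset.card_le_card fun k _ => hcon k
    have h2 : ({i, j} : Finset (Fin n)).card ≤ 2 := Finset.card_le_two
    rw [Finset.card_univ, Fintype.card_fin] at h1
    omega
  simp only [Finset.mem_insert, Finset.mem_singleton, not_or] at hk
  obtain ⟨hki, hkj⟩ := hk
  set σ : Equiv.Perm (Fin n) := Equiv.swap i k * Equiv.swap i j with hσ
  have hsign : Equiv.Perm.sign σ = 1 := by
    rw [hσ, Equiv.Perm.sign_mul, Equiv.Perm.sign_swap (Ne.symm hki), Equiv.Perm.sign_swap hij]
    rfl
  have hσi : σ i = j := by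
    rw [hσ, Equiv.Perm.mul_apply, Equiv.swap_apply_left,
      Equiv.swap_apply_of_ne_of_ne hij.symm (Ne.symm hkj)]
  have h := coe_mul_comm hA (suPerm q σ hsign)
  rw [coe_suPerm] at h
  have h' := congrFun (congrFun h i) j
  rw [Equiv.Perm.permMatrix, PEquiv.toMatrix_toPEquiv_mul,
    PEquiv.mul_toMatrix_toPEquiv] at h'
  simp only [Matrix.submatrix_apply, id] at h'
  have hσj : σ.symm j = i := by rw [← hσi, Equiv.symm_apply_apply]
  rwa [hσj, hσi] at h'

/-- A field with `q ^ 2` elements has an element `c ≠ 1` of norm one. -/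
theorem exists_norm_one [Fintype F] {q : ℕ} (hF : Fintype.card F = q ^ 2) :
    ∃ c : F, c ^ (q + 1) = 1 ∧ c ≠ 1 := by
  classical
  have hcard : Nat.card Fˣ = q ^ 2 - 1 := by
    rw [Nat.card_eq_fintype_card, Fintype.card_units, hF]
  have hq : 2 ≤ q := by
    have h1 : 1 < Fintype.card F := Fintype.one_lt_card
    rw [hF] at h1
    by_contra hcon
    have : q = 0 ∨ q = 1 := by omega
    rcases this with rfl | rfl <;> simp at h1
  have hfac : q ^ 2 - 1 = (q + 1) * (q - 1) := by
    have := Nat.sq_sub_sq q 1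
    simpa using this
  have hker : Nat.card (powMonoidHom (q + 1) : Fˣ →* Fˣ).ker = q + 1 := by
    rw [IsCyclic.card_powMonoidHom_ker, hcard, hfac]
    simp
  have hnt : Nontrivial (powMonoidHom (q + 1) : Fˣ →* Fˣ).ker := by
    rw [← Finite.one_lt_card_iff_nontrivial, hker]
    omega
  obtain ⟨x, hx⟩ := exists_ne (1 : (powMonoidHom (q + 1) : Fˣ →* Fˣ).ker)
  refine ⟨((x : Fˣ) : F), ?_, ?_⟩
  · have := x.2
    rw [MonoidHom.mem_ker, powMonoidHom_apply] at this
    rw [← Units.val_pow_eq_pow_val, this, Units.val_one]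
  · intro h
    apply hx
    ext
    simpa using h


/-- The scalar matrix `c` with `c ^ n = 1` and `c ^ (q + 1) = 1` as an element of `SU`. -/
def suScalar {n : ℕ} (q : ℕ) (c : F) (hcn : c ^ n = 1) (hcq : c ^ (q + 1) = 1) : Cfsg.SU n F q :=
  suDiag q (fun _ => c) (by rw [Finset.prod_const, Finset.card_univ, Fintype.card_fin, hcn])
    (fun _ => hcq)

@[simp] theorem coe_suScalar {n : ℕ} (q : ℕ) (c : F) (hcn : c ^ n = 1) (hcq : c ^ (q + 1) = 1) :
    (((suScalar q c hcn hcq : Cfsg.SU n F q) : Matrix.SpecialLinearGroup (Fin n) F) :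
      Matrix (Fin n) (Fin n) F) = Matrix.diagonal (fun _ => c) := rfl

/-- Scalars are central in `SU`. -/
theorem suScalar_mem_center {n : ℕ} (q : ℕ) (c : F) (hcn : c ^ n = 1) (hcq : c ^ (q + 1) = 1) :
    (suScalar q c hcn hcq : Cfsg.SU n F q) ∈ Subgroup.center (Cfsg.SU n F q) := by
  rw [Subgroup.mem_center_iff]
  intro B
  apply Subtype.ext
  apply Subtype.ext
  change ((B : Matrix.SpecialLinearGroup (Fin n) F) : Matrix (Fin n) (Fin n) F) *
    Matrix.diagonal (fun _ => c) = Matrix.diagonal (fun _ => c) *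
    ((B : Matrix.SpecialLinearGroup (Fin n) F) : Matrix (Fin n) (Fin n) F)
  ext i j
  rw [Matrix.mul_diagonal, Matrix.diagonal_mul, mul_comm]

/-- Over the field with `q ^ 2` elements and for `n ≥ 3`, the central elements of `SU` are exactly the
scalars `c` with `c ^ n = 1` and `c ^ (q + 1) = 1`. -/
theorem mem_center_SU_iff [Fintype F] {n q : ℕ} (hF : Fintype.card F = q ^ 2) (hn : 3 ≤ n)
    (A : Cfsg.SU n F q) :
    A ∈ Subgroup.center (Cfsg.SU n F q) ↔
      ∃ (c : F) (hcn : c ^ n = 1) (hcq : c ^ (q + 1) = 1), A = suScalar q c hcn hcq := by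
  classical
  constructor
  swap
  · rintro ⟨c, hcn, hcq, rfl⟩
    exact suScalar_mem_center q c hcn hcq
  intro hA
  obtain ⟨c, hc, hc1⟩ := exists_norm_one hF
  have i0 : Fin n := ⟨0, by omega⟩
  set M : Matrix (Fin n) (Fin n) F :=
    ((A : Matrix.SpecialLinearGroup (Fin n) F) : Matrix (Fin n) (Fin n) F) with hM
  have hMd : M = Matrix.diagonal (fun _ => M i0 i0) := by
    ext i j
    rcases eq_or_ne i j with rfl | hij
    · rw [Matrix.diagonal_apply_eq]
      exact diag_eq hn hA i i0
    · rw [Matrix.diagonal_apply_ne _ hij]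
      exact offdiag_eq_zero hn hc hc1 hA hij
  have hdet : M.det = 1 := (A : Matrix.SpecialLinearGroup (Fin n) F).2
  have hpn : (M i0 i0) ^ n = 1 := by
    rw [hMd, Matrix.det_diagonal, Finset.prod_const, Finset.card_univ, Fintype.card_fin]
      at hdet
    exact hdet
  have hpq : (M i0 i0) ^ (q + 1) = 1 := by
    have h := (mem_SU_iff _).1 A.2 (Pi.single i0 1) (Pi.single i0 1)
    rw [← hM, hMd] at h
    simp only [hermForm_apply, Matrix.mulVec_diagonal] at h
    have key : ∀ w : F, ∀ hq : q ≠ 0,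
        (∑ i : Fin n, w * (Pi.single i0 (1 : F) : Fin n → F) i *
          (w * (Pi.single i0 (1 : F) : Fin n → F) i) ^ q) = w ^ (q + 1) := by
      intro w hq
      rw [Finset.sum_eq_single i0]
      · simp [pow_succ']
      · intro b _ hb
        simp [hb]
      · intro h; exact absurd (Finset.mem_univ _) h
    have hq : q ≠ 0 := by
      rintro rfl
      simp at hF
    have h1 := key (M i0 i0) hq
    have h2 := key 1 hq
    simp only [one_mul, one_pow] at h2
    rw [← h1, h, h2]
  exact ⟨M i0 i0, hpn, hpq, Subtype.ext (Subtype.ext hMd)⟩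

end Cfsg.Agent.LieClassical.SUBasic
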