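import Mathlib
import Cfsg.Agent.LieClassical.HermGen
set_option linter.all false

/-!
# Normal subgroups of `SU n F q`, `n ≥ 3`

If `SU n F q` is perfect, a normal subgroup not contained in the centre is everything; hence
`PSU n F q` is simple.
-/

set_option autoImplicit false

namespace Cfsg.Agent.LieClassical.HermSimple

open Cfsg Cfsg.Agent.LieClassical.HermBasic Cfsg.Agent.LieClassical.HermSiegel
  Cfsg.Agent.LieClassical.HermGen Matrix
open scoped commutatorElement

variable {F : Type*} [Field F] {q n : ℕ}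

theorem mem_center_of_scalar {g : SU n F q} {d : F} (h : ∀ v, act g v = d • v) :
    g ∈ Subgroup.center (SU n F q) := by
  rw [Subgroup.mem_center_iff]
  intro x
  apply ext_act
  intro v
  rw [act_mul, act_mul, h, h, act_smul]

variable [Fintype F]

/-- An element mapping every isotropic vector to a multiple of itself is scalar. -/
theorem scalar_of_fix_iso (hF : Fintype.card F = q ^ 2) (hn : 3 ≤ n) {g : SU n F q}
    (h : ∀ u : Fin n → F, hermForm n F q u u = 0 → ∃ c : F, act g u = c • u) :
    ∃ d : F, ∀ v, act g v = d • v := by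
  -- `g` is diagonal
  have hoff : ∀ i l : Fin n, l ≠ i → mat g l i = 0 := by
    intro i l hli
    obtain ⟨j, hj⟩ : ∃ j : Fin n, j ∉ ({i, l} : Finset (Fin n)) := by
      by_contra hcon
      push Not at hcon
      have h1 : (Finset.univ : Finset (Fin n)).card ≤ ({i, l} : Finset (Fin n)).card :=
        Finset.card_le_card fun k _ => hcon k
      have h2 : ({i, l} : Finset (Fin n)).card ≤ 2 := Finset.card_le_two
      rw [Finset.card_univ, Fintype.card_fin] at h1
      omega
    simp only [Finset.mem_insert, Finset.mem_singleton, not_or] at hj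
    obtain ⟨hji, hjl⟩ := hj
    obtain ⟨p, p', a, b, ha, hp, hp', hpp, hp'p', hpp'⟩ := exists_hyp_pair (q := q) hF (Ne.symm hji)
    obtain ⟨c, hc⟩ := h p hpp
    obtain ⟨c', hc'⟩ := h p' hp'p'
    have hi : (Pi.single i 1 : Fin n → F) = p' - b • p := by rw [hp', add_sub_cancel_right]
    have hpl : p l = 0 := by
      rw [hp, Pi.add_apply, Pi.smul_apply, Pi.single_eq_of_ne hli, Pi.single_eq_of_ne (Ne.symm hjl)]
      simp
    have hp'l : p' l = 0 := by
      rw [hp', Pi.add_apply, Pi.smul_apply, Pi.single_eq_of_ne hli, hpl]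
      simp
    rw [← act_single, hi, act_sub, act_smul, hc, hc']
    simp [hpl, hp'l]
  have hdiag : ∀ i, act g (Pi.single i 1) = mat g i i • (Pi.single i 1 : Fin n → F) := by
    intro i
    funext l
    rw [act_single, Pi.smul_apply]
    by_cases hl : l = i
    · subst hl; simp
    · rw [hoff i l hl, Pi.single_eq_of_ne hl]; simp
  have hconst : ∀ i j : Fin n, mat g i i = mat g j j := by
    intro i j
    rcases eq_or_ne i j with rfl | hij
    · rfl
    obtain ⟨p, p', a, b, ha, hp, hp', hpp, hp'p', hpp'⟩ := exists_hyp_pair (q := q) hF hij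
    obtain ⟨c, hc⟩ := h p hpp
    rw [hp, act_add, act_smul, hdiag, hdiag] at hc
    have h1 := congrFun hc i
    have h2 := congrFun hc j
    simp only [Pi.add_apply, Pi.smul_apply, Pi.single_eq_same, Pi.single_eq_of_ne hij,
      Pi.single_eq_of_ne hij.symm, smul_eq_mul, mul_one, mul_zero, add_zero, zero_add] at h1 h2
    have h3 : mat g j j = c := by
      apply mul_left_cancel₀ ha
      rw [h2, mul_comm]
    rw [h1, h3]
  let i0 : Fin n := ⟨0, by omega⟩
  refine ⟨mat g i0 i0, fun v => ?_⟩
  have hv : v = ∑ i, v i • (Pi.single i 1 : Fin n → F) := by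
    funext j
    rw [Finset.sum_apply, Finset.sum_eq_single j]
    · simp
    · intro b _ hb
      rw [Pi.smul_apply, Pi.single_eq_of_ne hb.symm, smul_zero]
    · intro h; exact absurd (Finset.mem_univ _) h
  conv_lhs => rw [hv]
  conv_rhs => rw [hv]
  rw [act_sum, Finset.smul_sum]
  refine Finset.sum_congr rfl fun i _ => ?_
  rw [act_smul, hdiag, hconst i i0, smul_comm]

/-- A nonzero isotropic vector has a hyperbolic partner. -/
theorem exists_partner (hF : Fintype.card F = q ^ 2) {u : Fin n → F} (hu0 : u ≠ 0)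
    (hu : hermForm n F q u u = 0) :
    ∃ u' : Fin n → F, hermForm n F q u' u' = 0 ∧ hermForm n F q u u' = 1 := by
  obtain ⟨x, hx⟩ := exists_herm_ne_zero hF hu0
  obtain ⟨t, ht⟩ := exists_iso_correct hF hu hx
  have h1 : hermForm n F q u (x + t • u) = hermForm n F q u x := by
    rw [herm_add_right hF, herm_smul_right, hu, mul_zero, add_zero]
  -- scale
  refine ⟨((hermForm n F q u x)⁻¹ ^ q) • (x + t • u), ?_, ?_⟩
  · rw [herm_smul_left, herm_smul_right, ht, mul_zero, mul_zero]
  · rw [herm_smul_right, h1, pow_q_pow_q hF, inv_mul_cancel₀ hx]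

/-- If `g u ⟂ u` for all isotropic `u` then `g` fixes every isotropic point. -/
theorem fix_of_orth (hF : Fintype.card F = q ^ 2) {g : SU n F q}
    (h : ∀ u : Fin n → F, hermForm n F q u u = 0 → hermForm n F q u (act g u) = 0) :
    ∀ u : Fin n → F, hermForm n F q u u = 0 → ∃ c : F, act g u = c • u := by
  intro u hu
  by_cases hu0 : u = 0
  · exact ⟨0, by rw [hu0, act_zero, smul_zero]⟩
  obtain ⟨u', hu', huu'⟩ := exists_partner hF hu0 hu
  have hu'u : hermForm n F q u' u = 1 := by rw [herm_swap hF u u', huu', one_pow]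
  obtain ⟨κ, hκ0, hκ⟩ := exists_trace_zero_ne hF
  -- the key orthogonality
  have key : ∀ w : Fin n → F, hermForm n F q w u = 0 → hermForm n F q w u' = 0 →
      hermForm n F q w (act g u) = 0 := by
    intro w hwu hwu'
    have huw : hermForm n F q u w = 0 := herm_eq_zero_swap hF hwu
    have hu'w : hermForm n F q u' w = 0 := herm_eq_zero_swap hF hwu'
    have A : ∀ s : F, hermForm n F q u (act g u') - hermForm n F q u' (act g u) +
        s ^ q * hermForm n F q u (act g w) - s * hermForm n F q w (act g u) = 0 := by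
      intro s
      obtain ⟨μ, hμ⟩ := exists_trace_eq hF (c := -(s * s ^ q * hermForm n F q w w))
        (by rw [neg_pow_q hF, mul_pow, norm_pow_q hF, herm_self_pow hF])
      have iso : ∀ ν : F, ν + ν ^ q = -(s * s ^ q * hermForm n F q w w) →
          hermForm n F q (u' + s • w + ν • u) (u' + s • w + ν • u) = 0 := by
        intro ν hν
        simp only [herm_add_left, herm_add_right hF, herm_smul_left, herm_smul_right, hu, hu',
          huu', hu'u, huw, hwu, hu'w, hwu']
        linear_combination hν
      have e1 := h _ (iso μ hμ)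
      have e2 := h _ (iso (μ + κ) (by
        rw [add_pow_q hF]
        linear_combination hμ + hκ))
      have e3 := h u hu
      simp only [act_add, act_smul, herm_add_left, herm_add_right hF, herm_smul_left,
        herm_smul_right, add_pow_q hF, e3] at e1 e2
      have hκq : κ ^ q = -κ := (neg_eq_of_add_eq_zero_right hκ).symm
      rw [hκq] at e2
      apply mul_left_cancel₀ hκ0
      linear_combination e2 - e1
    have A0 := A 0
    have A1 := A 1
    obtain ⟨s, hs⟩ := exists_not_fixed hF
    have As := A s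
    rw [zero_pow_q hF] at A0
    rw [one_pow] at A1
    have h1 : (s ^ q - s) * hermForm n F q w (act g u) = 0 := by
      linear_combination As - s ^ q * A1 - (1 - s ^ q) * A0
    exact (mul_eq_zero.1 h1).resolve_left (sub_ne_zero.2 hs)
  refine ⟨hermForm n F q (act g u) u', ?_⟩
  rw [← sub_eq_zero]
  apply herm_nondeg hF
  intro v
  set w : Fin n → F := v - hermForm n F q v u' • u - hermForm n F q v u • u' with hw
  have hwu : hermForm n F q w u = 0 := by
    rw [hw]
    simp only [herm_sub_left, herm_smul_left, hu, hu'u]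
    ring
  have hwu' : hermForm n F q w u' = 0 := by
    rw [hw]
    simp only [herm_sub_left, herm_smul_left, hu', huu']
    ring
  have hv : v = w + hermForm n F q v u' • u + hermForm n F q v u • u' := by
    rw [hw]; abel
  have h1 : hermForm n F q (act g u) w = 0 := herm_eq_zero_swap hF (key w hwu hwu')
  have h2 : hermForm n F q u w = 0 := herm_eq_zero_swap hF hwu
  have h3 : hermForm n F q (act g u) u = 0 := herm_eq_zero_swap hF (h u hu)
  rw [hv]
  simp only [herm_sub_left, herm_smul_left, herm_add_right hF, herm_smul_right, h1, h2, h3, hu,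
    huu']
  ring

/-- A normal subgroup moving an isotropic vector `u` to a vector not orthogonal to `u` is transitive
on isotropic points. -/
theorem exists_normal_map (hF : Fintype.card F = q ^ 2) (hn : 3 ≤ n) {N : Subgroup (SU n F q)}
    [hN : N.Normal] {g : SU n F q} (hg : g ∈ N) {u : Fin n → F}
    (hu : hermForm n F q u u = 0) (hgu : hermForm n F q u (act g u) ≠ 0) {v z : Fin n → F}
    (hv0 : v ≠ 0) (hz0 : z ≠ 0) (hv : hermForm n F q v v = 0) (hz : hermForm n F q z z = 0) :
    ∃ m ∈ N, ∃ c : F, c ≠ 0 ∧ act m v = c • z := by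
  have hu0 : u ≠ 0 := by
    rintro rfl
    exact hgu (herm_zero_left _)
  have stepA : ∀ v : Fin n → F, v ≠ 0 → hermForm n F q v v = 0 →
      ∃ g' ∈ N, hermForm n F q v (act g' v) ≠ 0 := by
    intro v hv0 hv
    obtain ⟨x, -, hx⟩ := exists_map_iso hF hn le_rfl (mem_coordSub_top u) (mem_coordSub_top v)
      hu0 hv0 hu hv
    refine ⟨x * g * x⁻¹, hN.conj_mem g hg x, ?_⟩
    rw [← hx, act_mul, act_mul, act_inv_act, herm_act]
    exact hgu
  have stepB : ∀ v z : Fin n → F, v ≠ 0 → hermForm n F q v v = 0 → hermForm n F q z z = 0 →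
      hermForm n F q v z ≠ 0 → ∃ m ∈ N, ∃ c : F, c ≠ 0 ∧ act m v = c • z := by
    intro v z hv0 hv hz hvz
    obtain ⟨g', hg', hgv⟩ := stepA v hv0 hv
    set y := act g' v with hy
    have hzv : hermForm n F q z v ≠ 0 := by
      rw [herm_swap hF v z]; exact pow_ne_zero _ hvz
    have hyv : hermForm n F q y v ≠ 0 := by
      rw [herm_swap hF v y]; exact pow_ne_zero _ hgv
    set c := hermForm n F q y v / hermForm n F q z v with hc
    have hc0 : c ≠ 0 := div_ne_zero hyv hzv
    obtain ⟨c', μ, hs, hact⟩ := exists_siegel_map hF hv (v := y) (v' := c • z)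
      (by rw [hy, herm_act, hv, herm_smul_left, herm_smul_right, hz, mul_zero, mul_zero])
      (by rw [herm_smul_left, hc, div_mul_cancel₀ _ hzv]) hyv
    set ρ := siegel hF v (c' • (c • z - y)) μ hs with hρ
    refine ⟨ρ * g' * ρ⁻¹, hN.conj_mem g' hg' ρ, c, hc0, ?_⟩
    have hfix : act ρ⁻¹ v = v := ((act_eq_iff ρ).1 (act_siegel_self hF hs)).symm
    rw [act_mul, act_mul, hfix, ← hy, hact]
  by_cases hvz : hermForm n F q v z = 0
  · obtain ⟨z', -, hz', hvz', hzz'⟩ := exists_iso_common hF (mem_coordSub_top v)
      (mem_coordSub_top z) hv0 hz0 hv hvz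
    have hz'0 : z' ≠ 0 := by
      rintro rfl
      exact hvz' (herm_zero_right hF _)
    have hz'z : hermForm n F q z' z ≠ 0 := by
      rw [herm_swap hF z z']; exact pow_ne_zero _ hzz'
    obtain ⟨m, hm, c, hc, hmv⟩ := stepB v z' hv0 hv hz' hvz'
    obtain ⟨m', hm', c', hc', hmz⟩ := stepB z' z hz'0 hz' hz hz'z
    refine ⟨m' * m, N.mul_mem hm' hm, c * c', mul_ne_zero hc hc', ?_⟩
    rw [act_mul, hmv, act_smul, hmz, smul_smul]
  · exact stepB v z hv0 hv hz hvz

/-- The commutator of two Siegel transformations of the same isotropic vector. -/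
theorem IsSiegel.comm (hF : Fintype.card F = q ^ 2) {u w w' : Fin n → F} {μ μ' : F}
    (h : IsSiegel q u w μ) (_h' : IsSiegel q u w' μ') :
    IsSiegel q u 0 (hermForm n F q w w' - hermForm n F q w' w) := by
  refine ⟨h.iso, herm_zero_left u, ?_⟩
  rw [sub_pow_q hF, ← herm_swap hF, ← herm_swap hF, herm_zero_left]
  ring

theorem commutator_siegel (hF : Fintype.card F = q ^ 2) {u w w' : Fin n → F} {μ μ' : F}
    (h : IsSiegel q u w μ) (h' : IsSiegel q u w' μ') :
    ⁅siegel hF u w μ h, siegel hF u w' μ' h'⁆ =
      siegel hF u 0 (hermForm n F q w w' - hermForm n F q w' w) (IsSiegel.comm hF h h') := by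
  rw [commutatorElement_def, mul_inv_eq_iff_eq_mul, mul_inv_eq_iff_eq_mul, mul_assoc,
    siegel_mul, siegel_mul, siegel_mul]
  apply siegel_congr
  · rfl
  · rw [zero_add, add_comm]
  · rw [herm_zero_right hF]; ring

theorem siegel_central (hF : Fintype.card F = q ^ 2) {u w : Fin n → F} {μ κ : F}
    (h : IsSiegel q u w μ) (h' : IsSiegel q u 0 κ) :
    siegel hF u w μ h * siegel hF u 0 κ h' = siegel hF u 0 κ h' * siegel hF u w μ h := by
  rw [siegel_mul, siegel_mul]
  apply siegel_congr
  · rfl
  · rw [zero_add, add_zero]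
  · rw [herm_zero_left, herm_zero_right hF]; ring

/-- Normal subgroups of a perfect `SU n F q`, `n ≥ 3`. -/
theorem normal_eq_top_of_perfect (hF : Fintype.card F = q ^ 2) (hn : 3 ≤ n)
    (hperf : commutator (SU n F q) = ⊤) {N : Subgroup (SU n F q)} [hN : N.Normal]
    (hNc : ¬ N ≤ Subgroup.center (SU n F q)) : N = ⊤ := by
  -- an element of `N` and an isotropic `u` with `g u` not orthogonal to `u`
  obtain ⟨g, hg, u, hu, hgu⟩ : ∃ g ∈ N, ∃ u : Fin n → F, hermForm n F q u u = 0 ∧
      hermForm n F q u (act g u) ≠ 0 := by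
    by_contra hcon
    push Not at hcon
    apply hNc
    intro g hg
    obtain ⟨d, hd⟩ := scalar_of_fix_iso hF hn (fix_of_orth hF (hcon g hg))
    exact mem_center_of_scalar hd
  have hu0 : u ≠ 0 := by
    rintro rfl
    exact hgu (herm_zero_left _)
  -- every element is congruent to a Siegel transformation of `u` modulo `N`
  have hrep : ∀ x : SU n F q, ∃ (w : Fin n → F) (μ : F) (hs : IsSiegel q u w μ),
      (QuotientGroup.mk x : SU n F q ⧸ N) = QuotientGroup.mk (siegel hF u w μ hs) := by
    intro x
    have hx : x ∈ siegelGroup hF n := by rw [siegelGroup_eq_top hF hn]; trivial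
    induction hx using Subgroup.closure_induction with
    | mem x hx =>
      obtain ⟨v, w, μ, hs, rfl⟩ := hx
      by_cases hv0 : v = 0
      · refine ⟨0, 0, IsSiegel.zero hF hu, ?_⟩
        rw [siegel_zero]
        congr 1
        apply ext_act
        intro y
        rw [act_siegel, act_one]
        subst hv0
        rw [herm_zero_right hF]
        simp
      · obtain ⟨m, hm, c, hc, hmv⟩ := exists_normal_map hF hn hg hu hgu hv0 hu0 hs.iso hu
        have h1 : m * siegel hF v w μ hs * m⁻¹ =
            siegel hF (c • u) (act m w) μ (hmv ▸ hs.map m) := by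
          rw [conj_siegel]
          exact siegel_congr hF _ _ hmv rfl rfl
        have hs' : IsSiegel q u (act m w) μ := by
          have h2 : IsSiegel q (c • u) (act m w) μ := hmv ▸ hs.map m
          refine ⟨hu, ?_, h2.tr⟩
          have h3 := h2.orth
          rw [herm_smul_right] at h3
          exact (mul_eq_zero.1 h3).resolve_left (pow_ne_zero _ hc)
        have h2 : siegel hF (c • u) (act m w) μ (hmv ▸ hs.map m) =
            siegel hF u (c ^ q • act m w) (c * c ^ q * μ) (hs'.smul' hF) := siegel_smul hF hs'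
        refine ⟨_, _, hs'.smul' (c := c) hF, ?_⟩
        rw [← h2, ← h1]
        have hm1 : (QuotientGroup.mk m : SU n F q ⧸ N) = 1 := (QuotientGroup.eq_one_iff m).2 hm
        rw [QuotientGroup.mk_mul, QuotientGroup.mk_mul, QuotientGroup.mk_inv, hm1]
        simp
    | one => exact ⟨0, 0, IsSiegel.zero hF hu, by rw [siegel_zero]⟩
    | mul x y _ _ hx hy =>
      obtain ⟨w, μ, hs, h1⟩ := hx
      obtain ⟨w', μ', hs', h2⟩ := hy
      exact ⟨_, _, hs.mul hF hs', by
        rw [QuotientGroup.mk_mul, h1, h2, ← QuotientGroup.mk_mul, siegel_mul]⟩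
    | inv x _ hx =>
      obtain ⟨w, μ, hs, h1⟩ := hx
      exact ⟨_, _, hs.inv hF, by
        rw [QuotientGroup.mk_inv, h1, ← QuotientGroup.mk_inv, siegel_inv]⟩
  -- the quotient is perfect
  have hperf' : commutator (SU n F q ⧸ N) = ⊤ := by
    have h1 := Subgroup.map_commutator (⊤ : Subgroup (SU n F q)) ⊤ (QuotientGroup.mk' N)
    rw [← commutator_def, hperf, Subgroup.map_top_of_surjective _ (QuotientGroup.mk'_surjective N),
      ← commutator_def] at h1
    exact h1.symm
  -- and of class at most two
  have hcent : commutator (SU n F q ⧸ N) ≤ Subgroup.center (SU n F q ⧸ N) := by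
    rw [commutator_def, Subgroup.commutator_le]
    intro a _ b _
    induction a using QuotientGroup.induction_on with | H a => ?_
    induction b using QuotientGroup.induction_on with | H b => ?_
    obtain ⟨w, μ, hs, h1⟩ := hrep a
    obtain ⟨w', μ', hs', h2⟩ := hrep b
    have h3 : ⁅(QuotientGroup.mk a : SU n F q ⧸ N), (QuotientGroup.mk b : SU n F q ⧸ N)⁆ =
        QuotientGroup.mk (siegel hF u 0 _ (IsSiegel.comm hF hs hs')) := by
      rw [h1, h2, ← commutator_siegel hF hs hs']
      rfl
    rw [h3, Subgroup.mem_center_iff]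
    intro c
    induction c using QuotientGroup.induction_on with | H c => ?_
    obtain ⟨w'', μ'', hs'', h4⟩ := hrep c
    rw [h4, ← QuotientGroup.mk_mul, ← QuotientGroup.mk_mul, siegel_central]
  rw [hperf', top_le_iff] at hcent
  have habel : commutator (SU n F q ⧸ N) = ⊥ := by
    rw [commutator_def, Subgroup.commutator_eq_bot_iff_le_centralizer,
      Subgroup.coe_top, Subgroup.centralizer_univ, hcent]
  rw [hperf'] at habel
  rw [eq_top_iff]
  intro x _
  rw [← QuotientGroup.eq_one_iff]
  have : (QuotientGroup.mk x : SU n F q ⧸ N) ∈ (⊤ : Subgroup (SU n F q ⧸ N)) := trivial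
  rw [habel] at this
  exact Subgroup.mem_bot.1 this

/-- `SU n F q`, `n ≥ 3`, is not abelian. -/
theorem center_ne_top (hF : Fintype.card F = q ^ 2) (hn : 3 ≤ n) :
    Subgroup.center (SU n F q) ≠ ⊤ := by
  intro htop
  let i0 : Fin n := ⟨0, by omega⟩
  let i1 : Fin n := ⟨1, by omega⟩
  have h01 : i0 ≠ i1 := by simp [i0, i1]
  obtain ⟨p, p', a, b, ha, hp, hp', hpp, hp'p', hpp'⟩ := exists_hyp_pair (q := q) hF h01
  have hp0 : p ≠ 0 := by
    rintro h
    rw [h, herm_zero_left] at hpp'
    exact zero_ne_one hpp'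
  have hp'0 : p' ≠ 0 := by
    rintro h
    rw [h, herm_zero_right hF] at hpp'
    exact zero_ne_one hpp'
  have hp'p : hermForm n F q p' p = 1 := by rw [herm_swap hF p p', hpp', one_pow]
  obtain ⟨κ, hκ0, hκ⟩ := exists_trace_zero_ne hF
  have hs : IsSiegel q p 0 κ := ⟨hpp, herm_zero_left p, by rw [herm_zero_left, add_zero]; exact hκ⟩
  obtain ⟨x, -, hx⟩ := exists_map_iso hF hn le_rfl (mem_coordSub_top p) (mem_coordSub_top p')
    hp0 hp'0 hpp hp'p'
  have hmem : siegel hF p 0 κ hs ∈ Subgroup.center (SU n F q) := by rw [htop]; trivial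
  have hcomm := Subgroup.mem_center_iff.1 hmem x
  have h1 := congrArg (fun y => act y p) hcomm
  simp only [act_mul, act_siegel_self, hx] at h1
  rw [act_siegel, hp'p, herm_zero_right hF] at h1
  simp only [smul_zero, add_zero, mul_one, sub_zero] at h1
  have h2 : κ • p = 0 := by
    have := congrArg (fun y => y - p') h1
    simpa using this.symm
  rcases smul_eq_zero.1 h2 with h | h
  · exact hκ0 h
  · exact hp0 h

/-- `PSU n F q`, `n ≥ 3`, is simple as soon as `SU n F q` is perfect. -/
theorem isSimpleGroup_of_perfect (hF : Fintype.card F = q ^ 2) (hn : 3 ≤ n)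
    (hperf : commutator (SU n F q) = ⊤) : IsSimpleGroup (PSU n F q) := by
  have hne := center_ne_top (q := q) hF hn
  have hnt : Nontrivial (PSU n F q) := by
    rw [QuotientGroup.nontrivial_iff]
    exact hne
  refine { exists_pair_ne := hnt.exists_pair_ne, eq_bot_or_eq_top_of_normal := ?_ }
  intro K hK
  have hN : (K.comap (QuotientGroup.mk' (Subgroup.center (SU n F q)))).Normal := hK.comap _
  by_cases hle : K.comap (QuotientGroup.mk' (Subgroup.center (SU n F q))) ≤
      Subgroup.center (SU n F q)
  · left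
    rw [eq_bot_iff]
    intro x hx
    induction x using QuotientGroup.induction_on with | H x => ?_
    have hx' : x ∈ K.comap (QuotientGroup.mk' (Subgroup.center (SU n F q))) := hx
    rw [Subgroup.mem_bot, QuotientGroup.eq_one_iff]
    exact hle hx'
  · right
    have htop := normal_eq_top_of_perfect hF hn hperf hle
    rw [eq_top_iff]
    intro x _
    induction x using QuotientGroup.induction_on with | H x => ?_
    have hx' : x ∈ K.comap (QuotientGroup.mk' (Subgroup.center (SU n F q))) := by
      rw [htop]; trivial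
    exact hx'

end Cfsg.Agent.LieClassical.HermSimple
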