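import Mathlib
set_option linter.all false

/-!
Orthogonal groups of nondegenerate quadratic forms over an arbitrary field (all characteristics):
isometry group `O Q`, Siegel (Eichler) transformations, reflections, generation of `O Q`.
-/

set_option autoImplicit false

namespace Cfsg.Agent.LieClassical.OrthCore

open QuadraticMap

variable {F V : Type*} [Field F] [AddCommGroup V] [Module F V]

/-! ### Isometries -/

/-- The isometry group of `Q`, as a subgroup of the linear automorphisms of `V`. -/
def O (Q : QuadraticForm F V) : Subgroup (V ≃ₗ[F] V) where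
  carrier := {g | ∀ v, Q (g v) = Q v}
  mul_mem' {a b} ha hb := fun v => by
    show Q (a (b v)) = Q v
    rw [ha, hb]
  one_mem' := fun v => rfl
  inv_mem' {a} ha := fun v => by
    have h := ha (a⁻¹ v)
    have h2 : a (a⁻¹ v) = v := LinearEquiv.apply_symm_apply a v
    rw [h2] at h
    exact h.symm

variable {Q : QuadraticForm F V}

theorem mem_O {g : V ≃ₗ[F] V} : g ∈ O Q ↔ ∀ v, Q (g v) = Q v := Iff.rfl

theorem Q_add (x y : V) : Q (x + y) = Q x + Q y + polar Q x y := QuadraticMap.map_add Q x y

theorem polar_map {g : V ≃ₗ[F] V} (hg : g ∈ O Q) (x y : V) :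
    polar Q (g x) (g y) = polar Q x y := by
  simp only [polar, ← map_add, mem_O.1 hg]

theorem polar_self' (u : V) : polar Q u u = 2 * Q u := by
  rw [QuadraticMap.polar_self, two_smul, two_mul]

theorem polar_self_of_sing {u : V} (hu : Q u = 0) : polar Q u u = 0 := by
  rw [polar_self', hu, mul_zero]

/-! ### Siegel transformations -/

/-- The linear map `v ↦ v + b(u,v) w - b(w,v) u - Q(w) b(u,v) u`. -/
def siegelLin (Q : QuadraticForm F V) (u w : V) : V →ₗ[F] V :=
  LinearMap.id + (polarBilin Q u).smulRight w - (polarBilin Q w).smulRight u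
    - Q w • (polarBilin Q u).smulRight u

theorem siegelLin_apply (u w v : V) :
    siegelLin Q u w v = v + polar Q u v • w - polar Q w v • u - (Q w * polar Q u v) • u := by
  simp only [siegelLin, LinearMap.sub_apply, LinearMap.add_apply, LinearMap.id_apply,
    LinearMap.smulRight_apply, polarBilin_apply_apply, LinearMap.smul_apply, smul_smul]

theorem siegelLin_comp {u w w' : V} (hu : Q u = 0) (hw : polar Q u w = 0)
    (hw' : polar Q u w' = 0) (v : V) :
    siegelLin Q u w (siegelLin Q u w' v) = siegelLin Q u (w + w') v := by
  have huu : polar Q u u = 0 := polar_self_of_sing hu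
  have hwu : polar Q w u = 0 := by rw [polar_comm]; exact hw
  simp only [siegelLin_apply, polar_add_right, polar_sub_right, polar_smul_right,
    polar_add_left, huu, hw', hwu, Q_add, smul_eq_mul, mul_zero]
  module

/-- The Siegel (Eichler) transformation `v ↦ v + b(u,v) w - b(w,v) u - Q(w) b(u,v) u`,
for `u` singular and `w` orthogonal to `u`. -/
def siegel (Q : QuadraticForm F V) (u w : V) (hu : Q u = 0) (hw : polar Q u w = 0) :
    V ≃ₗ[F] V :=
  LinearEquiv.ofLinearMap (siegelLin Q u w) (siegelLin Q u (-w))
    (by
      ext v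
      have hw' : polar Q u (-w) = 0 := by rw [polar_neg_right, hw, neg_zero]
      rw [LinearMap.comp_apply, siegelLin_comp hu hw hw', siegelLin_apply]
      simp)
    (by
      ext v
      have hw' : polar Q u (-w) = 0 := by rw [polar_neg_right, hw, neg_zero]
      rw [LinearMap.comp_apply, siegelLin_comp hu hw' hw, siegelLin_apply]
      simp)

theorem siegel_apply {u w : V} (hu : Q u = 0) (hw : polar Q u w = 0) (v : V) :
    siegel Q u w hu hw v
      = v + polar Q u v • w - polar Q w v • u - (Q w * polar Q u v) • u :=
  siegelLin_apply u w v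

theorem siegel_mul {u w w' : V} (hu : Q u = 0) (hw : polar Q u w = 0)
    (hw' : polar Q u w' = 0) (h : polar Q u (w + w') = 0) :
    siegel Q u w hu hw * siegel Q u w' hu hw' = siegel Q u (w + w') hu h := by
  ext v
  exact siegelLin_comp hu hw hw' v

theorem siegel_mem_O {u w : V} (hu : Q u = 0) (hw : polar Q u w = 0) :
    siegel Q u w hu hw ∈ O Q := by
  intro v
  have hwu : polar Q w u = 0 := by rw [polar_comm]; exact hw
  have e : siegel Q u w hu hw v = v + (polar Q u v • w +
      (-(polar Q w v + Q w * polar Q u v)) • u) := by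
    rw [siegel_apply]; module
  have hvw : polar Q v w = polar Q w v := polar_comm _ _ _
  have hvu : polar Q v u = polar Q u v := polar_comm _ _ _
  rw [e, Q_add, Q_add, QuadraticMap.map_smul,
    QuadraticMap.map_smul, polar_add_right, polar_smul_right, polar_smul_right,
    polar_smul_left, polar_smul_right, hwu, hu, hvw, hvu]
  simp only [smul_eq_mul]
  ring

theorem siegel_conj {g : V ≃ₗ[F] V} (hg : g ∈ O Q) {u w : V} (hu : Q u = 0)
    (hw : polar Q u w = 0) (hu' : Q (g u) = 0) (hw' : polar Q (g u) (g w) = 0) :
    g * siegel Q u w hu hw * g⁻¹ = siegel Q (g u) (g w) hu' hw' := by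
  ext v
  obtain ⟨v, rfl⟩ := g.surjective v
  have h1 : (g * siegel Q u w hu hw * g⁻¹) (g v) = g (siegel Q u w hu hw v) := by
    show g (siegel Q u w hu hw (g.symm (g v))) = _
    rw [LinearEquiv.symm_apply_apply]
  rw [h1, siegel_apply, siegel_apply, polar_map hg, polar_map hg, mem_O.1 hg]
  simp only [map_add, map_sub, map_smul]

/-! ### Reflections -/

/-- The linear map `x ↦ x - Q(v)⁻¹ b(v,x) v`. -/
def reflLin (Q : QuadraticForm F V) (v : V) : V →ₗ[F] V :=
  LinearMap.id - (Q v)⁻¹ • (polarBilin Q v).smulRight v

theorem reflLin_apply (v x : V) :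
    reflLin Q v x = x - ((Q v)⁻¹ * polar Q v x) • v := by
  simp only [reflLin, LinearMap.sub_apply, LinearMap.id_apply, LinearMap.smul_apply,
    LinearMap.smulRight_apply, polarBilin_apply_apply, smul_smul]

theorem reflLin_reflLin {v : V} (hv : Q v ≠ 0) (x : V) :
    reflLin Q v (reflLin Q v x) = x := by
  simp only [reflLin_apply, polar_sub_right, polar_smul_right, polar_self', smul_eq_mul]
  match_scalars
  · ring
  · field_simp
    ring

/-- The reflection (orthogonal transvection in characteristic two) `x ↦ x - Q(v)⁻¹ b(v,x) v`. -/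
def refl (Q : QuadraticForm F V) (v : V) (hv : Q v ≠ 0) : V ≃ₗ[F] V :=
  LinearEquiv.ofLinearMap (reflLin Q v) (reflLin Q v)
    (by ext x; exact reflLin_reflLin hv x) (by ext x; exact reflLin_reflLin hv x)

theorem refl_apply {v : V} (hv : Q v ≠ 0) (x : V) :
    refl Q v hv x = x - ((Q v)⁻¹ * polar Q v x) • v := reflLin_apply v x

theorem refl_mem_O {v : V} (hv : Q v ≠ 0) : refl Q v hv ∈ O Q := by
  intro x
  have e : refl Q v hv x = x + (-((Q v)⁻¹ * polar Q v x)) • v := by
    rw [refl_apply]; module
  rw [e, Q_add, QuadraticMap.map_smul, polar_smul_right, polar_comm Q x v]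
  simp only [smul_eq_mul]
  field_simp
  ring

theorem refl_mul_self {v : V} (hv : Q v ≠ 0) : refl Q v hv * refl Q v hv = 1 := by
  ext x
  exact reflLin_reflLin hv x

theorem refl_inv {v : V} (hv : Q v ≠ 0) : (refl Q v hv)⁻¹ = refl Q v hv :=
  inv_eq_of_mul_eq_one_left (refl_mul_self hv)

theorem refl_conj {g : V ≃ₗ[F] V} (hg : g ∈ O Q) {v : V} (hv : Q v ≠ 0)
    (hv' : Q (g v) ≠ 0) :
    g * refl Q v hv * g⁻¹ = refl Q (g v) hv' := by
  ext x
  obtain ⟨x, rfl⟩ := g.surjective x
  have h1 : (g * refl Q v hv * g⁻¹) (g x) = g (refl Q v hv x) := by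
    show g (refl Q v hv (g.symm (g x))) = _
    rw [LinearEquiv.symm_apply_apply]
  rw [h1, refl_apply, refl_apply, polar_map hg, mem_O.1 hg]
  simp only [map_sub, map_smul]

theorem refl_smul {v : V} (hv : Q v ≠ 0) {a : F} (ha : a ≠ 0) (hv' : Q (a • v) ≠ 0) :
    refl Q (a • v) hv' = refl Q v hv := by
  ext x
  rw [refl_apply, refl_apply, QuadraticMap.map_smul, polar_smul_left, smul_smul]
  congr 2
  simp only [smul_eq_mul]
  field_simp

/-- If `Q x = Q y` and `Q (y - x) ≠ 0`, the reflection in `y - x` maps `y` to `x`. -/
theorem refl_sub_apply {x y : V} (h : Q x = Q y) (hv : Q (y - x) ≠ 0) :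
    refl Q (y - x) hv y = x := by
  have h1 : Q (y - x) = polar Q (y - x) y := by
    have e := QuadraticMap.map_add Q x (y - x)
    rw [add_sub_cancel, h] at e
    have e2 : polar Q x (y - x) = - Q (y - x) := by linear_combination -e
    have e3 : polar Q (y - x) y = polar Q x (y - x) + polar Q (y - x) (y - x) := by
      rw [polar_comm Q x, ← polar_add_right, add_sub_cancel]
    rw [e3, e2, polar_self']
    ring
  rw [refl_apply, ← h1, inv_mul_cancel₀ hv, one_smul, sub_sub_cancel]

/-- Orthogonal reflections commute. -/
theorem refl_comm {v w : V} (hv : Q v ≠ 0) (hw : Q w ≠ 0) (h : polar Q v w = 0) :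
    refl Q v hv * refl Q w hw = refl Q w hw * refl Q v hv := by
  ext x
  show refl Q v hv (refl Q w hw x) = refl Q w hw (refl Q v hv x)
  have h' : polar Q w v = 0 := by rw [polar_comm]; exact h
  simp only [refl_apply, polar_sub_right, polar_smul_right, h, h']
  module

/-! ### Generation of the isometry group by reflections and Siegel transformations -/

/-- The set of all Siegel transformations. -/
def siegelSet (Q : QuadraticForm F V) : Set (V ≃ₗ[F] V) :=
  {g | ∃ (u w : V) (hu : Q u = 0) (hw : polar Q u w = 0), g = siegel Q u w hu hw}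

/-- The set of all reflections. -/
def reflSet (Q : QuadraticForm F V) : Set (V ≃ₗ[F] V) :=
  {g | ∃ (v : V) (hv : Q v ≠ 0), g = refl Q v hv}

/-- The group generated by all Siegel transformations. -/
def E (Q : QuadraticForm F V) : Subgroup (V ≃ₗ[F] V) := Subgroup.closure (siegelSet Q)

theorem siegel_mem_E {u w : V} (hu : Q u = 0) (hw : polar Q u w = 0) :
    siegel Q u w hu hw ∈ E Q :=
  Subgroup.subset_closure ⟨u, w, hu, hw, rfl⟩

theorem E_le_O : E Q ≤ O Q := by
  rw [E, Subgroup.closure_le]
  rintro _ ⟨u, w, hu, hw, rfl⟩
  exact siegel_mem_O hu hw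

/-- `E Q` is normalised by `O Q`. -/
theorem conj_mem_E {g h : V ≃ₗ[F] V} (hg : g ∈ O Q) (hh : h ∈ E Q) : g * h * g⁻¹ ∈ E Q := by
  induction hh using Subgroup.closure_induction with
  | mem x hx =>
    obtain ⟨u, w, hu, hw, rfl⟩ := hx
    have hu' : Q (g u) = 0 := by rw [mem_O.1 hg]; exact hu
    have hw' : polar Q (g u) (g w) = 0 := by rw [polar_map hg]; exact hw
    rw [siegel_conj hg hu hw hu' hw']
    exact siegel_mem_E hu' hw'
  | one => simp
  | mul x y _ _ hx hy =>
    have : g * (x * y) * g⁻¹ = (g * x * g⁻¹) * (g * y * g⁻¹) := by group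
    rw [this]
    exact (E Q).mul_mem hx hy
  | inv x _ hx =>
    have : g * x⁻¹ * g⁻¹ = (g * x * g⁻¹)⁻¹ := by group
    rw [this]
    exact (E Q).inv_mem hx

/-- Nondegeneracy of the polar form, in elementary terms. -/
def Nondeg (Q : QuadraticForm F V) : Prop := ∀ x : V, (∀ y : V, polar Q x y = 0) → x = 0

theorem nondeg_of_nondegenerate (h : (polarBilin Q).Nondegenerate) : Nondeg Q := by
  intro x hx
  exact h.1 x hx

theorem Nondeg.exists_polar_ne {x : V} (hQ : Nondeg Q) (hx : x ≠ 0) : ∃ y, polar Q x y ≠ 0 := by
  by_contra h
  push Not at h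
  exact hx (hQ x h)

theorem Nondeg.exists_polar_eq {x : V} (hQ : Nondeg Q) (hx : x ≠ 0) (c : F) :
    ∃ y, polar Q x y = c := by
  obtain ⟨y, hy⟩ := hQ.exists_polar_ne hx
  refine ⟨(c * (polar Q x y)⁻¹) • y, ?_⟩
  rw [polar_smul_right, smul_eq_mul, mul_assoc, inv_mul_cancel₀ hy, mul_one]

/-- Weak Cartan--Dieudonne in all characteristics: a nondegenerate quadratic form has its isometry
group generated by reflections and Siegel transformations. -/
theorem O_eq_closure [FiniteDimensional F V] (hQ : Nondeg Q) :
    O Q = Subgroup.closure (reflSet Q ∪ siegelSet Q) := by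
  apply le_antisymm
  · -- induction on the codimension of the fixed space
    have key : ∀ (n : ℕ) (g : V ≃ₗ[F] V), g ∈ O Q →
        Module.finrank F V - Module.finrank F (LinearMap.ker (g.toLinearMap - LinearMap.id)) = n →
        g ∈ Subgroup.closure (reflSet Q ∪ siegelSet Q) := by
      intro n
      induction n using Nat.strong_induction_on with
      | _ n ih =>
        intro g hg hn
        by_cases hone : ∀ w, g w = w
        · have : g = 1 := by ext w; exact hone w
          rw [this]
          exact Subgroup.one_mem _
        push Not at hone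
        -- key step: enough to find `r` in the group with `r * g` fixing more
        have step : ∀ (r : V ≃ₗ[F] V), r ∈ O Q →
            r ∈ Subgroup.closure (reflSet Q ∪ siegelSet Q) →
            (∀ s, g s = s → r s = s) → (∃ w, g w ≠ w ∧ r (g w) = w) →
            g ∈ Subgroup.closure (reflSet Q ∪ siegelSet Q) := by
          intro r hrO hr hfix ⟨w, hw, hrw⟩
          have hlt : LinearMap.ker (g.toLinearMap - LinearMap.id) <
              LinearMap.ker ((r * g).toLinearMap - LinearMap.id) := by
            refine lt_of_le_of_ne ?_ ?_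
            · intro s hs
              rw [LinearMap.mem_ker, LinearMap.sub_apply, sub_eq_zero] at hs ⊢
              have hs' : g s = s := hs
              show r (g s) = s
              rw [hs', hfix s hs']
            · intro heq
              have : w ∈ LinearMap.ker ((r * g).toLinearMap - LinearMap.id) := by
                rw [LinearMap.mem_ker, LinearMap.sub_apply, sub_eq_zero]
                exact hrw
              rw [← heq, LinearMap.mem_ker, LinearMap.sub_apply, sub_eq_zero] at this
              exact hw this
          have hlt' := Submodule.finrank_lt_finrank_of_lt hlt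
          have hle := Submodule.finrank_le (LinearMap.ker ((r * g).toLinearMap - LinearMap.id))
          have hmem := ih _ (by omega) (r * g) ((O Q).mul_mem hrO hg) rfl
          have : g = r⁻¹ * (r * g) := by group
          rw [this]
          exact Subgroup.mul_mem _ (Subgroup.inv_mem _ hr) hmem
        by_cases hsing : ∃ w, Q (g w - w) ≠ 0
        · obtain ⟨w, hw⟩ := hsing
          refine step (refl Q (g w - w) hw) (refl_mem_O hw)
            (Subgroup.subset_closure (Or.inl ⟨_, hw, rfl⟩)) ?_ ⟨w, ?_, ?_⟩
          · intro s hs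
            have h1 : polar Q (g w - w) s = 0 := by
              rw [polar_sub_left]
              nth_rewrite 1 [← hs]
              rw [polar_map hg, sub_self]
            rw [refl_apply, h1, mul_zero, zero_smul, sub_zero]
          · intro h
            rw [h, sub_self, QuadraticMap.map_zero] at hw
            exact hw rfl
          · exact refl_sub_apply (mem_O.1 hg w).symm hw
        · push Not at hsing
          obtain ⟨w, hw⟩ := hone
          have hz : g w - w ≠ 0 := sub_ne_zero.2 hw
          -- choose `y = g v - v` with `b(g w, y) = 1`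
          obtain ⟨v, hv⟩ := hQ.exists_polar_eq hz (-1)
          have hzs : Q (g w - w) = 0 := hsing w
          have hzy : polar Q (g w - w) (g v - v) = 0 := by
            have h1 := QuadraticMap.map_add Q (g w - w) (g v - v)
            have h2 : g w - w + (g v - v) = g (w + v) - (w + v) := by
              rw [map_add]; abel
            rw [h2, hsing, hsing, hsing] at h1
            simpa using h1.symm
          have hgwy : polar Q (g v - v) (g w) = 1 := by
            rw [polar_sub_left, polar_map hg, ← neg_inj, ← hv, polar_sub_left, polar_comm Q v w,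
              polar_comm Q v (g w)]
            ring
          have hgwz : polar Q (g w - w) (g w) = 0 := by
            have e := QuadraticMap.map_add Q w (g w - w)
            rw [add_sub_cancel, mem_O.1 hg, hzs] at e
            have e2 : polar Q w (g w - w) = 0 := by linear_combination -e
            have e3 : polar Q (g w - w) (g w) = polar Q w (g w - w) +
                polar Q (g w - w) (g w - w) := by
              rw [polar_comm Q w, ← polar_add_right, add_sub_cancel]
            rw [e3, e2, polar_self', hzs]
            ring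
          refine step (siegel Q (g w - w) (g v - v) hzs hzy) (siegel_mem_O hzs hzy)
            (Subgroup.subset_closure (Or.inr ⟨_, _, hzs, hzy, rfl⟩)) ?_ ⟨w, hw, ?_⟩
          · intro s hs
            have h1 : ∀ x, polar Q (g x - x) s = 0 := by
              intro x
              rw [polar_sub_left]
              nth_rewrite 1 [← hs]
              rw [polar_map hg, sub_self]
            rw [siegel_apply, h1, h1]
            simp
          · rw [siegel_apply, hgwz, hgwy]
            simp
    intro g hg
    exact key _ g hg rfl
  · rw [Subgroup.closure_le]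
    rintro _ (⟨v, hv, rfl⟩ | ⟨u, w, hu, hw, rfl⟩)
    · exact refl_mem_O hv
    · exact siegel_mem_O hu hw

end Cfsg.Agent.LieClassical.OrthCore
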