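import Mathlib
import Cfsg.Agent.LieClassical.SLTwoUnipotent
set_option linter.all false

/-!
# A weak form of Dickson's theorem on subgroups of `SL₂`, by a short argument

Let `F` be any field of odd characteristic `p` and `H` a finite subgroup of `GL₂(F)` which contains
two non-commuting unipotent elements. Then `H` contains a `GL₂(F)`-conjugate of `SL₂(F_p)`.

Proof. Take `H` minimal, so that any two non-commuting unipotent elements of `H` generate `H`. In
a suitable basis `H` contains `U = [1, 1; 0, 1]` and `L = [1, 0; κ, 1]`. The involution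
`diag (1, -1)` inverts both `U` and `L`, so it normalises `H`. The involution `[1, 0; 2, -1]`
inverts both `L` and `U L U⁻¹`, so it also normalises `H`. Hence their product `[1, 0; 2, 1]`
normalises `H`, so does its power `[1, 0; -1, 1]`, and so does
`w = U [1, 0; -1, 1] U = [0, 1; -1, 0]`. Now `w U w⁻¹ = [1, 0; -1, 1]` lies in `H`, and
`[1, 1; 0, 1]` and `[1, 0; -1, 1]` generate `SL₂(F_p)`.
-/

set_option autoImplicit false

namespace Cfsg.Agent.LieClassical.DicksonWeak

open Matrix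
open Cfsg.Agent.LieClassical.SLTwoUnipotent

section Field

variable {F : Type*} [Field F]

/-- Unipotent elements of `GL₂(F)`: determinant `1` and trace `2`. -/
def Unip (x : GL (Fin 2) F) : Prop :=
  (x : Matrix (Fin 2) (Fin 2) F).det = 1 ∧ (x : Matrix (Fin 2) (Fin 2) F).trace = 2

theorem unip_iff {x : GL (Fin 2) F} :
    Unip x ↔ (x : Matrix (Fin 2) (Fin 2) F).det = 1 ∧
      (x : Matrix (Fin 2) (Fin 2) F).trace = 2 := Iff.rfl

theorem Unip.conj {x : GL (Fin 2) F} (h : Unip x) (g : GL (Fin 2) F) : Unip (g * x * g⁻¹) := by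
  obtain ⟨h1, h2⟩ := h
  have hg : ((g⁻¹ : GL (Fin 2) F) : Matrix (Fin 2) (Fin 2) F) * (g : Matrix (Fin 2) (Fin 2) F)
      = 1 := by
    rw [← Units.val_mul, inv_mul_cancel, Units.val_one]
  refine ⟨?_, ?_⟩
  · have := congrArg Matrix.det hg
    rw [Matrix.det_mul, Matrix.det_one] at this
    rw [Units.val_mul, Units.val_mul, Matrix.det_mul, Matrix.det_mul, h1, mul_one, mul_comm, this]
  · rw [Units.val_mul, Units.val_mul, Matrix.mul_assoc, Matrix.trace_mul_comm, Matrix.mul_assoc, hg,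
      Matrix.mul_one, h2]

/-- Upper unitriangular matrices in `GL₂`. -/
def U (x : F) : GL (Fin 2) F := SpecialLinearGroup.toGL (u x)

/-- Lower unitriangular matrices in `GL₂`. -/
def L (x : F) : GL (Fin 2) F := SpecialLinearGroup.toGL (l x)

theorem coe_U (x : F) : ((U x : GL (Fin 2) F) : Matrix (Fin 2) (Fin 2) F) = !![1, x; 0, 1] := rfl

theorem coe_L (x : F) : ((L x : GL (Fin 2) F) : Matrix (Fin 2) (Fin 2) F) = !![1, 0; x, 1] := rfl

theorem U_add (x y : F) : U (x + y) = U x * U y := by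
  rw [U, U, U, u_add, map_mul]

theorem L_add (x y : F) : L (x + y) = L x * L y := by
  rw [L, L, L, l_add, map_mul]

theorem U_neg (x : F) : U (-x) = (U x)⁻¹ := by
  rw [U, U, u_neg, map_inv]

theorem L_neg (x : F) : L (-x) = (L x)⁻¹ := by
  rw [L, L, l_neg, map_inv]

theorem U_zero : U (0 : F) = 1 := by rw [U, u_zero, map_one]

theorem L_zero : L (0 : F) = 1 := by rw [L, l_zero, map_one]

theorem unip_U (x : F) : Unip (U x) := by
  refine ⟨?_, ?_⟩
  · rw [coe_U, Matrix.det_fin_two_of]; ring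
  · rw [coe_U, Matrix.trace_fin_two_of]; norm_num

theorem unip_L (x : F) : Unip (L x) := by
  refine ⟨?_, ?_⟩
  · rw [coe_L, Matrix.det_fin_two_of]; ring
  · rw [coe_L, Matrix.trace_fin_two_of]; norm_num

theorem U_mul_natCast (x : F) (n : ℕ) : U (n * x) = U x ^ n := by
  induction n with
  | zero => simp [U_zero]
  | succ n ih => rw [pow_succ, ← ih, ← U_add]; congr 1; push_cast; ring

theorem L_mul_natCast (x : F) (n : ℕ) : L (n * x) = L x ^ n := by
  induction n with
  | zero => simp [L_zero]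
  | succ n ih => rw [pow_succ, ← ih, ← L_add]; congr 1; push_cast; ring

/-- Two non-commuting unipotent elements become `U 1` and `L κ` in a suitable basis. -/
theorem exists_conj_eq {x y : GL (Fin 2) F} (hx : Unip x) (hy : Unip y) (hxy : x * y ≠ y * x) :
    ∃ (g : GL (Fin 2) F) (κ : F), κ ≠ 0 ∧ x * g = g * U 1 ∧ y * g = g * L κ := by
  obtain ⟨hx1, hx2⟩ := hx
  obtain ⟨hy1, hy2⟩ := hy
  rw [Matrix.det_fin_two] at hx1 hy1
  rw [Matrix.trace_fin_two] at hx2 hy2
  obtain ⟨A, hA⟩ : ∃ A, A = (x : Matrix (Fin 2) (Fin 2) F) 0 0 - 1 := ⟨_, rfl⟩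
  obtain ⟨A', hA'⟩ : ∃ A', A' = (y : Matrix (Fin 2) (Fin 2) F) 0 0 - 1 := ⟨_, rfl⟩
  obtain ⟨b, hb⟩ : ∃ b, b = (x : Matrix (Fin 2) (Fin 2) F) 0 1 := ⟨_, rfl⟩
  obtain ⟨b', hb'⟩ : ∃ b', b' = (y : Matrix (Fin 2) (Fin 2) F) 0 1 := ⟨_, rfl⟩
  obtain ⟨c, hc⟩ : ∃ c, c = (x : Matrix (Fin 2) (Fin 2) F) 1 0 := ⟨_, rfl⟩
  obtain ⟨c', hc'⟩ : ∃ c', c' = (y : Matrix (Fin 2) (Fin 2) F) 1 0 := ⟨_, rfl⟩
  have hx0 : (x : Matrix (Fin 2) (Fin 2) F) 0 0 = 1 + A := by rw [hA]; ring
  have hy0 : (y : Matrix (Fin 2) (Fin 2) F) 0 0 = 1 + A' := by rw [hA']; ring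
  have hx3 : (x : Matrix (Fin 2) (Fin 2) F) 1 1 = 1 - A := by
    rw [hA]; linear_combination hx2
  have hy3 : (y : Matrix (Fin 2) (Fin 2) F) 1 1 = 1 - A' := by
    rw [hA']; linear_combination hy2
  have hxm : (x : Matrix (Fin 2) (Fin 2) F) = !![1 + A, b; c, 1 - A] := by
    rw [← hx0, ← hx3, hb, hc]
    exact Matrix.eta_fin_two _
  have hym : (y : Matrix (Fin 2) (Fin 2) F) = !![1 + A', b'; c', 1 - A'] := by
    rw [← hy0, ← hy3, hb', hc']
    exact Matrix.eta_fin_two _
  have hdet : A ^ 2 + b * c = 0 := by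
    rw [hx0, hx3, ← hb, ← hc] at hx1
    linear_combination -hx1
  have hdet' : A' ^ 2 + b' * c' = 0 := by
    rw [hy0, hy3, ← hb', ← hc'] at hy1
    linear_combination -hy1
  clear hx0 hy0 hx3 hy3 hx1 hx2 hy1 hy2 hA hA' hb hb' hc hc'
  obtain ⟨T, hT⟩ : ∃ T, T = 2 * A * A' + b * c' + c * b' := ⟨_, rfl⟩
  have hT0 : T ≠ 0 := by
    intro h0
    rw [h0] at hT
    apply hxy
    have h1 : b * c' - c * b' = 0 := by
      have : (b * c' - c * b') ^ 2 = 0 := by
        linear_combination (-(b * c' + c * b') + 2 * A * A') * hT + 4 * A' ^ 2 * hdet -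
          4 * b * c * hdet'
      exact pow_eq_zero_iff (two_ne_zero) |>.1 this
    have h2 : A * b' - A' * b = 0 := by
      have : (A * b' - A' * b) ^ 2 = 0 := by
        linear_combination b' ^ 2 * hdet + b ^ 2 * hdet' + b * b' * hT
      exact pow_eq_zero_iff (two_ne_zero) |>.1 this
    have h3 : c * A' - c' * A = 0 := by
      have : (c * A' - c' * A) ^ 2 = 0 := by
        linear_combination c' ^ 2 * hdet + c ^ 2 * hdet' + c * c' * hT
      exact pow_eq_zero_iff (two_ne_zero) |>.1 this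
    apply Units.ext
    rw [Units.val_mul, Units.val_mul, hxm, hym, Matrix.mul_fin_two, Matrix.mul_fin_two]
    ext i j
    fin_cases i <;> fin_cases j
    · simp
      linear_combination h1
    · simp
      linear_combination 2 * h2
    · simp
      linear_combination 2 * h3
    · simp
      linear_combination -h1
  -- a kernel vector `v` of `y - 1` which is not an eigenvector of `x - 1`
  have hv : ∃ v0 v1 : F, A' * v0 + b' * v1 = 0 ∧ c' * v0 - A' * v1 = 0 ∧
      (A * v0 + b * v1) * v1 - (c * v0 - A * v1) * v0 ≠ 0 := by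
    by_cases hb0 : b' = 0
    · have hc0 : c' ≠ 0 := by
        intro hc0
        apply hT0
        have hA0 : A' = 0 := by
          rw [hb0, zero_mul, add_zero] at hdet'
          exact pow_eq_zero_iff (two_ne_zero) |>.1 hdet'
        rw [hT, hb0, hc0, hA0]
        ring
      refine ⟨A', c', by linear_combination hdet', by ring, ?_⟩
      have : (A * A' + b * c') * c' - (c * A' - A * c') * A' = c' * T := by
        rw [hT]
        linear_combination -c * hdet'
      rw [this]
      exact mul_ne_zero hc0 hT0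
    · refine ⟨b', -A', by ring, by linear_combination hdet', ?_⟩
      have : (A * b' + b * -A') * -A' - (c * b' - A * -A') * b' = -b' * T := by
        rw [hT]
        linear_combination b * hdet'
      rw [this]
      exact mul_ne_zero (neg_ne_zero.2 hb0) hT0
  obtain ⟨v0, v1, hv0, hv1, hv2⟩ := hv
  have hdetg : (!![A * v0 + b * v1, v0; c * v0 - A * v1, v1] : Matrix (Fin 2) (Fin 2) F).det ≠ 0 := by
    rw [Matrix.det_fin_two_of]
    intro h
    apply hv2
    linear_combination h
  refine ⟨Matrix.GeneralLinearGroup.mkOfDetNeZero _ hdetg, T, hT0, ?_, ?_⟩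
  · apply Units.ext
    rw [Units.val_mul, Units.val_mul, hxm, coe_U]
    change _ * (!![A * v0 + b * v1, v0; c * v0 - A * v1, v1] : Matrix (Fin 2) (Fin 2) F) =
      (!![A * v0 + b * v1, v0; c * v0 - A * v1, v1] : Matrix (Fin 2) (Fin 2) F) * _
    rw [Matrix.mul_fin_two, Matrix.mul_fin_two]
    ext i j
    fin_cases i <;> fin_cases j
    · simp
      linear_combination v0 * hdet
    · simp
      ring
    · simp
      linear_combination v1 * hdet
    · simp
      ring
  · apply Units.ext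
    rw [Units.val_mul, Units.val_mul, hym, coe_L]
    change _ * (!![A * v0 + b * v1, v0; c * v0 - A * v1, v1] : Matrix (Fin 2) (Fin 2) F) =
      (!![A * v0 + b * v1, v0; c * v0 - A * v1, v1] : Matrix (Fin 2) (Fin 2) F) * _
    rw [Matrix.mul_fin_two, Matrix.mul_fin_two]
    ext i j
    fin_cases i <;> fin_cases j
    · simp
      rw [hT]
      linear_combination -A * hv0 - b * hv1
    · simp
      linear_combination hv0
    · simp
      rw [hT]
      linear_combination -c * hv0 + A * hv1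
    · simp
      linear_combination hv1

theorem conj_mem_closure_pair {G : Type*} [Group G] {t x y : G} (hx : t * x * t⁻¹ = x⁻¹)
    (hy : t * y * t⁻¹ = y⁻¹) {h : G} (hh : h ∈ Subgroup.closure {x, y}) :
    t * h * t⁻¹ ∈ Subgroup.closure {x, y} := by
  have key : Subgroup.closure {x, y} ≤
      (Subgroup.closure {x, y}).comap (MulAut.conj t).toMonoidHom := by
    rw [Subgroup.closure_le]
    intro z hz
    rw [SetLike.mem_coe, Subgroup.mem_comap]
    rcases hz with rfl | hz
    · rw [MulEquiv.coe_toMonoidHom, MulAut.conj_apply, hx]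
      exact Subgroup.inv_mem _ (Subgroup.subset_closure (by simp))
    · rw [Set.mem_singleton_iff] at hz
      subst hz
      rw [MulEquiv.coe_toMonoidHom, MulAut.conj_apply, hy]
      exact Subgroup.inv_mem _ (Subgroup.subset_closure (by simp))
  exact key hh

/-- `diag (1, -1)`. -/
noncomputable def T0 : GL (Fin 2) F :=
  Matrix.GeneralLinearGroup.mkOfDetNeZero !![1, 0; 0, -1] (by
    rw [Matrix.det_fin_two_of]; simp)

/-- the involution `[1, 0; 2, -1]`. -/
noncomputable def T1 : GL (Fin 2) F :=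
  Matrix.GeneralLinearGroup.mkOfDetNeZero !![1, 0; 2, -1] (by
    rw [Matrix.det_fin_two_of]; simp)

theorem coe_T0 : ((T0 : GL (Fin 2) F) : Matrix (Fin 2) (Fin 2) F) = !![1, 0; 0, -1] := rfl

theorem coe_T1 : ((T1 : GL (Fin 2) F) : Matrix (Fin 2) (Fin 2) F) = !![1, 0; 2, -1] := rfl

theorem T0_conj_U (x : F) : T0 * U x * T0⁻¹ = (U x)⁻¹ := by
  rw [mul_inv_eq_iff_eq_mul, ← U_neg]
  apply Units.ext
  rw [Units.val_mul, Units.val_mul, coe_T0, coe_U, coe_U, Matrix.mul_fin_two, Matrix.mul_fin_two]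
  simp

theorem T0_conj_L (x : F) : T0 * L x * T0⁻¹ = (L x)⁻¹ := by
  rw [mul_inv_eq_iff_eq_mul, ← L_neg]
  apply Units.ext
  rw [Units.val_mul, Units.val_mul, coe_T0, coe_L, coe_L, Matrix.mul_fin_two, Matrix.mul_fin_two]
  simp

theorem T1_conj_L (x : F) : T1 * L x * T1⁻¹ = (L x)⁻¹ := by
  rw [mul_inv_eq_iff_eq_mul, ← L_neg]
  apply Units.ext
  rw [Units.val_mul, Units.val_mul, coe_T1, coe_L, coe_L, Matrix.mul_fin_two, Matrix.mul_fin_two]
  simp [add_comm]

theorem T1_mul_T0 : T1 * T0 = (L 2 : GL (Fin 2) F) := by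
  apply Units.ext
  rw [Units.val_mul, coe_T1, coe_T0, coe_L, Matrix.mul_fin_two]
  simp

theorem T1_conj_ULU (x : F) :
    T1 * (U 1 * L x * (U 1)⁻¹) * T1⁻¹ = (U 1 * L x * (U 1)⁻¹)⁻¹ := by
  have h : (U 1 * L x * (U 1)⁻¹ : GL (Fin 2) F)⁻¹ = U 1 * L (-x) * U (-1) := by
    rw [L_neg, U_neg]; group
  rw [mul_inv_eq_iff_eq_mul, h, ← U_neg]
  apply Units.ext
  simp only [Units.val_mul, coe_T1, coe_L, coe_U, Matrix.mul_fin_two]
  ext i j
  fin_cases i <;> fin_cases j
  · simp
    ring
  · simp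
  · simp; ring
  · simp; ring

/-- `w = U L U`. -/
theorem w_conj : (U 1 * L (-1) * U 1) * U 1 * (U 1 * L (-1) * U 1)⁻¹ = (L (-1) : GL (Fin 2) F) := by
  rw [mul_inv_eq_iff_eq_mul]
  apply Units.ext
  simp only [Units.val_mul, coe_L, coe_U, Matrix.mul_fin_two]
  ext i j
  fin_cases i <;> fin_cases j <;> simp

variable (p : ℕ) [Fact p.Prime] [CharP F p]

/-- The homomorphism from `SL₂(F_p)` to `GL₂(F)`. -/
def prime : SpecialLinearGroup (Fin 2) (ZMod p) →* GL (Fin 2) F :=
  SpecialLinearGroup.toGL.comp (SpecialLinearGroup.map (ZMod.castHom (dvd_refl p) F))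

theorem prime_injective : Function.Injective (prime (F := F) p) := by
  intro A B h
  have h1 : SpecialLinearGroup.map (ZMod.castHom (dvd_refl p) F) A =
      SpecialLinearGroup.map (ZMod.castHom (dvd_refl p) F) B :=
    SpecialLinearGroup.toGL_injective h
  apply Subtype.ext
  have h2 := congrArg (fun X : SpecialLinearGroup (Fin 2) F => (X : Matrix (Fin 2) (Fin 2) F)) h1
  ext i j
  have h3 := congrFun (congrFun h2 i) j
  exact (ZMod.castHom (dvd_refl p) F).injective h3

theorem prime_u (x : ZMod p) : prime p (u x) = U (ZMod.castHom (dvd_refl p) F x) := by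
  apply Units.ext
  rw [coe_U]
  ext i j
  change ZMod.castHom (dvd_refl p) F ((u x : Matrix (Fin 2) (Fin 2) (ZMod p)) i j) = _
  rw [SLTwoUnipotent.coe_u]
  fin_cases i <;> fin_cases j <;> simp

theorem prime_l (x : ZMod p) : prime p (l x) = L (ZMod.castHom (dvd_refl p) F x) := by
  apply Units.ext
  rw [coe_L]
  ext i j
  change ZMod.castHom (dvd_refl p) F ((l x : Matrix (Fin 2) (Fin 2) (ZMod p)) i j) = _
  rw [SLTwoUnipotent.coe_l]
  fin_cases i <;> fin_cases j <;> simp

/-- If `U 1, L (-1) ∈ H` then `SL₂(F_p) ≤ H`. -/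
theorem prime_mem (H : Subgroup (GL (Fin 2) F)) (hU : U 1 ∈ H) (hL : L (-1) ∈ H)
    (A : SpecialLinearGroup (Fin 2) (ZMod p)) : prime p A ∈ H := by
  have hp : NeZero p := ⟨(Fact.out : p.Prime).ne_zero⟩
  have key : H.comap (prime p) = ⊤ := by
    apply eq_top_of_u_mem_of_l_mem
    · intro x
      rw [Subgroup.mem_comap, prime_u]
      obtain ⟨n, rfl⟩ := ZMod.natCast_zmod_surjective x
      rw [map_natCast, ← mul_one (n : F), U_mul_natCast]
      exact H.pow_mem hU n
    · intro x
      rw [Subgroup.mem_comap, prime_l]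
      obtain ⟨n, hn⟩ := ZMod.natCast_zmod_surjective (-x)
      have : x = -(n : ZMod p) := by rw [hn, neg_neg]
      rw [this, map_neg, map_natCast, ← mul_one (n : F), ← mul_neg, L_mul_natCast]
      exact H.pow_mem hL n
  have : A ∈ H.comap (prime p) := key ▸ Subgroup.mem_top A
  exact this

theorem key0 (hp : p ≠ 2) (H : Subgroup (GL (Fin 2) F)) (κ : F)
    (h1 : Subgroup.closure {U 1, L κ} = H)
    (h2 : Subgroup.closure {L κ, U 1 * L κ * (U 1)⁻¹} = H) 
    (A : SpecialLinearGroup (Fin 2) (ZMod p)) : prime p A ∈ H := by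
  have hT0 : ∀ h ∈ H, T0 * h * T0⁻¹ ∈ H := by
    intro h hh
    rw [← h1] at hh ⊢
    exact conj_mem_closure_pair (T0_conj_U _) (T0_conj_L _) hh
  have hT1 : ∀ h ∈ H, T1 * h * T1⁻¹ ∈ H := by
    intro h hh
    rw [← h2] at hh ⊢
    exact conj_mem_closure_pair (T1_conj_L _) (T1_conj_ULU _) hh
  have hU : U 1 ∈ H := by
    rw [← h1]; exact Subgroup.subset_closure (by simp)
  have hL2 : ∀ h ∈ H, L 2 * h * (L 2)⁻¹ ∈ H := by
    intro h hh
    have := hT1 _ (hT0 _ hh)
    rw [← T1_mul_T0]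
    simpa [mul_assoc] using this
  have hL2n : ∀ n : ℕ, ∀ h ∈ H, L 2 ^ n * h * (L 2 ^ n)⁻¹ ∈ H := by
    intro n
    induction n with
    | zero => intro h hh; simpa using hh
    | succ n ih =>
      intro h hh
      have := hL2 _ (ih _ hh)
      rw [pow_succ']
      simpa [mul_assoc] using this
  have hpp : p.Prime := Fact.out
  obtain ⟨n, hn⟩ : ∃ n, p = 2 * n + 1 := by
    rcases hpp.eq_two_or_odd' with h | h
    · exact absurd h hp
    · exact h
  have hLn : (L 2 ^ n : GL (Fin 2) F) = L (-1) := by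
    rw [← L_mul_natCast]
    congr 1
    have h0 : ((p : ℕ) : F) = 0 := CharP.cast_eq_zero F p
    rw [hn] at h0
    push_cast at h0
    linear_combination h0
  have hLm1 : ∀ h ∈ H, L (-1) * h * (L (-1))⁻¹ ∈ H := by
    rw [← hLn]
    exact hL2n n
  have hw : ((U 1 * L (-1) * U 1) * U 1 * (U 1 * L (-1) * U 1)⁻¹ : GL (Fin 2) F) ∈ H := by
    have e : ((U 1 * L (-1) * U 1) * U 1 * (U 1 * L (-1) * U 1)⁻¹ : GL (Fin 2) F) =
        U 1 * (L (-1) * (U 1 * U 1 * (U 1)⁻¹) * (L (-1))⁻¹) * (U 1)⁻¹ := by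
      simp only [_root_.mul_inv_rev, mul_assoc]
    rw [e]
    exact H.mul_mem (H.mul_mem hU (hLm1 _ (H.mul_mem (H.mul_mem hU hU) (H.inv_mem hU))))
      (H.inv_mem hU)
  rw [w_conj] at hw
  exact prime_mem p H hU hw A

/-- The conclusion of the weak Dickson theorem for `H`: it contains a conjugate of
`SL₂` of the prime field. -/
def Concl (H : Subgroup (GL (Fin 2) F)) : Prop :=
  ∃ g : GL (Fin 2) F, ∀ A : SpecialLinearGroup (Fin 2) (ZMod p), g * prime p A * g⁻¹ ∈ H

theorem key (hp : p ≠ 2) (H : Subgroup (GL (Fin 2) F)) (x y : GL (Fin 2) F) (hx : x ∈ H)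
    (hy : y ∈ H) (ux : Unip x) (uy : Unip y) (hxy : x * y ≠ y * x)
    (hmin : ∀ x ∈ H, ∀ y ∈ H, Unip x → Unip y → x * y ≠ y * x → Subgroup.closure {x, y} = H) :
    Concl p H := by
  obtain ⟨g, κ, hκ, h1, h2⟩ := exists_conj_eq ux uy hxy
  have hx' : g * U 1 * g⁻¹ = x := by rw [← h1]; simp
  have hy' : g * L κ * g⁻¹ = y := by rw [← h2]; simp
  refine ⟨g, ?_⟩
  set H' := H.comap (MulAut.conj g).toMonoidHom with hH'
  have hmem : ∀ h, h ∈ H' ↔ g * h * g⁻¹ ∈ H := fun h => Iff.rfl
  have hcl : ∀ a b : GL (Fin 2) F, Subgroup.closure {g * a * g⁻¹, g * b * g⁻¹} = H →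
      Subgroup.closure {a, b} = H' := by
    intro a b hab
    have : ({g * a * g⁻¹, g * b * g⁻¹} : Set (GL (Fin 2) F)) =
        (MulAut.conj g).toMonoidHom '' {a, b} := by
      rw [Set.image_pair]; rfl
    rw [this, ← MonoidHom.map_closure] at hab
    rw [hH', ← hab]
    exact (Subgroup.comap_map_eq_self_of_injective (MulAut.conj g).injective _).symm
  have hcomm : L κ * (U 1 * L κ * (U 1)⁻¹) ≠ (U 1 * L κ * (U 1)⁻¹) * L κ := by
    intro h
    rw [← U_neg] at h
    have h4 := congrArg (fun X : GL (Fin 2) F => (X : Matrix (Fin 2) (Fin 2) F) 0 0) h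
    simp only [Units.val_mul, coe_L, coe_U, Matrix.mul_fin_two] at h4
    simp at h4
    exact hκ h4
  refine key0 p hp H' κ (hcl _ _ ?_) (hcl _ _ ?_)
  · exact hmin _ (hx' ▸ hx) _ (hy' ▸ hy) (hx' ▸ ux) (hy' ▸ uy) (by rw [hx', hy']; exact hxy)
  · have e : g * (U 1 * L κ * (U 1)⁻¹) * g⁻¹ = x * y * x⁻¹ := by
      rw [← hx', ← hy']; group
    rw [hy', e]
    refine hmin _ hy _ (H.mul_mem (H.mul_mem hx hy) (H.inv_mem hx)) uy (uy.conj x) ?_
    intro h
    apply hcomm
    rw [← hx', ← hy'] at h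
    have h3 : g * (L κ * (U 1 * L κ * (U 1)⁻¹)) * g⁻¹ =
        g * ((U 1 * L κ * (U 1)⁻¹) * L κ) * g⁻¹ := by
      calc _ = g * L κ * g⁻¹ * (g * U 1 * g⁻¹ * (g * L κ * g⁻¹) * (g * U 1 * g⁻¹)⁻¹) := by group
        _ = _ := by rw [h]; group
    exact mul_left_cancel (mul_right_cancel h3)

/-- **Weak Dickson theorem**: a finite subgroup of `GL₂(F)`, `F` any field of characteristic
`p ≠ 2`, which contains two non-commuting unipotent elements contains a `GL₂(F)`-conjugate of
`SL₂(F_p)`. -/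
theorem main (hp : p ≠ 2) (H : Subgroup (GL (Fin 2) F)) [Finite H] (x y : GL (Fin 2) F)
    (hx : x ∈ H) (hy : y ∈ H) (ux : Unip x) (uy : Unip y) (hxy : x * y ≠ y * x) :
    Concl p H := by
  suffices hs : ∀ n : ℕ, ∀ H : Subgroup (GL (Fin 2) F), Finite H → Nat.card H = n →
      ∀ x ∈ H, ∀ y ∈ H, Unip x → Unip y → x * y ≠ y * x → Concl p H from
    hs _ H inferInstance rfl x hx y hy ux uy hxy
  intro n
  induction n using Nat.strong_induction_on with
  | _ n ih =>
  intro H hfin hn x hx y hy ux uy hxy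
  by_cases hmin : ∀ x ∈ H, ∀ y ∈ H, Unip x → Unip y → x * y ≠ y * x → Subgroup.closure {x, y} = H
  · exact key p hp H x y hx hy ux uy hxy hmin
  · push Not at hmin
    obtain ⟨a, ha, b, hb, ua, ub, hab, hne⟩ := hmin
    have hle : Subgroup.closure {a, b} ≤ H := by
      rw [Subgroup.closure_le]
      rintro z (rfl | hz)
      · exact ha
      · rw [Set.mem_singleton_iff] at hz
        subst hz
        exact hb
    have hfin' : Finite (Subgroup.closure {a, b}) := 
      Finite.of_injective _ (Subgroup.inclusion_injective hle)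
    have hlt : Nat.card (Subgroup.closure {a, b}) < n := by
      rw [← hn]
      refine lt_of_le_of_ne (Subgroup.card_le_of_le hle) ?_
      intro hc
      exact hne (Subgroup.eq_of_le_of_card_ge hle hc.ge)
    obtain ⟨g, hg⟩ := ih _ hlt (Subgroup.closure {a, b}) hfin' rfl a
      (Subgroup.subset_closure (by simp)) b (Subgroup.subset_closure (by simp)) ua ub hab
    exact ⟨g, fun A => hle (hg A)⟩

/-- In characteristic `p`, elements of `SL₂(F)` of `p`-power order are unipotent. -/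
theorem unip_of_pow_eq_one {A : SpecialLinearGroup (Fin 2) F} {k : ℕ} (h : A ^ p ^ k = 1) :
    Unip (SpecialLinearGroup.toGL A) := by
  have h1 : (A : Matrix (Fin 2) (Fin 2) F) ^ p ^ k = 1 := by
    have := congrArg (fun B : SpecialLinearGroup (Fin 2) F => (B : Matrix (Fin 2) (Fin 2) F)) h
    exact this
  refine ⟨A.2, ?_⟩
  change (A : Matrix (Fin 2) (Fin 2) F).trace = 2
  have h2 : IsNilpotent ((A : Matrix (Fin 2) (Fin 2) F) - 1) := by
    refine ⟨p ^ k, ?_⟩
    rw [sub_pow_char_pow_of_commute _ _ (Commute.one_right _), h1, one_pow, sub_self]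
  have h3 := Matrix.isNilpotent_trace_of_isNilpotent h2
  rw [Matrix.trace_sub, Matrix.trace_one, isNilpotent_iff_eq_zero, sub_eq_zero] at h3
  rw [h3]
  simp

omit [Fact p.Prime] in
/-- A subgroup `H` of a group in which all elements of one Sylow `p`-subgroup commute with all
elements of the other has equal such Sylow subgroups. -/
theorem exists_not_commute_of_ne {G : Type*} [Group G] {P Q : Sylow p G} (h : P ≠ Q) :
    ∃ x ∈ P, ∃ y ∈ Q, x * y ≠ y * x := by
  by_contra hcon
  push Not at hcon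
  have h1 : (P : Subgroup G) ≤ Subgroup.normalizer (Q : Set G) := by
    intro x hx
    change x ∈ Subgroup.normalizer ((Q : Subgroup G) : Set G)
    rw [Subgroup.mem_normalizer_iff]
    intro y
    constructor
    · intro hy
      have hy' : y ∈ Q := hy
      have := hcon x hx y hy'
      change x * y * x⁻¹ ∈ (Q : Subgroup G)
      rw [this, mul_inv_cancel_right]
      exact hy
    · intro hy
      have hy' : x * y * x⁻¹ ∈ Q := hy
      have := hcon x hx _ hy'
      have h2 : y = x * y * x⁻¹ := by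
        have h3 : x * (x * y * x⁻¹) = x * y := by rw [this]; group
        exact (mul_left_cancel h3).symm
      rw [h2]
      exact hy
  have h2 : (P : Subgroup G) ≤ Q := by
    have := P.2.inf_normalizer_sylow Q
    rw [inf_eq_left.2 h1] at this
    exact inf_eq_left.1 this.symm
  exact h (Sylow.ext (P.3 Q.2 h2).symm)

/-- A subgroup of `SL₂(F)` with more than one Sylow `p`-subgroup contains a `GL₂(F)`-conjugate
of `SL₂(F_p)`. -/
theorem concl_of_one_lt_card_sylow (hp : p ≠ 2) (H : Subgroup (SpecialLinearGroup (Fin 2) F))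
    [Finite H] (hH : 1 < Nat.card (Sylow p H)) :
    Concl p (H.map SpecialLinearGroup.toGL) := by
  have : Finite (Sylow p H) := inferInstance
  obtain ⟨P, Q, hPQ⟩ := (Finite.one_lt_card_iff_nontrivial.1 hH).exists_pair_ne
  obtain ⟨x, hx, y, hy, hxy⟩ := exists_not_commute_of_ne p hPQ
  obtain ⟨k, hk⟩ := P.2 ⟨x, hx⟩
  obtain ⟨k', hk'⟩ := Q.2 ⟨y, hy⟩
  have hk1 : (x : SpecialLinearGroup (Fin 2) F) ^ p ^ k = 1 := by
    have := congrArg (fun z : P => ((z : H) : SpecialLinearGroup (Fin 2) F)) hk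
    simpa using this
  have hk2 : (y : SpecialLinearGroup (Fin 2) F) ^ p ^ k' = 1 := by
    have := congrArg (fun z : Q => ((z : H) : SpecialLinearGroup (Fin 2) F)) hk'
    simpa using this
  have : Finite (H.map SpecialLinearGroup.toGL) :=
    (H.equivMapOfInjective _ SpecialLinearGroup.toGL_injective).toEquiv.finite_iff.1 ‹_›
  refine main p hp _ (SpecialLinearGroup.toGL x) (SpecialLinearGroup.toGL y) ⟨x, x.2, rfl⟩
    ⟨y, y.2, rfl⟩ (unip_of_pow_eq_one p hk1) (unip_of_pow_eq_one p hk2) ?_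
  intro h
  rw [← map_mul, ← map_mul] at h
  have := SpecialLinearGroup.toGL_injective h
  exact hxy (Subtype.ext this)

/-- A subgroup of `SL₂(F)` with more than one Sylow `p`-subgroup contains a subgroup isomorphic to
`SL₂(F_p)`. -/
theorem exists_subgroup_equiv (hp : p ≠ 2) (H : Subgroup (SpecialLinearGroup (Fin 2) F))
    [Finite H] (hH : 1 < Nat.card (Sylow p H)) :
    ∃ K : Subgroup (SpecialLinearGroup (Fin 2) F), K ≤ H ∧
      Nonempty (K ≃* SpecialLinearGroup (Fin 2) (ZMod p)) := by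
  obtain ⟨g, hg⟩ := concl_of_one_lt_card_sylow p hp H hH
  let f : SpecialLinearGroup (Fin 2) (ZMod p) →* GL (Fin 2) F :=
    (MulAut.conj g).toMonoidHom.comp (prime p)
  have hf : Function.Injective f := (MulAut.conj g).injective.comp (prime_injective p)
  have hfA : ∀ A, f A = g * prime p A * g⁻¹ := fun A => rfl
  have hle : f.range ≤ H.map SpecialLinearGroup.toGL := by
    rintro _ ⟨A, rfl⟩
    exact hg A
  refine ⟨f.range.comap SpecialLinearGroup.toGL, ?_, ⟨?_⟩⟩
  · intro z hz
    obtain ⟨w, hw, hwz⟩ := hle hz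
    rwa [← SpecialLinearGroup.toGL_injective hwz]
  · refine MulEquiv.trans ?_ (MonoidHom.ofInjective hf).symm
    refine ((f.range.comap SpecialLinearGroup.toGL).equivMapOfInjective _
      SpecialLinearGroup.toGL_injective).trans (MulEquiv.subgroupCongr ?_)
    rw [Subgroup.map_comap_eq, inf_eq_right]
    exact hle.trans (by rintro _ ⟨a, _, rfl⟩; exact ⟨a, rfl⟩)

end Field

end Cfsg.Agent.LieClassical.DicksonWeak
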