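import Cfsg.Prelude.Def_Classical
set_option linter.all false

/-!
The functions `quadFormPlus`, `quadFormMinus`, `quadFormOdd` as elements of `QuadraticForm`, with their
polar forms, and the linear equivalences splitting off one hyperbolic plane.
-/

set_option autoImplicit false

namespace Cfsg.Agent.LieClassical.QuadForms

open Cfsg QuadraticMap

variable {F : Type*} [Field F]

/-! ### The hyperbolic form -/

/-- `quadFormPlus` as a quadratic form. -/
def plusForm (m : ℕ) (F : Type*) [Field F] : QuadraticForm F (Fin m ⊕ Fin m → F) :=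
  ∑ i : Fin m, QuadraticMap.linMulLin (LinearMap.proj (Sum.inl i)) (LinearMap.proj (Sum.inr i))

theorem plusForm_apply (m : ℕ) (v : Fin m ⊕ Fin m → F) :
    plusForm m F v = ∑ i : Fin m, v (.inl i) * v (.inr i) := by
  simp [plusForm]

theorem coe_plusForm (m : ℕ) : ⇑(plusForm m F) = quadFormPlus m F := by
  funext v
  exact plusForm_apply m v

theorem polar_plusForm (m : ℕ) (u v : Fin m ⊕ Fin m → F) :
    polar (plusForm m F) u v = ∑ i : Fin m, (u (.inl i) * v (.inr i) + v (.inl i) * u (.inr i)) := by
  simp only [polar, plusForm_apply, Pi.add_apply, ← Finset.sum_sub_distrib]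
  exact Finset.sum_congr rfl fun i _ => by ring

theorem polar_plusForm_single_inr (m : ℕ) (u : Fin m ⊕ Fin m → F) (i : Fin m) (c : F) :
    polar (plusForm m F) u (Pi.single (.inr i) c) = c * u (.inl i) := by
  rw [polar_plusForm, Finset.sum_eq_single i]
  · simp [mul_comm]
  · intro j _ hj
    simp [hj]
  · intro h
    exact absurd (Finset.mem_univ i) h

theorem polar_plusForm_single_inl (m : ℕ) (u : Fin m ⊕ Fin m → F) (i : Fin m) (c : F) :
    polar (plusForm m F) u (Pi.single (.inl i) c) = c * u (.inr i) := by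
  rw [polar_plusForm, Finset.sum_eq_single i]
  · simp
  · intro j _ hj
    simp [hj]
  · intro h
    exact absurd (Finset.mem_univ i) h

theorem polar_plusForm_nondeg (m : ℕ) (u : Fin m ⊕ Fin m → F)
    (h : ∀ v, polar (plusForm m F) u v = 0) : u = 0 := by
  funext x
  rcases x with i | i
  · have := h (Pi.single (.inr i) 1)
    rwa [polar_plusForm_single_inr, one_mul] at this
  · have := h (Pi.single (.inl i) 1)
    rwa [polar_plusForm_single_inl, one_mul] at this

/-- Splitting off a hyperbolic plane. -/
def plusStep (m : ℕ) (F : Type*) [Field F] :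
    ((Fin m ⊕ Fin m → F) × F × F) ≃ₗ[F] (Fin (m + 1) ⊕ Fin (m + 1) → F) where
  toFun p := Sum.elim (Fin.cons p.2.1 fun i => p.1 (.inl i)) (Fin.cons p.2.2 fun i => p.1 (.inr i))
  invFun v := (Sum.elim (fun i => v (.inl i.succ)) (fun i => v (.inr i.succ)),
    v (.inl 0), v (.inr 0))
  map_add' p p' := by
    funext x
    rcases x with i | i <;> refine Fin.cases ?_ (fun j => ?_) i <;> simp
  map_smul' c p := by
    funext x
    rcases x with i | i <;> refine Fin.cases ?_ (fun j => ?_) i <;> simp
  left_inv p := by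
    refine Prod.ext ?_ (Prod.ext ?_ ?_)
    · funext x
      rcases x with i | i <;> simp
    · simp
    · simp
  right_inv v := by
    funext x
    rcases x with i | i <;> refine Fin.cases ?_ (fun j => ?_) i <;> simp

theorem plusForm_plusStep (m : ℕ) (w : Fin m ⊕ Fin m → F) (a b : F) :
    plusForm (m + 1) F (plusStep m F (w, a, b)) = plusForm m F w + a * b := by
  rw [plusForm_apply, plusForm_apply, Fin.sum_univ_succ, add_comm]
  rfl

/-! ### The binary form -/

/-- The binary form `z₁² + a z₁ z₂ + b z₂²` as a quadratic form. -/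
def binForm (F : Type*) [Field F] (a b : F) : QuadraticForm F (Fin 2 → F) :=
  QuadraticMap.linMulLin (LinearMap.proj 0) (LinearMap.proj 0)
    + a • QuadraticMap.linMulLin (LinearMap.proj 0) (LinearMap.proj 1)
    + b • QuadraticMap.linMulLin (LinearMap.proj 1) (LinearMap.proj 1)

theorem binForm_apply (a b : F) (z : Fin 2 → F) :
    binForm F a b z = z 0 ^ 2 + a * z 0 * z 1 + b * z 1 ^ 2 := by
  simp [binForm]
  ring

theorem polar_binForm (a b : F) (z w : Fin 2 → F) :
    polar (binForm F a b) z w
      = 2 * (z 0 * w 0) + a * (z 0 * w 1 + z 1 * w 0) + 2 * b * (z 1 * w 1) := by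
  simp only [polar, binForm_apply, Pi.add_apply]
  ring

/-! ### The minus-type form -/

/-- `quadFormMinus` as a quadratic form. -/
def minusForm (m : ℕ) (F : Type*) [Field F] (a b : F) :
    QuadraticForm F ((Fin m ⊕ Fin m) ⊕ Fin 2 → F) :=
  (plusForm m F).comp (LinearMap.funLeft F F Sum.inl)
    + (binForm F a b).comp (LinearMap.funLeft F F Sum.inr)

theorem minusForm_apply (m : ℕ) (a b : F) (v : (Fin m ⊕ Fin m) ⊕ Fin 2 → F) :
    minusForm m F a b v = plusForm m F (fun i => v (.inl i)) + binForm F a b (fun i => v (.inr i)) :=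
  rfl

theorem coe_minusForm (m : ℕ) (a b : F) : ⇑(minusForm m F a b) = quadFormMinus m F a b := by
  funext v
  rw [minusForm_apply, plusForm_apply, binForm_apply]
  rfl

theorem polar_minusForm (m : ℕ) (a b : F) (u v : (Fin m ⊕ Fin m) ⊕ Fin 2 → F) :
    polar (minusForm m F a b) u v
      = polar (plusForm m F) (fun i => u (.inl i)) (fun i => v (.inl i))
        + polar (binForm F a b) (fun i => u (.inr i)) (fun i => v (.inr i)) := by
  simp only [polar, minusForm_apply]
  have h1 : (fun i : Fin m ⊕ Fin m => (u + v) (Sum.inl i))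
      = (fun i => u (.inl i)) + fun i => v (.inl i) := rfl
  have h2 : (fun i : Fin 2 => (u + v) (Sum.inr i))
      = (fun i => u (.inr i)) + fun i => v (.inr i) := rfl
  rw [h1, h2]
  ring

/-- A singular vector in the radical of the polar form of the minus-type form vanishes, when the binary
part is anisotropic. -/
theorem minusForm_nondeg (m : ℕ) (a b : F)
    (hab : ∀ z₁ z₂ : F, z₁ ^ 2 + a * z₁ * z₂ + b * z₂ ^ 2 = 0 → z₁ = 0 ∧ z₂ = 0)
    (u : (Fin m ⊕ Fin m) ⊕ Fin 2 → F) (hu : minusForm m F a b u = 0)
    (h : ∀ v, polar (minusForm m F a b) u v = 0) : u = 0 := by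
  have h1 : (fun i => u (.inl i)) = (0 : Fin m ⊕ Fin m → F) := by
    refine polar_plusForm_nondeg m _ fun w => ?_
    have := h (Sum.elim w 0)
    rw [polar_minusForm] at this
    have h0 : (fun i : Fin 2 => (Sum.elim w 0 : (Fin m ⊕ Fin m) ⊕ Fin 2 → F) (Sum.inr i)) = 0 := rfl
    rw [h0, QuadraticMap.polar_zero_right, add_zero] at this
    exact this
  rw [minusForm_apply, h1, map_zero, zero_add, binForm_apply] at hu
  obtain ⟨h2, h3⟩ := hab _ _ hu
  funext x
  rcases x with i | i
  · exact congrFun h1 i
  · fin_cases i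
    · exact h2
    · exact h3

/-- Splitting off a hyperbolic plane. -/
def minusStep (m : ℕ) (F : Type*) [Field F] :
    (((Fin m ⊕ Fin m) ⊕ Fin 2 → F) × F × F) ≃ₗ[F] ((Fin (m + 1) ⊕ Fin (m + 1)) ⊕ Fin 2 → F) where
  toFun p := Sum.elim (plusStep m F (fun i => p.1 (.inl i), p.2)) (fun i => p.1 (.inr i))
  invFun v := (Sum.elim ((plusStep m F).symm fun i => v (.inl i)).1 (fun i => v (.inr i)),
    ((plusStep m F).symm fun i => v (.inl i)).2)
  map_add' p p' := by
    funext x
    rcases x with i | i
    · exact congrFun ((plusStep m F).map_add (fun i => p.1 (.inl i), p.2) (fun i => p'.1 (.inl i), p'.2)) i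
    · rfl
  map_smul' c p := by
    funext x
    rcases x with i | i
    · exact congrFun ((plusStep m F).map_smul c (fun i => p.1 (.inl i), p.2)) i
    · rfl
  left_inv p := by
    have h : (fun i => (Sum.elim (plusStep m F (fun i => p.1 (.inl i), p.2)) (fun i => p.1 (.inr i)) :
        (Fin (m + 1) ⊕ Fin (m + 1)) ⊕ Fin 2 → F) (.inl i))
        = plusStep m F (fun i => p.1 (.inl i), p.2) := rfl
    simp only [h, LinearEquiv.symm_apply_apply]
    refine Prod.ext ?_ rfl
    funext x
    rcases x with i | i <;> rfl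
  right_inv v := by
    have h : (fun i => (Sum.elim ((plusStep m F).symm fun i => v (.inl i)).1 (fun i => v (.inr i)) :
        (Fin m ⊕ Fin m) ⊕ Fin 2 → F) (.inl i)) = ((plusStep m F).symm fun i => v (.inl i)).1 := rfl
    simp only [h, Prod.mk.eta, LinearEquiv.apply_symm_apply]
    funext x
    rcases x with i | i <;> rfl

theorem minusForm_minusStep (m : ℕ) (a b : F) (w : (Fin m ⊕ Fin m) ⊕ Fin 2 → F) (c d : F) :
    minusForm (m + 1) F a b (minusStep m F (w, c, d)) = minusForm m F a b w + c * d := by
  rw [minusForm_apply, minusForm_apply]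
  have h1 : (fun i => minusStep m F (w, c, d) (.inl i)) = plusStep m F (fun i => w (.inl i), c, d) := rfl
  have h2 : (fun i => minusStep m F (w, c, d) (.inr i)) = fun i => w (.inr i) := rfl
  rw [h1, h2, plusForm_plusStep]
  ring

/-! ### The odd-dimensional form -/

/-- `quadFormOdd` as a quadratic form. -/
def oddForm (m : ℕ) (F : Type*) [Field F] : QuadraticForm F (Unit ⊕ (Fin m ⊕ Fin m) → F) :=
  QuadraticMap.linMulLin (LinearMap.proj (.inl ())) (LinearMap.proj (.inl ()))
    + (plusForm m F).comp (LinearMap.funLeft F F Sum.inr)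

theorem oddForm_apply (m : ℕ) (v : Unit ⊕ (Fin m ⊕ Fin m) → F) :
    oddForm m F v = v (.inl ()) * v (.inl ()) + plusForm m F (fun i => v (.inr i)) :=
  rfl

theorem coe_oddForm (m : ℕ) : ⇑(oddForm m F) = quadFormOdd m F := by
  funext v
  rw [oddForm_apply, plusForm_apply, ← pow_two]
  rfl

theorem polar_oddForm (m : ℕ) (u v : Unit ⊕ (Fin m ⊕ Fin m) → F) :
    polar (oddForm m F) u v
      = 2 * (u (.inl ()) * v (.inl ()))
        + polar (plusForm m F) (fun i => u (.inr i)) (fun i => v (.inr i)) := by
  simp only [polar, oddForm_apply]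
  have h2 : (fun i : Fin m ⊕ Fin m => (u + v) (Sum.inr i))
      = (fun i => u (.inr i)) + fun i => v (.inr i) := rfl
  rw [h2, Pi.add_apply]
  ring

/-- A singular vector in the radical of the polar form of the odd-dimensional form vanishes (in any
characteristic). -/
theorem oddForm_nondeg (m : ℕ) (u : Unit ⊕ (Fin m ⊕ Fin m) → F) (hu : oddForm m F u = 0)
    (h : ∀ v, polar (oddForm m F) u v = 0) : u = 0 := by
  have h1 : (fun i => u (.inr i)) = (0 : Fin m ⊕ Fin m → F) := by
    refine polar_plusForm_nondeg m _ fun w => ?_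
    have := h (Sum.elim 0 w)
    rw [polar_oddForm] at this
    have h0 : (Sum.elim 0 w : Unit ⊕ (Fin m ⊕ Fin m) → F) (Sum.inl ()) = 0 := rfl
    rw [h0, mul_zero, mul_zero, zero_add] at this
    exact this
  rw [oddForm_apply, h1, map_zero, add_zero, mul_self_eq_zero] at hu
  funext x
  rcases x with i | i
  · exact hu
  · exact congrFun h1 i

/-- Splitting off a hyperbolic plane. -/
def oddStep (m : ℕ) (F : Type*) [Field F] :
    ((Unit ⊕ (Fin m ⊕ Fin m) → F) × F × F) ≃ₗ[F] (Unit ⊕ (Fin (m + 1) ⊕ Fin (m + 1)) → F) where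
  toFun p := Sum.elim (fun i => p.1 (.inl i)) (plusStep m F (fun i => p.1 (.inr i), p.2))
  invFun v := (Sum.elim (fun i => v (.inl i)) ((plusStep m F).symm fun i => v (.inr i)).1,
    ((plusStep m F).symm fun i => v (.inr i)).2)
  map_add' p p' := by
    funext x
    rcases x with i | i
    · rfl
    · exact congrFun ((plusStep m F).map_add (fun i => p.1 (.inr i), p.2) (fun i => p'.1 (.inr i), p'.2)) i
  map_smul' c p := by
    funext x
    rcases x with i | i
    · rfl
    · exact congrFun ((plusStep m F).map_smul c (fun i => p.1 (.inr i), p.2)) i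
  left_inv p := by
    have h : (fun i => (Sum.elim (fun i => p.1 (.inl i)) (plusStep m F (fun i => p.1 (.inr i), p.2)) :
        Unit ⊕ (Fin (m + 1) ⊕ Fin (m + 1)) → F) (.inr i))
        = plusStep m F (fun i => p.1 (.inr i), p.2) := rfl
    simp only [h, LinearEquiv.symm_apply_apply]
    refine Prod.ext ?_ rfl
    funext x
    rcases x with i | i <;> rfl
  right_inv v := by
    have h : (fun i => (Sum.elim (fun i => v (.inl i)) ((plusStep m F).symm fun i => v (.inr i)).1 :
        Unit ⊕ (Fin m ⊕ Fin m) → F) (.inr i)) = ((plusStep m F).symm fun i => v (.inr i)).1 := rfl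
    simp only [h, Prod.mk.eta, LinearEquiv.apply_symm_apply]
    funext x
    rcases x with i | i <;> rfl

theorem oddForm_oddStep (m : ℕ) (w : Unit ⊕ (Fin m ⊕ Fin m) → F) (c d : F) :
    oddForm (m + 1) F (oddStep m F (w, c, d)) = oddForm m F w + c * d := by
  rw [oddForm_apply, oddForm_apply]
  have h1 : (fun i => oddStep m F (w, c, d) (.inr i)) = plusStep m F (fun i => w (.inr i), c, d) := rfl
  have h2 : oddStep m F (w, c, d) (.inl ()) = w (.inl ()) := rfl
  rw [h1, h2, plusForm_plusStep]
  ring

end Cfsg.Agent.LieClassical.QuadForms
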