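import Mathlib
import Cfsg.Agent.ClassicalGeometry.SympBasic
import Cfsg.Agent.S0765
set_option linter.all false

/-!
Perfectness of the symplectic groups: every homomorphism from `Sp_{2m}(F)` to an abelian group kills the
symplectic transvections, except for `Sp_2(2)`, `Sp_2(3)` and `Sp_4(2)`.
-/

set_option autoImplicit false
open Cfsg
open scoped Matrix

namespace Cfsg.Agent.LieClassical.SympPerfect

open Cfsg.Agent.ClassicalGeometry.SympBasic

section CommRing

variable {F : Type*} [CommRing F] {m : ℕ}

theorem transv_mul (v : Fin m ⊕ Fin m → F) (c d : F) :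
    transv v c * transv v d = transv v (c + d) :=
  Subtype.ext (sympTransvection_mul v c d)

theorem transv_zero (v : Fin m ⊕ Fin m → F) : transv v (0 : F) = 1 :=
  Subtype.ext (sympTransvection_zero v)

theorem transv_smul (v : Fin m ⊕ Fin m → F) (a c : F) :
    transv (a • v) c = transv v (a ^ 2 * c) :=
  Subtype.ext (sympTransvection_smul v a c)

theorem conj_transv (A : Matrix.symplecticGroup (Fin m) F) (v : Fin m ⊕ Fin m → F) (c : F) :
    A * transv v c * A⁻¹ =
      transv ((A : Matrix (Fin m ⊕ Fin m) (Fin m ⊕ Fin m) F) *ᵥ v) c := by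
  rw [mul_inv_eq_iff_eq_mul]
  exact Subtype.ext (mul_sympTransvection A.2 v c)

/-- Two symplectic matrices with the same action on vectors are equal. -/
theorem ext_mulVec {A B : Matrix.symplecticGroup (Fin m) F}
    (h : ∀ x, (A : Matrix (Fin m ⊕ Fin m) (Fin m ⊕ Fin m) F) *ᵥ x =
      (B : Matrix (Fin m ⊕ Fin m) (Fin m ⊕ Fin m) F) *ᵥ x) : A = B := by
  apply Subtype.ext
  rw [← Matrix.mulVec_injective.eq_iff]
  exact funext h

end CommRing

section Field

variable {F : Type*} [Field F] {m : ℕ} {A : Type*} [CommGroup A]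

/-- A homomorphism to an abelian group has the same value at all transvections with the same
parameter. -/
theorem map_transv_eq (φ : Matrix.symplecticGroup (Fin m) F →* A) {v w : Fin m ⊕ Fin m → F}
    (hv : v ≠ 0) (hw : w ≠ 0) (c : F) : φ (transv v c) = φ (transv w c) := by
  obtain ⟨g, -, hg⟩ := exists_transvGroup_mulVec_eq hv hw
  rw [← hg, ← conj_transv, map_mul, map_mul, map_inv, mul_inv_cancel_comm]

theorem map_transv_sq (φ : Matrix.symplecticGroup (Fin m) F →* A) {w : Fin m ⊕ Fin m → F}
    (hw : w ≠ 0) {a : F} (ha : a ≠ 0) (c : F) :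
    φ (transv w (a ^ 2 * c)) = φ (transv w c) := by
  rw [← transv_smul]
  exact map_transv_eq φ (smul_ne_zero ha hw) hw c

/-- If some square of the field is neither `0` nor `1`, all transvections are killed. -/
theorem map_transv_eq_one_of_sq (φ : Matrix.symplecticGroup (Fin m) F →* A)
    {w : Fin m ⊕ Fin m → F} (hw : w ≠ 0) {a : F} (ha : a ≠ 0) (ha' : a ^ 2 ≠ 1) (c : F) :
    φ (transv w c) = 1 := by
  have h1 : a ^ 2 - 1 ≠ 0 := sub_ne_zero.2 ha'
  have h := map_transv_sq φ hw ha ((a ^ 2 - 1)⁻¹ * c)
  have h2 : a ^ 2 * ((a ^ 2 - 1)⁻¹ * c) = c + (a ^ 2 - 1)⁻¹ * c := by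
    field_simp
    ring
  rw [h2, ← transv_mul, map_mul] at h
  exact mul_eq_right.1 h

/-- The relation between transvections with orthogonal vectors `x, y`, `x + y`, `x - y`. -/
theorem transv_add_mul_transv_sub {x y : Fin m ⊕ Fin m → F} (hxy : sympForm m F x y = 0) (c : F) :
    transv (x + y) c * transv (x - y) c = transv x (2 * c) * transv y (2 * c) := by
  have hyx : sympForm m F y x = 0 := by rw [sympForm_swap, hxy, neg_zero]
  apply ext_mulVec
  intro v
  rw [coe_mul_mulVec, coe_mul_mulVec, coe_transv, coe_transv, coe_transv, coe_transv,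
    sympTransvection_mulVec, sympTransvection_mulVec, sympTransvection_mulVec,
    sympTransvection_mulVec]
  simp only [sympForm_add_left, sympForm_add_right, sympForm_sub_left, sympForm_sub_right,
    sympForm_smul_left, sympForm_self, hxy, hyx]
  ext i
  simp only [Pi.add_apply, Pi.smul_apply, Pi.sub_apply, smul_eq_mul]
  ring

/-- In rank at least two, twice a parameter is killed. -/
theorem map_transv_two (φ : Matrix.symplecticGroup (Fin m) F →* A) {x y : Fin m ⊕ Fin m → F}
    (hx : x ≠ 0) (hy : y ≠ 0) (h1 : x + y ≠ 0) (h2 : x - y ≠ 0) (hxy : sympForm m F x y = 0)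
    (c : F) : φ (transv x c) ^ 2 = 1 := by
  have h := congrArg φ (transv_add_mul_transv_sub hxy c)
  rw [map_mul, map_mul, map_transv_eq φ h1 hx, map_transv_eq φ h2 hx, map_transv_eq φ hy hx,
    two_mul, ← transv_mul, map_mul] at h
  rw [pow_two]
  exact mul_eq_left.1 h.symm

/-- The relation between the transvections of the seven non-zero vectors of a totally isotropic
plane of projective dimension two over the field of two elements. -/
theorem transv_fano (h2 : (2 : F) = 0) {x y z : Fin m ⊕ Fin m → F}
    (hxy : sympForm m F x y = 0) (hxz : sympForm m F x z = 0) (hyz : sympForm m F y z = 0) :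
    transv (x + y + z) 1 * (transv (x + y) 1 * (transv (x + z) 1 * (transv (y + z) 1 *
      (transv x 1 * (transv y 1 * transv z 1))))) = 1 := by
  have hyx : sympForm m F y x = 0 := by rw [sympForm_swap, hxy, neg_zero]
  have hzx : sympForm m F z x = 0 := by rw [sympForm_swap, hxz, neg_zero]
  have hzy : sympForm m F z y = 0 := by rw [sympForm_swap, hyz, neg_zero]
  apply ext_mulVec
  intro v
  simp only [coe_mul_mulVec, coe_transv, sympTransvection_mulVec]
  simp only [sympForm_add_left, sympForm_add_right, sympForm_smul_left, sympForm_self, hxy, hyx,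
    hxz, hyz, hzx, hzy]
  rw [show ((1 : Matrix.symplecticGroup (Fin m) F) :
    Matrix (Fin m ⊕ Fin m) (Fin m ⊕ Fin m) F) = 1 from rfl, Matrix.one_mulVec]
  ext i
  simp only [Pi.add_apply, Pi.smul_apply, smul_eq_mul]
  linear_combination (2 * (x i * sympForm m F v x + y i * sympForm m F v y +
    z i * sympForm m F v z) + (x i * sympForm m F v y + y i * sympForm m F v x +
    x i * sympForm m F v z + z i * sympForm m F v x +
    y i * sympForm m F v z + z i * sympForm m F v y)) * h2

/-- The standard basis vectors of the first totally isotropic half. -/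
def e (F : Type*) [Field F] {m : ℕ} (i : Fin m) : Fin m ⊕ Fin m → F := Pi.single (Sum.inl i) 1

theorem e_apply (i j : Fin m) : e F i (Sum.inl j) = if j = i then 1 else 0 := by
  unfold e
  by_cases h : j = i
  · subst h
    rw [Pi.single_eq_same, if_pos rfl]
  · rw [if_neg h, Pi.single_eq_of_ne]
    exact fun h' => h (Sum.inl_injective h')

theorem sympForm_e (i j : Fin m) : sympForm m F (e F i) (e F j) = 0 := by
  unfold e
  rw [sympForm_single_inl_left, Pi.single_eq_of_ne, neg_zero]
  exact Sum.inr_ne_inl

theorem map_transv_add (φ : Matrix.symplecticGroup (Fin m) F →* A) (w : Fin m ⊕ Fin m → F)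
    (c d : F) : φ (transv w (c + d)) = φ (transv w c) * φ (transv w d) := by
  rw [← transv_mul, map_mul]

/-- Every homomorphism of `Sp_{2m}(F)` to an abelian group kills the transvections. -/
theorem map_transv_eq_one [Fintype F]
    (h : 3 ≤ m ∨ (m = 2 ∧ 3 ≤ Fintype.card F) ∨ 4 ≤ Fintype.card F)
    (φ : Matrix.symplecticGroup (Fin m) F →* A) (w : Fin m ⊕ Fin m → F) (c : F) :
    φ (transv w c) = 1 := by
  classical
  by_cases hw : w = 0
  · have : transv w c = transv ((0 : F) • w) c := by rw [zero_smul, hw]
    rw [this, transv_smul, zero_pow two_ne_zero, zero_mul, transv_zero, map_one]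
  by_cases hc : c = 0
  · rw [hc, transv_zero, map_one]
  by_cases ha : ∃ a : F, a ≠ 0 ∧ a ^ 2 ≠ 1
  · obtain ⟨a, ha0, ha1⟩ := ha
    exact map_transv_eq_one_of_sq φ hw ha0 ha1 c
  push Not at ha
  have hcases : ∀ a : F, a ≠ 0 → a = 1 ∨ a = -1 := fun a h0 => sq_eq_one_iff.1 (ha a h0)
  by_cases h2 : (2 : F) = 0
  · -- the field of two elements
    have hneg : (-1 : F) = 1 := by linear_combination -h2
    have hone : ∀ a : F, a ≠ 0 → a = 1 := fun a h0 => (hcases a h0).elim id (fun h => h.trans hneg)
    have hcard : Fintype.card F ≤ 2 := by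
      rw [← Finset.card_univ]
      refine (Finset.card_le_card (t := {0, 1}) fun a _ => ?_).trans Finset.card_le_two
      by_cases h0 : a = 0
      · simp [h0]
      · simp [hone a h0]
    have hm : 3 ≤ m := by omega
    obtain rfl : c = 1 := hone c hc
    let i : Fin m := ⟨0, by omega⟩
    let j : Fin m := ⟨1, by omega⟩
    let k : Fin m := ⟨2, by omega⟩
    have hij : i ≠ j := by simp [i, j, Fin.ext_iff]
    have hik : i ≠ k := by simp [i, k, Fin.ext_iff]
    have hjk : j ≠ k := by simp [j, k, Fin.ext_iff]
    have key := congrArg φ (transv_fano (F := F) h2 (sympForm_e i j) (sympForm_e i k)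
      (sympForm_e j k))
    have hx : e F i ≠ 0 := fun h => by simpa [e_apply] using congrFun h (Sum.inl i)
    have hy : e F j ≠ 0 := fun h => by simpa [e_apply] using congrFun h (Sum.inl j)
    have hz : e F k ≠ 0 := fun h => by simpa [e_apply] using congrFun h (Sum.inl k)
    have hxy : e F i + e F j ≠ 0 := fun h => by
      simpa [e_apply, hij] using congrFun h (Sum.inl i)
    have hxz : e F i + e F k ≠ 0 := fun h => by
      simpa [e_apply, hik] using congrFun h (Sum.inl i)
    have hyz : e F j + e F k ≠ 0 := fun h => by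
      simpa [e_apply, hjk] using congrFun h (Sum.inl j)
    have hxyz : e F i + e F j + e F k ≠ 0 := fun h => by
      simpa [e_apply, hij, hik] using congrFun h (Sum.inl i)
    rw [map_mul, map_mul, map_mul, map_mul, map_mul, map_mul, map_one, map_transv_eq φ hx hw,
      map_transv_eq φ hy hw, map_transv_eq φ hz hw, map_transv_eq φ hxy hw,
      map_transv_eq φ hxz hw, map_transv_eq φ hyz hw, map_transv_eq φ hxyz hw] at key
    have h2' : φ (transv w 1) * φ (transv w 1) = 1 := by
      rw [← map_transv_add, one_add_one_eq_two, h2, transv_zero, map_one]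
    calc φ (transv w 1) = φ (transv w 1) * (φ (transv w 1) * (φ (transv w 1) *
        (φ (transv w 1) * (φ (transv w 1) * (φ (transv w 1) * φ (transv w 1)))))) := by
          rw [h2', mul_one, h2', mul_one, h2', mul_one]
      _ = 1 := key
  · -- the field of three elements
    have h3 : (3 : F) = 0 := by
      rcases hcases 2 h2 with h | h
      · exact absurd (by linear_combination h : (1 : F) = 0) one_ne_zero
      · linear_combination h
    have hm : 2 ≤ m := by
      have hcard : Fintype.card F ≤ 3 := by
        rw [← Finset.card_univ]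
        refine (Finset.card_le_card (t := {0, 1, -1}) fun a _ => ?_).trans Finset.card_le_three
        by_cases h0 : a = 0
        · simp [h0]
        · rcases hcases a h0 with h | h <;> simp [h]
      omega
    let i : Fin m := ⟨0, by omega⟩
    let j : Fin m := ⟨1, by omega⟩
    have hij : i ≠ j := by simp [i, j, Fin.ext_iff]
    have hx : e F i ≠ 0 := fun h => by simpa [e_apply] using congrFun h (Sum.inl i)
    have hy : e F j ≠ 0 := fun h => by simpa [e_apply] using congrFun h (Sum.inl j)
    have hxy : e F i + e F j ≠ 0 := fun h => by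
      simpa [e_apply, hij] using congrFun h (Sum.inl i)
    have hxy' : e F i - e F j ≠ 0 := fun h => by
      simpa [e_apply, hij] using congrFun h (Sum.inl i)
    have key := map_transv_two φ hx hy hxy hxy' (sympForm_e i j) c
    rw [map_transv_eq φ hx hw] at key
    have h3' : φ (transv w c) ^ 2 * φ (transv w c) = 1 := by
      rw [pow_two, ← map_transv_add, ← map_transv_add,
        show c + c + c = 3 * c by ring, h3, zero_mul, transv_zero, map_one]
    rwa [key, one_mul] at h3'

/-- Every homomorphism of `Sp_{2m}(F)` to an abelian group is trivial. -/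
theorem map_eq_one [Fintype F]
    (h : 3 ≤ m ∨ (m = 2 ∧ 3 ≤ Fintype.card F) ∨ 4 ≤ Fintype.card F)
    (φ : Matrix.symplecticGroup (Fin m) F →* A) (g : Matrix.symplecticGroup (Fin m) F) :
    φ g = 1 := by
  have hg : g ∈ Subgroup.closure {A : Matrix.symplecticGroup (Fin m) F |
      ∃ (w : Fin m ⊕ Fin m → F) (c : F), (A : Matrix (Fin m ⊕ Fin m) (Fin m ⊕ Fin m) F) =
        Cfsg.sympTransvection m w c} := by
    rw [Cfsg.Agent.S0765.result]
    exact Subgroup.mem_top g
  induction hg using Subgroup.closure_induction with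
  | mem x hx =>
    obtain ⟨w, c, hx⟩ := hx
    have : x = transv w c := Subtype.ext hx
    rw [this]
    exact map_transv_eq_one h φ w c
  | one => exact map_one φ
  | mul x y _ _ hx hy => rw [map_mul, hx, hy, one_mul]
  | inv x _ hx => rw [map_inv, hx, inv_one]

theorem commutator_eq_top [Fintype F]
    (h : 3 ≤ m ∨ (m = 2 ∧ 3 ≤ Fintype.card F) ∨ 4 ≤ Fintype.card F) :
    commutator (Matrix.symplecticGroup (Fin m) F) = ⊤ := by
  rw [eq_top_iff]
  intro g _
  rw [← Abelianization.ker_of, MonoidHom.mem_ker]
  exact map_eq_one h _ g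

end Field

end Cfsg.Agent.LieClassical.SympPerfect
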