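import Mathlib
import Cfsg.Prelude.Def_ClassicalGeometry
import Cfsg.Agent.ClassicalGeometry.Reflection
set_option linter.all false

set_option autoImplicit false
set_option linter.unusedSectionVars false

/-!
The centraliser of `Omega F Q` in the isometry group of a nondegenerate isotropic quadratic form in
dimension at least three is `{1, -1}` (any field, any characteristic).
-/

namespace Cfsg.Agent.LieClassical.OmegaCenter

open QuadraticMap Matrix Module
open scoped commutatorElement
open Cfsg.Agent.ClassicalGeometry.Reflection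

variable {ι : Type} [Fintype ι] [DecidableEq ι] {F : Type*} [Field F]

/-- The matrix of the Siegel (Eichler) transformation
`x ↦ x + B(u,x) w - B(w,x) u - Q(w) B(u,x) u`. -/
def eichlerMatrix (Q : QuadraticForm F (ι → F)) (u w : ι → F) : Matrix ι ι F :=
  1 + Matrix.vecMulVec w (Cfsg.polarVec (⇑Q) u) - Matrix.vecMulVec u (Cfsg.polarVec (⇑Q) w)
    - Q w • Matrix.vecMulVec u (Cfsg.polarVec (⇑Q) u)

theorem eichlerMatrix_mulVec (Q : QuadraticForm F (ι → F)) (u w x : ι → F) :
    eichlerMatrix Q u w *ᵥ x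
      = x + polar (⇑Q) u x • w - polar (⇑Q) w x • u - (Q w * polar (⇑Q) u x) • u := by
  rw [eichlerMatrix, Matrix.sub_mulVec, Matrix.sub_mulVec, Matrix.add_mulVec, Matrix.one_mulVec,
    Matrix.smul_mulVec, Matrix.vecMulVec_mulVec, Matrix.vecMulVec_mulVec,
    Matrix.vecMulVec_mulVec, polarVec_dotProduct, polarVec_dotProduct]
  simp [op_smul_eq_smul, smul_smul]

theorem eichlerMatrix_isometry (Q : QuadraticForm F (ι → F)) {u w : ι → F} (hu : Q u = 0)
    (huw : polar (⇑Q) u w = 0) (x : ι → F) : Q (eichlerMatrix Q u w *ᵥ x) = Q x := by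
  have h : eichlerMatrix Q u w *ᵥ x
      = x + (polar (⇑Q) u x • w + (-(polar (⇑Q) w x + Q w * polar (⇑Q) u x)) • u) := by
    rw [eichlerMatrix_mulVec, neg_smul, add_smul]
    abel
  rw [h, map_add', map_add', QuadraticMap.map_smul, QuadraticMap.map_smul,
    QuadraticMap.polar_add_right, QuadraticMap.polar_smul_right, QuadraticMap.polar_smul_right,
    QuadraticMap.polar_smul_left, QuadraticMap.polar_smul_right, hu, polar_comm (⇑Q) w u, huw,
    polar_comm (⇑Q) x w, polar_comm (⇑Q) x u]
  simp only [smul_eq_mul]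
  ring

theorem eichlerMatrix_mul (Q : QuadraticForm F (ι → F)) {u w w' : ι → F} (hu : Q u = 0)
    (huw : polar (⇑Q) u w = 0) (huw' : polar (⇑Q) u w' = 0) :
    eichlerMatrix Q u w * eichlerMatrix Q u w' = eichlerMatrix Q u (w + w') := by
  apply Matrix.mulVec_injective
  funext x
  rw [← Matrix.mulVec_mulVec, eichlerMatrix_mulVec, eichlerMatrix_mulVec, eichlerMatrix_mulVec]
  have h1 : polar (⇑Q) u (x + polar (⇑Q) u x • w' - polar (⇑Q) w' x • u
      - (Q w' * polar (⇑Q) u x) • u) = polar (⇑Q) u x := by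
    rw [QuadraticMap.polar_sub_right, QuadraticMap.polar_sub_right, QuadraticMap.polar_add_right,
      QuadraticMap.polar_smul_right, QuadraticMap.polar_smul_right, QuadraticMap.polar_smul_right,
      polar_self', hu, huw']
    simp
  have h2 : polar (⇑Q) w (x + polar (⇑Q) u x • w' - polar (⇑Q) w' x • u
      - (Q w' * polar (⇑Q) u x) • u)
      = polar (⇑Q) w x + polar (⇑Q) u x * polar (⇑Q) w w' := by
    rw [QuadraticMap.polar_sub_right, QuadraticMap.polar_sub_right, QuadraticMap.polar_add_right,
      QuadraticMap.polar_smul_right, QuadraticMap.polar_smul_right, QuadraticMap.polar_smul_right,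
      polar_comm (⇑Q) w u, huw]
    simp
  rw [h1, h2, map_add', QuadraticMap.polar_add_left]
  module

theorem eichlerMatrix_zero (Q : QuadraticForm F (ι → F)) (u : ι → F) :
    eichlerMatrix Q u 0 = 1 := by
  apply Matrix.mulVec_injective
  funext x
  rw [eichlerMatrix_mulVec]
  simp

/-- The Siegel (Eichler) transformation as an element of the isometry group. -/
def eichler (Q : QuadraticForm F (ι → F)) (u w : ι → F) (hu : Q u = 0)
    (huw : polar (⇑Q) u w = 0) : Cfsg.isometryGroup F (⇑Q) :=
  ⟨⟨eichlerMatrix Q u w, eichlerMatrix Q u (-w),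
      by rw [eichlerMatrix_mul Q hu huw (by rw [QuadraticMap.polar_neg_right, huw, neg_zero]),
        add_neg_cancel, eichlerMatrix_zero],
      by rw [eichlerMatrix_mul Q hu (by rw [QuadraticMap.polar_neg_right, huw, neg_zero]) huw,
        neg_add_cancel, eichlerMatrix_zero]⟩,
    (mem_isometryGroup_iff _ _).2 fun x => eichlerMatrix_isometry Q hu huw x⟩

@[simp] theorem coe_eichler (Q : QuadraticForm F (ι → F)) (u w : ι → F) (hu : Q u = 0)
    (huw : polar (⇑Q) u w = 0) :
    ((eichler Q u w hu huw : Matrix.GeneralLinearGroup ι F) : Matrix ι ι F)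
      = eichlerMatrix Q u w := rfl

/-- Image of a vector under an isometry. -/
abbrev act {Q : (ι → F) → F} (g : Cfsg.isometryGroup F Q) (x : ι → F) : ι → F :=
  ((g : Matrix.GeneralLinearGroup ι F) : Matrix ι ι F) *ᵥ x

theorem map_act (Q : QuadraticForm F (ι → F)) (g : Cfsg.isometryGroup F (⇑Q)) (x : ι → F) :
    Q (act g x) = Q x := (mem_isometryGroup_iff _ _).1 g.2 x

theorem polar_act (Q : QuadraticForm F (ι → F)) (g : Cfsg.isometryGroup F (⇑Q)) (x y : ι → F) :
    polar (⇑Q) (act g x) (act g y) = polar (⇑Q) x y :=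
  polar_mulVec_of_isometry Q _ (map_act Q g) x y

theorem eichler_ext (Q : QuadraticForm F (ι → F)) {u w w' : ι → F} (hu : Q u = 0)
    (huw : polar (⇑Q) u w = 0) (huw' : polar (⇑Q) u w' = 0) (h : w = w') :
    eichler Q u w hu huw = eichler Q u w' hu huw' := by
  subst h; rfl

theorem eichler_mul (Q : QuadraticForm F (ι → F)) {u w w' : ι → F} (hu : Q u = 0)
    (huw : polar (⇑Q) u w = 0) (huw' : polar (⇑Q) u w' = 0) :
    eichler Q u w hu huw * eichler Q u w' hu huw'
      = eichler Q u (w + w') hu (by rw [QuadraticMap.polar_add_right, huw, huw', add_zero]) := by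
  apply Subtype.ext
  apply Units.ext
  exact eichlerMatrix_mul Q hu huw huw'

theorem eichler_inv (Q : QuadraticForm F (ι → F)) {u w : ι → F} (hu : Q u = 0)
    (huw : polar (⇑Q) u w = 0) :
    (eichler Q u w hu huw)⁻¹
      = eichler Q u (-w) hu (by rw [QuadraticMap.polar_neg_right, huw, neg_zero]) := by
  rw [inv_eq_iff_mul_eq_one]
  apply Subtype.ext
  apply Units.ext
  change eichlerMatrix Q u w * eichlerMatrix Q u (-w) = 1
  rw [eichlerMatrix_mul Q hu huw (by rw [QuadraticMap.polar_neg_right, huw, neg_zero]),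
    add_neg_cancel, eichlerMatrix_zero]

theorem conj_eichler (Q : QuadraticForm F (ι → F)) {u w : ι → F} (hu : Q u = 0)
    (huw : polar (⇑Q) u w = 0) (g : Cfsg.isometryGroup F (⇑Q)) :
    g * eichler Q u w hu huw * g⁻¹
      = eichler Q (act g u) (act g w) (by rw [map_act, hu]) (by rw [polar_act, huw]) := by
  rw [mul_inv_eq_iff_eq_mul]
  apply isometryGroup_ext
  intro x
  rw [coe_mul_mulVec, coe_mul_mulVec, coe_eichler, coe_eichler, eichlerMatrix_mulVec,
    eichlerMatrix_mulVec, Matrix.mulVec_sub, Matrix.mulVec_sub, Matrix.mulVec_add,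
    Matrix.mulVec_smul, Matrix.mulVec_smul, Matrix.mulVec_smul, polar_act, polar_act, map_act]

/-- In a nondegenerate space, if `v` is not proportional to `u`, some vector orthogonal to `u` is not
orthogonal to `v`. -/
theorem exists_polar_eq (Q : QuadraticForm F (ι → F)) (hQ : (polarBilin Q).Nondegenerate)
    {u v : ι → F} (hu0 : Q u = 0) (huv : Q v ≠ 0) (c : F) :
    ∃ x, polar (⇑Q) u x = 0 ∧ polar (⇑Q) v x = c := by
  classical
  by_contra hcon
  have hall : ∀ x, polar (⇑Q) u x = 0 → polar (⇑Q) v x = 0 := by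
    intro x hx
    by_contra hne
    refine hcon ⟨(c * (polar (⇑Q) v x)⁻¹) • x, ?_, ?_⟩
    · rw [QuadraticMap.polar_smul_right, hx, smul_zero]
    · rw [QuadraticMap.polar_smul_right, smul_eq_mul, mul_assoc, inv_mul_cancel₀ hne, mul_one]
  have hkey : ∃ a : F, v = a • u := by
    by_cases h : ∃ y, polar (⇑Q) u y ≠ 0
    · obtain ⟨y, hy⟩ := h
      refine ⟨polar (⇑Q) v y * (polar (⇑Q) u y)⁻¹, ?_⟩
      rw [← sub_eq_zero]
      apply hQ.1
      intro x
      rw [polarBilin_apply_apply, QuadraticMap.polar_sub_left, QuadraticMap.polar_smul_left]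
      have hx := hall (x - (polar (⇑Q) u x * (polar (⇑Q) u y)⁻¹) • y) (by
        rw [QuadraticMap.polar_sub_right, QuadraticMap.polar_smul_right, smul_eq_mul, mul_assoc,
          inv_mul_cancel₀ hy, mul_one, sub_self])
      rw [QuadraticMap.polar_sub_right, QuadraticMap.polar_smul_right, smul_eq_mul] at hx
      rw [smul_eq_mul]
      linear_combination hx
    · push Not at h
      refine ⟨0, ?_⟩
      rw [zero_smul]
      apply hQ.1
      intro x
      rw [polarBilin_apply_apply]
      exact hall x (h x)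
  obtain ⟨a, rfl⟩ := hkey
  rw [QuadraticMap.map_smul, hu0, smul_zero] at huv
  exact huv rfl

/-- Siegel transformations with nonsingular second parameter are commutators in the isometry group
(no restriction on the dimension, field or characteristic). -/
theorem eichler_mem_omega (Q : QuadraticForm F (ι → F)) (hQ : (polarBilin Q).Nondegenerate)
    {u v : ι → F} (hu : Q u = 0) (huv : polar (⇑Q) u v = 0) (hv : Q v ≠ 0) :
    eichler Q u v hu huv ∈ Cfsg.Omega F (⇑Q) := by
  obtain ⟨w, hw1, hw2⟩ := exists_polar_eq Q hQ hu hv (-(Q v))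
  have hr : act (reflIso Q v hv) u = u := by
    change Cfsg.reflectionMatrix (⇑Q) v *ᵥ u = u
    rw [reflectionMatrix_mulVec, polar_comm (⇑Q) v u, huv]
    simp
  have hrw : act (reflIso Q v hv) w = w + v := by
    change Cfsg.reflectionMatrix (⇑Q) v *ᵥ w = w + v
    rw [reflectionMatrix_mulVec, hw2, mul_neg, inv_mul_cancel₀ hv, neg_smul, one_smul]
    abel
  have key : ⁅reflIso Q v hv, eichler Q u w hu hw1⁆ = eichler Q u v hu huv := by
    rw [commutatorElement_def, conj_eichler, eichler_inv]
    apply isometryGroup_ext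
    intro x
    rw [coe_mul_mulVec, coe_eichler, coe_eichler, coe_eichler, hr, hrw, Matrix.mulVec_mulVec,
      eichlerMatrix_mul Q hu (by rw [QuadraticMap.polar_add_right, huv, hw1, add_zero])
        (by rw [QuadraticMap.polar_neg_right, hw1, neg_zero])]
    congr 2
    abel
  rw [← key]
  exact Subgroup.commutator_mem_commutator (Subgroup.mem_top _) (Subgroup.mem_top _)

/-- An isometry commuting with `Omega` fixes the line of each singular vector that is orthogonal to a
nonsingular vector. -/
theorem exists_smul_of_commute (Q : QuadraticForm F (ι → F)) (hQ : (polarBilin Q).Nondegenerate)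
    (z : Cfsg.isometryGroup F (⇑Q)) (hz : ∀ g ∈ Cfsg.Omega F (⇑Q), z * g = g * z)
    {u v : ι → F} (hu : Q u = 0) (huv : polar (⇑Q) u v = 0) (hv : Q v ≠ 0) :
    ∃ a : F, act z u = a • u := by
  obtain ⟨x, hx1, hx2⟩ := exists_polar_eq Q hQ hu hv (-1)
  have h := hz _ (eichler_mem_omega Q hQ hu huv hv)
  have h' : act (z * eichler Q u v hu huv) x = act (eichler Q u v hu huv * z) x := by rw [h]
  rw [act, act, coe_mul_mulVec, coe_mul_mulVec, coe_eichler, eichlerMatrix_mulVec,
    eichlerMatrix_mulVec, hx1, hx2] at h'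
  simp only [zero_smul, mul_zero, sub_zero, add_zero, neg_smul, one_smul, sub_neg_eq_add,
    Matrix.mulVec_add] at h'
  have h1 : act z u = polar (⇑Q) u (act z x) • v
      + (-(polar (⇑Q) v (act z x) + Q v * polar (⇑Q) u (act z x))) • u := by
    have h2 : act z x + act z u = act z x + (polar (⇑Q) u (act z x) • v
        + (-(polar (⇑Q) v (act z x) + Q v * polar (⇑Q) u (act z x))) • u) := by
      rw [h', neg_smul, add_smul]
      abel
    exact add_left_cancel h2
  have h3 : Q (act z u) = 0 := by rw [map_act, hu]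
  have h4 : polar (⇑Q) u (act z x) = 0 := by
    rw [h1, map_add', QuadraticMap.map_smul, QuadraticMap.map_smul, hu,
      QuadraticMap.polar_smul_left, QuadraticMap.polar_smul_right, polar_comm (⇑Q) v u, huv] at h3
    simp only [smul_eq_mul, mul_zero, add_zero] at h3
    rcases mul_eq_zero.1 h3 with h5 | h5
    · exact mul_self_eq_zero.1 h5
    · exact absurd h5 hv
  rw [h4, zero_smul, zero_add] at h1
  exact ⟨_, h1⟩

/-- **Centraliser of `Omega`**: an isometry of a nondegenerate isotropic quadratic form in dimension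
at least three which commutes with the commutator subgroup of the isometry group is `1` or `-1`. -/
theorem eq_one_or_neg_one_of_commute_omega (Q : QuadraticForm F (ι → F))
    (hQ : (polarBilin Q).Nondegenerate) (hn : 3 ≤ Fintype.card ι)
    (hs : ∃ u : ι → F, u ≠ 0 ∧ Q u = 0) (z : Cfsg.isometryGroup F (⇑Q))
    (hz : ∀ g ∈ Cfsg.Omega F (⇑Q), z * g = g * z) :
    ((z : Matrix.GeneralLinearGroup ι F) : Matrix ι ι F) = 1 ∨
      ((z : Matrix.GeneralLinearGroup ι F) : Matrix ι ι F) = -1 := by
  classical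
  obtain ⟨u, hu0, hu⟩ := hs
  -- a hyperbolic partner
  obtain ⟨u', hu', huu'⟩ : ∃ u', Q u' = 0 ∧ polar (⇑Q) u u' = 1 := by
    have h : ∃ y, polar (⇑Q) u y ≠ 0 := by
      by_contra hcon
      push Not at hcon
      exact hu0 (hQ.1 _ fun x => by rw [polarBilin_apply_apply]; exact hcon x)
    obtain ⟨y, hy⟩ := h
    obtain ⟨y', h1⟩ : ∃ y', polar (⇑Q) u y' = 1 := ⟨(polar (⇑Q) u y)⁻¹ • y, by
      rw [QuadraticMap.polar_smul_right, smul_eq_mul, inv_mul_cancel₀ hy]⟩
    refine ⟨y' + (-(Q y')) • u, ?_, ?_⟩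
    · rw [map_add', QuadraticMap.map_smul, hu, QuadraticMap.polar_smul_right, polar_comm (⇑Q) y' u,
        h1]
      simp
    · rw [QuadraticMap.polar_add_right, QuadraticMap.polar_smul_right, polar_self', hu, h1]
      simp
  have huu'2 : polar (⇑Q) u' u = 1 := by rw [polar_comm]; exact huu'
  have huu : polar (⇑Q) u u = 0 := by rw [polar_self', hu, mul_zero]
  have hu'u' : polar (⇑Q) u' u' = 0 := by rw [polar_self', hu', mul_zero]
  -- projection on the orthogonal complement of the hyperbolic plane
  have hproj : ∀ x : ι → F, ∃ w, polar (⇑Q) u w = 0 ∧ polar (⇑Q) u' w = 0 ∧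
      x = polar (⇑Q) u' x • u + polar (⇑Q) u x • u' + w := by
    intro x
    refine ⟨x - polar (⇑Q) u' x • u - polar (⇑Q) u x • u', ?_, ?_, by abel⟩
    · rw [QuadraticMap.polar_sub_right, QuadraticMap.polar_sub_right,
        QuadraticMap.polar_smul_right, QuadraticMap.polar_smul_right, huu, huu']
      simp
    · rw [QuadraticMap.polar_sub_right, QuadraticMap.polar_sub_right,
        QuadraticMap.polar_smul_right, QuadraticMap.polar_smul_right, hu'u', huu'2]
      simp
  -- the complement is nonzero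
  obtain ⟨w₀, hw₀u, hw₀u', hw₀⟩ : ∃ w, polar (⇑Q) u w = 0 ∧ polar (⇑Q) u' w = 0 ∧ w ≠ 0 := by
    by_contra hcon
    push Not at hcon
    have hspan : (⊤ : Submodule F (ι → F)) ≤
        Submodule.span F ((({u, u'} : Finset (ι → F)) : Set (ι → F))) := by
      intro x _
      obtain ⟨w, h1, h2, h3⟩ := hproj x
      rw [hcon w h1 h2, add_zero] at h3
      rw [h3]
      exact Submodule.add_mem _
        (Submodule.smul_mem _ _ (Submodule.subset_span (by simp)))
        (Submodule.smul_mem _ _ (Submodule.subset_span (by simp)))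
    have h1 : finrank F (⊤ : Submodule F (ι → F)) ≤ 2 := by
      refine (Submodule.finrank_mono hspan).trans ?_
      exact (finrank_span_finset_le_card _).trans Finset.card_le_two
    rw [finrank_top, Module.finrank_fintype_fun_eq_card] at h1
    omega
  -- a nonsingular vector in the complement
  obtain ⟨v, hvu, hvu', hv⟩ : ∃ v, polar (⇑Q) u v = 0 ∧ polar (⇑Q) u' v = 0 ∧ Q v ≠ 0 := by
    by_cases h0 : Q w₀ = 0
    · have h : ∃ y, polar (⇑Q) w₀ y ≠ 0 := by
        by_contra hcon
        push Not at hcon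
        exact hw₀ (hQ.1 _ fun x => by rw [polarBilin_apply_apply]; exact hcon x)
      obtain ⟨y, hy⟩ := h
      obtain ⟨w, h1, h2, h3⟩ := hproj y
      rw [h3, QuadraticMap.polar_add_right, QuadraticMap.polar_add_right,
        QuadraticMap.polar_smul_right, QuadraticMap.polar_smul_right, polar_comm (⇑Q) w₀ u,
        polar_comm (⇑Q) w₀ u', hw₀u, hw₀u', smul_zero, smul_zero, zero_add, zero_add] at hy
      by_cases h4 : Q w = 0
      · refine ⟨w₀ + w, ?_, ?_, ?_⟩
        · rw [QuadraticMap.polar_add_right, hw₀u, h1, add_zero]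
        · rw [QuadraticMap.polar_add_right, hw₀u', h2, add_zero]
        · rw [map_add', h0, h4, zero_add, zero_add]
          exact hy
      · exact ⟨w, h1, h2, h4⟩
    · exact ⟨w₀, hw₀u, hw₀u', h0⟩
  obtain ⟨a, ha⟩ := exists_smul_of_commute Q hQ z hz hu hvu hv
  obtain ⟨a', ha'⟩ := exists_smul_of_commute Q hQ z hz hu' hvu' hv
  have haa' : a * a' = 1 := by
    have h := polar_act Q z u u'
    rw [ha, ha', QuadraticMap.polar_smul_left, QuadraticMap.polar_smul_right, huu'] at h
    simpa using h
  -- the action on the complement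
  have hW : ∀ w, polar (⇑Q) u w = 0 → polar (⇑Q) u' w = 0 →
      act z w = a' • w ∧ Q w * a = Q w * a' := by
    intro w hwu hwu'
    -- `y = u' + w - Q(w) u` is the image of `u'`
    have hy : act (eichler Q u w hu hwu) u' = u' + w + (-(Q w)) • u := by
      change eichlerMatrix Q u w *ᵥ u' = _
      rw [eichlerMatrix_mulVec, huu', polar_comm (⇑Q) w u', hwu']
      simp only [one_smul, zero_smul, sub_zero, mul_one, neg_smul]
      abel
    have h1 : Q (act (eichler Q u w hu hwu) u') = 0 := by rw [map_act, hu']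
    have h2 : polar (⇑Q) (act (eichler Q u w hu hwu) u') (act (eichler Q u w hu hwu) v) = 0 := by
      rw [polar_act, hvu']
    have h3 : Q (act (eichler Q u w hu hwu) v) ≠ 0 := by rw [map_act]; exact hv
    obtain ⟨c, hc⟩ := exists_smul_of_commute Q hQ z hz h1 h2 h3
    rw [hy] at hc
    have hc' : a' • u' + act z w + (-(Q w)) • (a • u) = c • (u' + w + (-(Q w)) • u) := by
      rw [← ha, ← ha', ← hc]
      simp only [act, Matrix.mulVec_add, Matrix.mulVec_smul]
    have hzu : polar (⇑Q) u (act z w) = 0 := by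
      have h4 := polar_act Q z u w
      rw [ha, QuadraticMap.polar_smul_left, hwu, smul_eq_mul] at h4
      rcases mul_eq_zero.1 h4 with h5 | h5
      · rw [h5, zero_mul] at haa'
        exact absurd haa' zero_ne_one
      · exact h5
    have hzu' : polar (⇑Q) u' (act z w) = 0 := by
      have h4 := polar_act Q z u' w
      rw [ha', QuadraticMap.polar_smul_left, hwu', smul_eq_mul] at h4
      rcases mul_eq_zero.1 h4 with h5 | h5
      · rw [h5, mul_zero] at haa'
        exact absurd haa' zero_ne_one
      · exact h5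
    have hca : a' = c := by
      have h4 := congrArg (polar (⇑Q) u) hc'
      simp only [QuadraticMap.polar_add_right, QuadraticMap.polar_smul_right, huu', huu, hzu, hwu,
        smul_eq_mul, mul_one, mul_zero, add_zero] at h4
      exact h4
    have hca2 : -(Q w) * a = -(Q w) * a' := by
      have h4 := congrArg (polar (⇑Q) u') hc'
      simp only [QuadraticMap.polar_add_right, QuadraticMap.polar_smul_right, huu'2, hu'u', hzu',
        hwu', smul_eq_mul, mul_one, mul_zero, zero_add] at h4
      rw [h4, hca]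
      ring
    refine ⟨?_, by linear_combination -hca2⟩
    rw [← hca] at hc'
    have h5 : (-(Q w)) • (a • u) = (-(Q w) * a') • u := by rw [smul_smul, hca2]
    rw [h5, smul_add, smul_add, smul_smul, mul_comm a'] at hc'
    exact add_left_cancel (add_right_cancel hc')
  have haa : a = a' := by
    have h := (hW v hvu hvu').2
    exact mul_left_cancel₀ hv h
  have hall : ∀ x, act z x = a • x := by
    intro x
    obtain ⟨w, h1, h2, h3⟩ := hproj x
    have h4 : act z x = polar (⇑Q) u' x • act z u + polar (⇑Q) u x • act z u' + act z w := by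
      conv_lhs => rw [h3]
      simp only [act, Matrix.mulVec_add, Matrix.mulVec_smul]
    rw [h4, ha, ha', (hW w h1 h2).1, ← haa]
    conv_rhs => rw [h3]
    module
  have ha2 : a = 1 ∨ a = -1 := by
    rw [← haa] at haa'
    exact mul_self_eq_one_iff.1 haa'
  rcases ha2 with h | h
  · left
    apply Matrix.mulVec_injective
    funext x
    rw [Matrix.one_mulVec]
    have := hall x
    rw [h, one_smul] at this
    exact this
  · right
    apply Matrix.mulVec_injective
    funext x
    rw [Matrix.neg_mulVec, Matrix.one_mulVec]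
    have := hall x
    rw [h, neg_one_smul] at this
    exact this

/-- The underlying matrix of an element of `Omega`. -/
abbrev omegaMat {Q : (ι → F) → F} (g : Cfsg.Omega F Q) : Matrix ι ι F :=
  (((g : Cfsg.isometryGroup F Q) : Matrix.GeneralLinearGroup ι F) : Matrix ι ι F)

theorem omega_ext {Q : (ι → F) → F} {g h : Cfsg.Omega F Q} (H : omegaMat g = omegaMat h) :
    g = h := by
  apply Subtype.ext
  apply Subtype.ext
  apply Units.ext
  exact H

theorem mem_center_omega_iff (Q : QuadraticForm F (ι → F))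
    (hQ : (polarBilin Q).Nondegenerate) (hn : 3 ≤ Fintype.card ι)
    (hs : ∃ u : ι → F, u ≠ 0 ∧ Q u = 0) (g : Cfsg.Omega F (⇑Q)) :
    g ∈ Subgroup.center (Cfsg.Omega F (⇑Q)) ↔ omegaMat g = 1 ∨ omegaMat g = -1 := by
  constructor
  · intro hg
    refine eq_one_or_neg_one_of_commute_omega Q hQ hn hs (g : Cfsg.isometryGroup F (⇑Q)) ?_
    intro h hh
    have := Subgroup.mem_center_iff.1 hg ⟨h, hh⟩
    exact (congrArg Subtype.val this).symm
  · rintro hg
    rw [Subgroup.mem_center_iff]
    intro h
    apply omega_ext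
    change omegaMat h * omegaMat g = omegaMat g * omegaMat h
    rcases hg with hg | hg
    · rw [hg, one_mul, mul_one]
    · rw [hg]; simp

/-- In characteristic two the centre of `Omega` is trivial. -/
theorem card_center_omega_two (h2 : (2 : F) = 0) (Q : QuadraticForm F (ι → F))
    (hQ : (polarBilin Q).Nondegenerate) (hn : 3 ≤ Fintype.card ι)
    (hs : ∃ u : ι → F, u ≠ 0 ∧ Q u = 0) :
    Nat.card (Subgroup.center (Cfsg.Omega F (⇑Q))) = 1 := by
  rw [Subgroup.card_eq_one, Subgroup.eq_bot_iff_forall]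
  intro g hg
  apply omega_ext
  have h1 : (-1 : Matrix ι ι F) = 1 := by
    have h3 : (-1 : F) = 1 := by linear_combination -h2
    ext i j
    by_cases hij : i = j
    · subst hij; simpa using h3
    · simp [hij]
  rcases (mem_center_omega_iff Q hQ hn hs g).1 hg with h | h
  · exact h
  · rw [h, h1]; rfl

/-- If `-1` does not lie in `Omega`, the centre of `Omega` is trivial. -/
theorem card_center_omega_of_not_mem (Q : QuadraticForm F (ι → F))
    (hQ : (polarBilin Q).Nondegenerate) (hn : 3 ≤ Fintype.card ι)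
    (hs : ∃ u : ι → F, u ≠ 0 ∧ Q u = 0)
    (h : ¬ ∃ g : Cfsg.isometryGroup F (⇑Q), g ∈ Cfsg.Omega F (⇑Q) ∧
      ((g : Matrix.GeneralLinearGroup ι F) : Matrix ι ι F) = -1) :
    Nat.card (Subgroup.center (Cfsg.Omega F (⇑Q))) = 1 := by
  rw [Subgroup.card_eq_one, Subgroup.eq_bot_iff_forall]
  intro g hg
  rcases (mem_center_omega_iff Q hQ hn hs g).1 hg with h1 | h1
  · exact omega_ext h1
  · exact absurd ⟨(g : Cfsg.isometryGroup F (⇑Q)), g.2, h1⟩ h

/-- In characteristic not two, if `-1` lies in `Omega`, the centre of `Omega` has order two. -/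
theorem card_center_omega_of_mem (h2 : (2 : F) ≠ 0) (Q : QuadraticForm F (ι → F))
    (hQ : (polarBilin Q).Nondegenerate) (hn : 3 ≤ Fintype.card ι)
    (hs : ∃ u : ι → F, u ≠ 0 ∧ Q u = 0)
    (h : ∃ g : Cfsg.isometryGroup F (⇑Q), g ∈ Cfsg.Omega F (⇑Q) ∧
      ((g : Matrix.GeneralLinearGroup ι F) : Matrix ι ι F) = -1) :
    Nat.card (Subgroup.center (Cfsg.Omega F (⇑Q))) = 2 := by
  obtain ⟨g, hg, hgm⟩ := h
  have hc : (⟨g, hg⟩ : Cfsg.Omega F (⇑Q)) ∈ Subgroup.center (Cfsg.Omega F (⇑Q)) :=
    (mem_center_omega_iff Q hQ hn hs _).2 (Or.inr hgm)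
  have hi : Nonempty ι := Fintype.card_pos_iff.1 (by omega)
  have hne : (⟨⟨g, hg⟩, hc⟩ : Subgroup.center (Cfsg.Omega F (⇑Q))) ≠ 1 := by
    intro h3
    have h4 : (-1 : Matrix ι ι F) = 1 := by
      rw [← hgm]
      have h5 : (⟨g, hg⟩ : Cfsg.Omega F (⇑Q)) = 1 := congrArg Subtype.val h3
      have h6 : g = 1 := congrArg Subtype.val h5
      rw [h6]; rfl
    obtain ⟨i⟩ := hi
    have h5 := congrFun (congrFun h4 i) i
    simp only [Matrix.neg_apply, Matrix.one_apply_eq] at h5
    apply h2
    linear_combination -h5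
  rw [Nat.card_eq_two_iff]
  refine ⟨1, ⟨⟨g, hg⟩, hc⟩, hne.symm, ?_⟩
  rw [Set.eq_univ_iff_forall]
  intro x
  rcases (mem_center_omega_iff Q hQ hn hs x.1).1 x.2 with h3 | h3
  · left
    apply Subtype.ext
    exact omega_ext h3
  · right
    apply Subtype.ext
    exact omega_ext (h3.trans hgm.symm)

/-- `|Omega| = |Z(Omega)| * |POmega|`. -/
theorem card_omega_eq (Q : (ι → F) → F) :
    Nat.card (Cfsg.Omega F Q)
      = Nat.card (Cfsg.POmega F Q) * Nat.card (Subgroup.center (Cfsg.Omega F Q)) :=
  Subgroup.card_eq_card_quotient_mul_card_subgroup _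

end Cfsg.Agent.LieClassical.OmegaCenter
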