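import Mathlib
import Cfsg.Prelude.Def_ClassicalGeometry
import Cfsg.Agent.ClassicalGeometry.Reflection
import Cfsg.Agent.LieClassical.OrthCore
set_option linter.all false

/-!
The centralizer of `Omega F Q` in `isometryGroup F Q` is `{1, -1}` for a nondegenerate isotropic quadratic form in
dimension at least three (any field, any characteristic); the centre of `Omega F Q`.
-/

set_option autoImplicit false
set_option linter.unusedSectionVars false

namespace Cfsg.Agent.LieClassical.OrthCenter

open QuadraticMap Matrix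
open Cfsg.Agent.ClassicalGeometry.Reflection
open Cfsg.Agent.LieClassical.OrthCore (siegelLin siegelLin_apply siegelLin_comp Nondeg)

variable {ι : Type} [Fintype ι] [DecidableEq ι] {F : Type*} [Field F]

/-- The action of an isometry on vectors. -/
def act (Q : (ι → F) → F) (g : Cfsg.isometryGroup F Q) (x : ι → F) : ι → F :=
  ((g : Matrix.GeneralLinearGroup ι F) : Matrix ι ι F) *ᵥ x

section act

variable {Q : QuadraticForm F (ι → F)}

theorem act_def (g : Cfsg.isometryGroup F (⇑Q)) (x : ι → F) :
    act Q g x = ((g : Matrix.GeneralLinearGroup ι F) : Matrix ι ι F) *ᵥ x := rfl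

theorem act_mul (g h : Cfsg.isometryGroup F (⇑Q)) (x : ι → F) :
    act Q (g * h) x = act Q g (act Q h x) := coe_mul_mulVec _ g h x

theorem act_one (x : ι → F) : act Q 1 x = x := by
  simp [act_def]

theorem act_inv_act (g : Cfsg.isometryGroup F (⇑Q)) (x : ι → F) :
    act Q g⁻¹ (act Q g x) = x := by
  rw [← act_mul, inv_mul_cancel, act_one]

theorem act_act_inv (g : Cfsg.isometryGroup F (⇑Q)) (x : ι → F) :
    act Q g (act Q g⁻¹ x) = x := by
  rw [← act_mul, mul_inv_cancel, act_one]

theorem act_add (g : Cfsg.isometryGroup F (⇑Q)) (x y : ι → F) :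
    act Q g (x + y) = act Q g x + act Q g y := Matrix.mulVec_add _ _ _

theorem act_sub (g : Cfsg.isometryGroup F (⇑Q)) (x y : ι → F) :
    act Q g (x - y) = act Q g x - act Q g y := Matrix.mulVec_sub _ _ _

theorem act_neg (g : Cfsg.isometryGroup F (⇑Q)) (x : ι → F) :
    act Q g (-x) = -act Q g x := Matrix.mulVec_neg _ _

theorem act_smul (g : Cfsg.isometryGroup F (⇑Q)) (c : F) (x : ι → F) :
    act Q g (c • x) = c • act Q g x := Matrix.mulVec_smul _ _ _

theorem act_zero (g : Cfsg.isometryGroup F (⇑Q)) : act Q g 0 = 0 := Matrix.mulVec_zero _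

theorem map_act (g : Cfsg.isometryGroup F (⇑Q)) (x : ι → F) : Q (act Q g x) = Q x :=
  (mem_isometryGroup_iff _ _).1 g.2 x

theorem polar_act (g : Cfsg.isometryGroup F (⇑Q)) (x y : ι → F) :
    polar Q (act Q g x) (act Q g y) = polar Q x y :=
  polar_mulVec_of_isometry Q _ ((mem_isometryGroup_iff _ _).1 g.2) x y

theorem act_injective (g : Cfsg.isometryGroup F (⇑Q)) {x y : ι → F}
    (h : act Q g x = act Q g y) : x = y := by
  rw [← act_inv_act g x, h, act_inv_act]

theorem act_ext {g h : Cfsg.isometryGroup F (⇑Q)} (H : ∀ x, act Q g x = act Q h x) : g = h :=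
  isometryGroup_ext _ g h H

end act

section siegel

variable {Q : QuadraticForm F (ι → F)}

/-- The Siegel transformation as an element of `GL`. -/
noncomputable def siegelGL (Q : QuadraticForm F (ι → F)) (u w : ι → F) (hu : Q u = 0)
    (hw : polar Q u w = 0) : Matrix.GeneralLinearGroup ι F where
  val := LinearMap.toMatrix' (siegelLin Q u w)
  inv := LinearMap.toMatrix' (siegelLin Q u (-w))
  val_inv := by
    have hw' : polar Q u (-w) = 0 := by rw [polar_neg_right, hw, neg_zero]
    apply Matrix.mulVec_injective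
    funext x
    rw [← Matrix.mulVec_mulVec, Matrix.one_mulVec, LinearMap.toMatrix'_mulVec,
      LinearMap.toMatrix'_mulVec, siegelLin_comp hu hw hw', siegelLin_apply]
    simp
  inv_val := by
    have hw' : polar Q u (-w) = 0 := by rw [polar_neg_right, hw, neg_zero]
    apply Matrix.mulVec_injective
    funext x
    rw [← Matrix.mulVec_mulVec, Matrix.one_mulVec, LinearMap.toMatrix'_mulVec,
      LinearMap.toMatrix'_mulVec, siegelLin_comp hu hw' hw, siegelLin_apply]
    simp

/-- The Siegel transformation `v ↦ v + b(u,v) w - b(w,v) u - Q(w) b(u,v) u` as an element of the isometry group. -/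
noncomputable def siegelIso (Q : QuadraticForm F (ι → F)) (u w : ι → F) (hu : Q u = 0)
    (hw : polar Q u w = 0) : Cfsg.isometryGroup F (⇑Q) :=
  ⟨siegelGL Q u w hu hw, (mem_isometryGroup_iff _ _).2 fun x => by
    change Q (LinearMap.toMatrix' (siegelLin Q u w) *ᵥ x) = Q x
    rw [LinearMap.toMatrix'_mulVec]
    exact OrthCore.siegel_mem_O hu hw x⟩

theorem act_siegelIso {u w : ι → F} (hu : Q u = 0) (hw : polar Q u w = 0) (x : ι → F) :
    act Q (siegelIso Q u w hu hw) x
      = x + polar Q u x • w - polar Q w x • u - (Q w * polar Q u x) • u := by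
  rw [← siegelLin_apply]
  exact LinearMap.toMatrix'_mulVec _ _

theorem siegelIso_congr {u w w' : ι → F} (hu : Q u = 0) (hw : polar Q u w = 0)
    (hw' : polar Q u w' = 0) (h : w = w') : siegelIso Q u w hu hw = siegelIso Q u w' hu hw' := by
  subst h; rfl

theorem siegelIso_mul {u w w' : ι → F} (hu : Q u = 0) (hw : polar Q u w = 0)
    (hw' : polar Q u w' = 0) (h : polar Q u (w + w') = 0) :
    siegelIso Q u w hu hw * siegelIso Q u w' hu hw' = siegelIso Q u (w + w') hu h := by
  apply act_ext
  intro x
  have := siegelLin_comp hu hw hw' x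
  rw [siegelLin_apply, siegelLin_apply, siegelLin_apply] at this
  rw [act_mul, act_siegelIso, act_siegelIso, act_siegelIso]
  exact this

theorem siegelIso_inv {u w : ι → F} (hu : Q u = 0) (hw : polar Q u w = 0)
    (h : polar Q u (-w) = 0) : (siegelIso Q u w hu hw)⁻¹ = siegelIso Q u (-w) hu h := by
  apply inv_eq_of_mul_eq_one_right
  rw [siegelIso_mul hu hw h (by rw [add_neg_cancel, polar_zero_right])]
  apply act_ext
  intro x
  rw [act_siegelIso, act_one]
  simp

theorem conj_siegelIso {u w : ι → F} (hu : Q u = 0) (hw : polar Q u w = 0)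
    (g : Cfsg.isometryGroup F (⇑Q)) (hu' : Q (act Q g u) = 0)
    (hw' : polar Q (act Q g u) (act Q g w) = 0) :
    g * siegelIso Q u w hu hw * g⁻¹ = siegelIso Q (act Q g u) (act Q g w) hu' hw' := by
  rw [mul_inv_eq_iff_eq_mul]
  apply act_ext
  intro x
  rw [act_mul, act_mul, act_siegelIso, act_siegelIso, act_sub, act_sub, act_add, act_smul, act_smul,
    act_smul, polar_act, polar_act, map_act]

/-- For `a` nonsingular and orthogonal to the singular vector `u`, and `w` orthogonal to `u` but not to
`a`, every Siegel transformation `siegelIso Q u (c a)` is the commutator of a reflection and a Siegel transformation. -/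
theorem siegelIso_smul_mem_omega (hQ : (polarBilin Q).Nondegenerate) {u a : ι → F} (hu : Q u = 0)
    (hu0 : u ≠ 0) (ha : Q a ≠ 0) (hua : polar Q u a = 0) (c : F) (h : polar Q u (c • a) = 0) :
    siegelIso Q u (c • a) hu h ∈ Cfsg.Omega F (⇑Q) := by
  -- find `w`
  obtain ⟨w, hw, haw⟩ : ∃ w, polar Q u w = 0 ∧ polar Q a w = -(Q a * c) := by
    obtain ⟨y, hy⟩ := (OrthCore.nondeg_of_nondegenerate hQ).exists_polar_eq hu0 1
    obtain ⟨t, ht⟩ : ∃ t, polar Q u t = 0 ∧ polar Q a t ≠ 0 := by
      by_contra hcon
      push Not at hcon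
      have h1 : a - polar Q a y • u = 0 := by
        apply OrthCore.nondeg_of_nondegenerate hQ
        intro x
        have h2 := hcon (x - polar Q u x • y) (by
          rw [polar_sub_right, polar_smul_right, hy, smul_eq_mul, mul_one, sub_self])
        rw [polar_sub_right, polar_smul_right, smul_eq_mul] at h2
        rw [polar_sub_left, polar_smul_left, smul_eq_mul]
        linear_combination h2
      apply ha
      rw [sub_eq_zero.1 h1, QuadraticMap.map_smul, hu, smul_zero]
    refine ⟨(-(Q a * c) * (polar Q a t)⁻¹) • t, ?_, ?_⟩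
    · rw [polar_smul_right, ht.1, smul_zero]
    · rw [polar_smul_right, smul_eq_mul, mul_assoc, inv_mul_cancel₀ ht.2, mul_one]
  have hau : polar Q a u = 0 := by rw [polar_comm]; exact hua
  have hru : act Q (reflIso Q a ha) u = u := by
    rw [act_def, coe_reflIso]
    exact reflectionMatrix_mulVec_of_polar_eq_zero Q a u hau
  have hrw : act Q (reflIso Q a ha) w = w + c • a := by
    rw [act_def, coe_reflIso, reflectionMatrix_mulVec, haw]
    have : (Q a)⁻¹ * -(Q a * c) = -c := by field_simp
    rw [this, neg_smul, sub_neg_eq_add]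
  have hu' : Q (act Q (reflIso Q a ha) u) = 0 := by rw [map_act]; exact hu
  have hw' : polar Q (act Q (reflIso Q a ha) u) (act Q (reflIso Q a ha) w) = 0 := by
    rw [polar_act]; exact hw
  have hnw : polar Q u (-w) = 0 := by rw [polar_neg_right, hw, neg_zero]
  have key : reflIso Q a ha * siegelIso Q u w hu hw * (reflIso Q a ha)⁻¹ * (siegelIso Q u w hu hw)⁻¹
      = siegelIso Q u (c • a) hu h := by
    rw [conj_siegelIso hu hw _ hu' hw', siegelIso_inv hu hw hnw]
    apply act_ext
    intro x
    have e1 : act Q (siegelIso Q (act Q (reflIso Q a ha) u) (act Q (reflIso Q a ha) w) hu' hw')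
        = act Q (siegelIso Q u (w + c • a) hu (by rw [polar_add_right, hw, h, add_zero])) := by
      funext y
      rw [act_siegelIso, act_siegelIso, hru, hrw]
    rw [act_mul, e1, ← act_mul, siegelIso_mul hu _ hnw (by
      rw [polar_add_right, polar_add_right, hw, h, hnw]; simp)]
    rw [act_siegelIso, act_siegelIso]
    have e2 : w + c • a + -w = c • a := by abel
    rw [e2]
  rw [← key]
  exact Subgroup.commutator_mem_commutator (Subgroup.mem_top _) (Subgroup.mem_top _)

end siegel

section lines

variable {Q : QuadraticForm F (ι → F)}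

/-- A nonzero singular vector has a singular partner. -/
theorem exists_partner (hQ : (polarBilin Q).Nondegenerate) {u : ι → F} (hu : Q u = 0) (hu0 : u ≠ 0) :
    ∃ v, Q v = 0 ∧ polar Q u v = 1 := by
  obtain ⟨y, hy⟩ := (OrthCore.nondeg_of_nondegenerate hQ).exists_polar_eq hu0 1
  refine ⟨y + (-Q y) • u, ?_, ?_⟩
  · rw [map_add', QuadraticMap.map_smul, hu, polar_smul_right, polar_comm Q y u, hy, smul_zero,
      smul_eq_mul]
    ring
  · rw [polar_add_right, polar_smul_right, polar_self', hu, hy]
    simp

/-- In dimension at least three there is a nonsingular vector orthogonal to a given singular one. -/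
theorem exists_nonsing_perp (hQ : (polarBilin Q).Nondegenerate) (hn : 3 ≤ Fintype.card ι) {u v : ι → F}
    (hu : Q u = 0) (hv : Q v = 0) (huv : polar Q u v = 1) :
    ∃ a, polar Q u a = 0 ∧ polar Q v a = 0 ∧ Q a ≠ 0 := by
  by_contra hcon
  push Not at hcon
  have hvu : polar Q v u = 1 := by rw [polar_comm]; exact huv
  have huu : polar Q u u = 0 := by rw [polar_self', hu, mul_zero]
  have hvv : polar Q v v = 0 := by rw [polar_self', hv, mul_zero]
  have hproj : ∀ x, polar Q u (x - polar Q u x • v - polar Q v x • u) = 0 ∧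
      polar Q v (x - polar Q u x • v - polar Q v x • u) = 0 := by
    intro x
    simp only [polar_sub_right, polar_smul_right, huu, hvv, huv, hvu, smul_eq_mul]
    constructor <;> ring
  have hall : ∀ x, x - polar Q u x • v - polar Q v x • u = 0 := by
    intro x
    apply OrthCore.nondeg_of_nondegenerate hQ
    intro y
    obtain ⟨hx1, hx2⟩ := hproj x
    obtain ⟨hy1, hy2⟩ := hproj y
    set x' := x - polar Q u x • v - polar Q v x • u with hx'
    set y' := y - polar Q u y • v - polar Q v y • u with hy'
    have h1 : Q x' = 0 := hcon x' hx1 hx2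
    have h2 : Q y' = 0 := hcon y' hy1 hy2
    have h3 : Q (x' + y') = 0 := hcon (x' + y') (by rw [polar_add_right, hx1, hy1, add_zero])
      (by rw [polar_add_right, hx2, hy2, add_zero])
    have h4 : polar Q x' y' = 0 := by
      rw [map_add', h1, h2] at h3
      simpa using h3
    have h5 : y = y' + polar Q u y • v + polar Q v y • u := by
      rw [hy']; module
    rw [h5, polar_add_right, polar_add_right, polar_smul_right, polar_smul_right, h4,
      polar_comm Q x' v, hx2, polar_comm Q x' u, hx1]
    simp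
  -- so `V` is spanned by `u, v`
  have hspan : (⊤ : Submodule F (ι → F)) ≤ Submodule.span F ({u, v} : Set (ι → F)) := by
    intro x _
    have h := hall x
    have h' : x = polar Q v x • u + polar Q u x • v := by
      rw [sub_sub, sub_eq_zero] at h
      rw [add_comm]; exact h
    rw [h', Submodule.mem_span_pair]
    exact ⟨_, _, rfl⟩
  have h1 := Submodule.finrank_mono hspan
  rw [finrank_top, Module.finrank_fintype_fun_eq_card] at h1
  have h2 : Module.finrank F (Submodule.span F ({u, v} : Set (ι → F))) ≤ 2 := by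
    classical
    have := finrank_span_le_card (R := F) ({u, v} : Set (ι → F))
    refine this.trans ?_
    rw [Set.toFinset_card]
    have h3 := Finset.card_le_two (a := u) (b := v)
    simpa [Set.toFinset_card] using h3
  omega

/-- An isometry fixing every singular line is `1` or `-1`. -/
theorem eq_of_singular_lines (hQ : (polarBilin Q).Nondegenerate) (hn : 3 ≤ Fintype.card ι)
    (hs : ∃ u : ι → F, u ≠ 0 ∧ Q u = 0) (z : Cfsg.isometryGroup F (⇑Q))
    (hz : ∀ u, Q u = 0 → ∃ c : F, act Q z u = c • u) :
    ∃ c : F, (c = 1 ∨ c = -1) ∧ ∀ x, act Q z x = c • x := by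
  obtain ⟨u, hu0, hu⟩ := hs
  obtain ⟨v, hv, huv⟩ := exists_partner hQ hu hu0
  obtain ⟨a, hua, hva, ha⟩ := exists_nonsing_perp hQ hn hu hv huv
  obtain ⟨l, hl⟩ := hz u hu
  obtain ⟨m, hm⟩ := hz v hv
  have hvu : polar Q v u = 1 := by rw [polar_comm]; exact huv
  have huu : polar Q u u = 0 := by rw [polar_self', hu, mul_zero]
  have hvv : polar Q v v = 0 := by rw [polar_self', hv, mul_zero]
  have hlm : l * m = 1 := by
    have h := polar_act z u v
    rw [hl, hm, polar_smul_left, polar_smul_right, huv] at h
    simpa using h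
  have hl0 : l ≠ 0 := left_ne_zero_of_mul_eq_one hlm
  have hm0 : m ≠ 0 := right_ne_zero_of_mul_eq_one hlm
  -- action on the orthogonal complement
  have hW : ∀ w, polar Q u w = 0 → polar Q v w = 0 → act Q z w = l • w ∧ Q w * m = Q w * l := by
    intro w huw hvw
    have hwu : polar Q w u = 0 := by rw [polar_comm]; exact huw
    have hwv : polar Q w v = 0 := by rw [polar_comm]; exact hvw
    have hsing : Q (u + w + (-Q w) • v) = 0 := by
      rw [map_add', map_add', QuadraticMap.map_smul, hu, hv, huw, polar_smul_right, polar_add_left,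
        huv, hwv]
      simp
    obtain ⟨n, hn⟩ := hz _ hsing
    rw [act_add, act_add, act_smul, hl, hm] at hn
    have huzw : polar Q u (act Q z w) = 0 := by
      have h := polar_act z u w
      rw [hl, polar_smul_left, huw, smul_eq_mul] at h
      exact (mul_eq_zero.1 h).resolve_left hl0
    have hvzw : polar Q v (act Q z w) = 0 := by
      have h := polar_act z v w
      rw [hm, polar_smul_left, hvw, smul_eq_mul] at h
      exact (mul_eq_zero.1 h).resolve_left hm0
    have h1 := congrArg (polar Q v) hn
    simp only [polar_add_right, polar_smul_right, hvu, hvw, hvv, hvzw, smul_eq_mul] at h1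
    have h2 := congrArg (polar Q u) hn
    simp only [polar_add_right, polar_smul_right, huu, huw, huv, huzw, smul_eq_mul] at h2
    have hnl : n = l := by linear_combination -h1
    have h3 : Q w * m = Q w * l := by rw [← hnl]; linear_combination -h2
    refine ⟨?_, h3⟩
    rw [hnl] at hn
    have h4 : act Q z w = l • (u + w + (-Q w) • v) - l • u - (-Q w) • m • v := by
      rw [← hn]; module
    rw [h4]
    have h5 : (-Q w) • m • v = (-(Q w * l)) • v := by
      rw [← h3, smul_smul]; congr 1; ring
    rw [h5]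
    module
  have hml : m = l := mul_left_cancel₀ ha (hW a hua hva).2
  rw [hml] at hlm hm
  refine ⟨l, ?_, ?_⟩
  · exact mul_self_eq_one_iff.1 hlm
  · intro x
    have h1 : polar Q u (x - polar Q u x • v - polar Q v x • u) = 0 ∧
        polar Q v (x - polar Q u x • v - polar Q v x • u) = 0 := by
      simp only [polar_sub_right, polar_smul_right, huu, hvv, huv, hvu, smul_eq_mul]
      constructor <;> ring
    have h2 := (hW _ h1.1 h1.2).1
    rw [act_sub, act_sub, act_smul, act_smul, hl, hm] at h2
    have h3 : act Q z x = l • (x - polar Q u x • v - polar Q v x • u) + polar Q u x • l • v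
        + polar Q v x • l • u := by
      rw [← h2]; module
    rw [h3]
    module

/-- An isometry commuting with `Omega F Q` fixes every singular line. -/
theorem exists_smul_of_commute_omega (hQ : (polarBilin Q).Nondegenerate) (hn : 3 ≤ Fintype.card ι)
    (z : Cfsg.isometryGroup F (⇑Q)) (hz : ∀ g ∈ Cfsg.Omega F (⇑Q), z * g = g * z) (u : ι → F)
    (hu : Q u = 0) : ∃ c : F, act Q z u = c • u := by
  by_cases hu0 : u = 0
  · exact ⟨0, by rw [hu0, act_zero, smul_zero]⟩
  obtain ⟨v, hv, huv⟩ := exists_partner hQ hu hu0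
  obtain ⟨a, hua, -, ha⟩ := exists_nonsing_perp hQ hn hu hv huv
  have hua1 : polar Q u ((1 : F) • a) = 0 := by rw [one_smul]; exact hua
  have h1 := hz _ (siegelIso_smul_mem_omega hQ hu hu0 ha hua 1 hua1)
  have h1' : ∀ x, act Q z (x + polar Q u x • a - polar Q a x • u - (Q a * polar Q u x) • u)
      = act Q z x + polar Q u (act Q z x) • a - polar Q a (act Q z x) • u
        - (Q a * polar Q u (act Q z x)) • u := by
    intro x
    have h := congrArg (fun g => act Q g x) h1
    simp only [act_mul, act_siegelIso, one_smul] at h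
    exact h
  set u' := act Q z u with hu'
  set a' := act Q z a with ha'
  -- `u'`, `a'`: pick `y` with `b(u', y) = 0`, `b(a', y) = -1`
  have hQu' : Q u' = 0 := by rw [hu', map_act, hu]
  obtain ⟨t, ht1, ht2⟩ : ∃ t, polar Q u t = 0 ∧ polar Q a t ≠ 0 := by
    by_contra hcon
    push Not at hcon
    have h1 : a - polar Q a v • u = 0 := by
      apply OrthCore.nondeg_of_nondegenerate hQ
      intro x
      have h2 := hcon (x - polar Q u x • v) (by
        rw [polar_sub_right, polar_smul_right, huv, smul_eq_mul, mul_one, sub_self])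
      rw [polar_sub_right, polar_smul_right, smul_eq_mul] at h2
      rw [polar_sub_left, polar_smul_left, smul_eq_mul]
      linear_combination h2
    apply ha
    rw [sub_eq_zero.1 h1, QuadraticMap.map_smul, hu, smul_zero]
  have h2 := h1' t
  rw [act_sub, act_sub, act_add, act_smul, act_smul, act_smul, ht1] at h2
  -- `u'` is a combination of `a` and `u`
  set p := polar Q u (act Q z t) with hp
  set s := polar Q a (act Q z t) with hs
  have h3 : (-(polar Q a t)) • u' = p • a + (-s - Q a * p) • u := by
    have : act Q z t + (0 : F) • a' - polar Q a t • u' - (Q a * 0) • u'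
        = act Q z t + (-(polar Q a t)) • u' := by module
    rw [this] at h2
    have h4 : (-(polar Q a t)) • u' = (act Q z t + (-(polar Q a t)) • u') - act Q z t := by abel
    rw [h4, h2]
    module
  have hau : polar Q a u = 0 := by rw [polar_comm]; exact hua
  have h4 : Q ((-(polar Q a t)) • u') = 0 := by
    rw [QuadraticMap.map_smul, hQu', smul_zero]
  rw [h3, map_add', QuadraticMap.map_smul, QuadraticMap.map_smul, hu, polar_smul_left,
    polar_smul_right, hau, smul_zero, smul_zero, smul_zero, add_zero, add_zero, smul_eq_mul] at h4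
  have hp0 : p = 0 := by
    rcases mul_eq_zero.1 h4 with h | h
    · exact mul_self_eq_zero.1 h
    · exact absurd h ha
  rw [hp0, zero_smul, zero_add] at h3
  refine ⟨(-(polar Q a t))⁻¹ * (-s - Q a * 0), ?_⟩
  rw [mul_smul, ← h3, smul_smul, inv_mul_cancel₀ (neg_ne_zero.2 ht2), one_smul]

/-- The centralizer of `Omega F Q` in the isometry group is contained in `{1, -1}`. -/
theorem exists_of_commute_omega (hQ : (polarBilin Q).Nondegenerate) (hn : 3 ≤ Fintype.card ι)
    (hs : ∃ u : ι → F, u ≠ 0 ∧ Q u = 0)
    (z : Cfsg.isometryGroup F (⇑Q)) (hz : ∀ g ∈ Cfsg.Omega F (⇑Q), z * g = g * z) :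
    ∃ c : F, (c = 1 ∨ c = -1) ∧ ∀ x, act Q z x = c • x :=
  eq_of_singular_lines hQ hn hs z (exists_smul_of_commute_omega hQ hn z hz)

end lines

section center

variable {Q : QuadraticForm F (ι → F)}

/-- The centralizer of `Omega F Q` in the isometry group is contained in `{1, -1}`, matrix form. -/
theorem eq_one_or_neg_one_of_commute_omega (hQ : (polarBilin Q).Nondegenerate)
    (hn : 3 ≤ Fintype.card ι) (hs : ∃ u : ι → F, u ≠ 0 ∧ Q u = 0)
    (z : Cfsg.isometryGroup F (⇑Q)) (hz : ∀ g ∈ Cfsg.Omega F (⇑Q), z * g = g * z) :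
    ((z : Matrix.GeneralLinearGroup ι F) : Matrix ι ι F) = 1 ∨
      ((z : Matrix.GeneralLinearGroup ι F) : Matrix ι ι F) = -1 := by
  obtain ⟨c, hc, h⟩ := exists_of_commute_omega hQ hn hs z hz
  have h1 : ((z : Matrix.GeneralLinearGroup ι F) : Matrix ι ι F) = c • 1 := by
    apply Matrix.mulVec_injective
    funext x
    rw [Matrix.smul_mulVec, Matrix.one_mulVec]
    exact h x
  rcases hc with rfl | rfl
  · left; rw [h1, one_smul]
  · right; rw [h1, neg_smul, one_smul]

/-- An element of the isometry group with matrix `-1` commutes with everything. -/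
theorem commute_of_eq_neg_one (z g : Cfsg.isometryGroup F (⇑Q))
    (hz : ((z : Matrix.GeneralLinearGroup ι F) : Matrix ι ι F) = -1) : z * g = g * z := by
  apply act_ext
  intro x
  rw [act_mul, act_mul, act_def z, act_def z, hz, Matrix.neg_mulVec, Matrix.neg_mulVec,
    Matrix.one_mulVec, Matrix.one_mulVec, act_neg]

/-- `Omega` is in the kernel of the determinant. -/
theorem det_of_mem_omega (g : Cfsg.isometryGroup F (⇑Q)) (hg : g ∈ Cfsg.Omega F (⇑Q)) :
    ((g : Matrix.GeneralLinearGroup ι F) : Matrix ι ι F).det = 1 := by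
  have h : g ∈ (Matrix.GeneralLinearGroup.det.comp (Cfsg.isometryGroup F (⇑Q)).subtype).ker :=
    Abelianization.commutator_subset_ker _ hg
  have h1 : Matrix.GeneralLinearGroup.det (g : Matrix.GeneralLinearGroup ι F) = 1 := h
  have h2 := congrArg Units.val h1
  simpa using h2

/-- Elements of the centre of `Omega F Q` are `1` or `-1`. -/
theorem mem_center_omega_iff (hQ : (polarBilin Q).Nondegenerate)
    (hn : 3 ≤ Fintype.card ι) (hs : ∃ u : ι → F, u ≠ 0 ∧ Q u = 0)
    (z : Cfsg.Omega F (⇑Q)) :
    z ∈ Subgroup.center (Cfsg.Omega F (⇑Q)) ↔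
      (((z : Cfsg.isometryGroup F (⇑Q)) : Matrix.GeneralLinearGroup ι F) : Matrix ι ι F) = 1 ∨
      (((z : Cfsg.isometryGroup F (⇑Q)) : Matrix.GeneralLinearGroup ι F) : Matrix ι ι F) = -1 := by
  constructor
  · intro h
    apply eq_one_or_neg_one_of_commute_omega hQ hn hs
    intro g hg
    have := (Subgroup.mem_center_iff.1 h) ⟨g, hg⟩
    exact (congrArg Subtype.val this).symm
  · intro h
    rw [Subgroup.mem_center_iff]
    intro g
    apply Subtype.ext
    rcases h with h | h
    · have h1 : (z : Cfsg.isometryGroup F (⇑Q)) = 1 := by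
        apply Subtype.ext
        apply Units.ext
        exact h
      rw [Subgroup.coe_mul, Subgroup.coe_mul, h1, mul_one, one_mul]
    · exact (commute_of_eq_neg_one _ _ h).symm

/-- If `-1 ∉ Omega`, the centre of `Omega` is trivial. -/
theorem center_omega_eq_bot (hQ : (polarBilin Q).Nondegenerate)
    (hn : 3 ≤ Fintype.card ι) (hs : ∃ u : ι → F, u ≠ 0 ∧ Q u = 0)
    (h : ∀ g ∈ Cfsg.Omega F (⇑Q), ((g : Matrix.GeneralLinearGroup ι F) : Matrix ι ι F) ≠ -1) :
    Subgroup.center (Cfsg.Omega F (⇑Q)) = ⊥ := by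
  rw [eq_bot_iff]
  intro z hz
  rw [Subgroup.mem_bot]
  rcases (mem_center_omega_iff hQ hn hs z).1 hz with h1 | h1
  · apply Subtype.ext
    apply Subtype.ext
    apply Units.ext
    exact h1
  · exact absurd h1 (h _ z.2)

theorem card_center_omega_of_not_mem (hQ : (polarBilin Q).Nondegenerate)
    (hn : 3 ≤ Fintype.card ι) (hs : ∃ u : ι → F, u ≠ 0 ∧ Q u = 0)
    (h : ∀ g ∈ Cfsg.Omega F (⇑Q), ((g : Matrix.GeneralLinearGroup ι F) : Matrix ι ι F) ≠ -1) :
    Nat.card (Subgroup.center (Cfsg.Omega F (⇑Q))) = 1 := by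
  rw [center_omega_eq_bot hQ hn hs h]
  exact Subgroup.card_bot

/-- In characteristic two the centre of `Omega` is trivial. -/
theorem center_omega_eq_bot_char_two (h2 : (2 : F) = 0) (hQ : (polarBilin Q).Nondegenerate)
    (hn : 3 ≤ Fintype.card ι) (hs : ∃ u : ι → F, u ≠ 0 ∧ Q u = 0) :
    Subgroup.center (Cfsg.Omega F (⇑Q)) = ⊥ := by
  rw [eq_bot_iff]
  intro z hz
  rw [Subgroup.mem_bot]
  have hone : (-1 : Matrix ι ι F) = 1 := by
    have h3 : (-1 : F) = 1 := by linear_combination -h2
    rw [← one_smul F (1 : Matrix ι ι F), ← neg_smul, h3]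
  have h1 : (((z : Cfsg.isometryGroup F (⇑Q)) : Matrix.GeneralLinearGroup ι F) : Matrix ι ι F) = 1 := by
    rcases (mem_center_omega_iff hQ hn hs z).1 hz with h1 | h1
    · exact h1
    · rw [h1, hone]
  apply Subtype.ext
  apply Subtype.ext
  apply Units.ext
  exact h1

theorem card_center_omega_char_two (h2 : (2 : F) = 0) (hQ : (polarBilin Q).Nondegenerate)
    (hn : 3 ≤ Fintype.card ι) (hs : ∃ u : ι → F, u ≠ 0 ∧ Q u = 0) :
    Nat.card (Subgroup.center (Cfsg.Omega F (⇑Q))) = 1 := by
  rw [center_omega_eq_bot_char_two h2 hQ hn hs]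
  exact Subgroup.card_bot

/-- If `-1 ∈ Omega` and the characteristic is not two, the centre of `Omega` has order two. -/
theorem card_center_omega_of_neg_one_mem (h2 : (2 : F) ≠ 0) (hQ : (polarBilin Q).Nondegenerate)
    (hn : 3 ≤ Fintype.card ι) (hs : ∃ u : ι → F, u ≠ 0 ∧ Q u = 0)
    (h : ∃ g ∈ Cfsg.Omega F (⇑Q), ((g : Matrix.GeneralLinearGroup ι F) : Matrix ι ι F) = -1) :
    Nat.card (Subgroup.center (Cfsg.Omega F (⇑Q))) = 2 := by
  obtain ⟨g, hg, hg1⟩ := h
  have : Nonempty ι := Fintype.card_pos_iff.1 (by omega)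
  have hne : (-1 : Matrix ι ι F) ≠ 1 := by
    intro h
    obtain ⟨i⟩ := ‹Nonempty ι›
    have h3 := congrFun (congrFun h i) i
    rw [Matrix.neg_apply, Matrix.one_apply_eq] at h3
    apply h2
    linear_combination -h3
  have hgc : (⟨g, hg⟩ : Cfsg.Omega F (⇑Q)) ∈ Subgroup.center (Cfsg.Omega F (⇑Q)) :=
    (mem_center_omega_iff hQ hn hs _).2 (Or.inr hg1)
  rw [Nat.card_eq_two_iff]
  refine ⟨1, ⟨⟨g, hg⟩, hgc⟩, ?_, ?_⟩
  · intro h3
    apply hne
    have h4 : (1 : Cfsg.isometryGroup F (⇑Q)) = g := congrArg
      (fun x : Subgroup.center (Cfsg.Omega F (⇑Q)) => ((x : Cfsg.Omega F (⇑Q)) :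
        Cfsg.isometryGroup F (⇑Q))) h3
    rw [← hg1, ← h4]
    rfl
  · rw [Set.eq_univ_iff_forall]
    rintro ⟨z, hz⟩
    rcases (mem_center_omega_iff hQ hn hs z).1 hz with h1 | h1
    · left
      apply Subtype.ext
      apply Subtype.ext
      apply Subtype.ext
      apply Units.ext
      exact h1
    · right
      apply Subtype.ext
      apply Subtype.ext
      apply Subtype.ext
      apply Units.ext
      exact h1.trans hg1.symm

/-- In odd dimension the centre of `Omega` is trivial (characteristic not two). -/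
theorem center_omega_eq_bot_of_odd (h2 : (2 : F) ≠ 0) (hQ : (polarBilin Q).Nondegenerate)
    (hn : 3 ≤ Fintype.card ι) (hodd : Odd (Fintype.card ι)) (hs : ∃ u : ι → F, u ≠ 0 ∧ Q u = 0) :
    Subgroup.center (Cfsg.Omega F (⇑Q)) = ⊥ := by
  apply center_omega_eq_bot hQ hn hs
  intro g hg h
  have h1 := det_of_mem_omega g hg
  rw [h, Matrix.det_neg, Matrix.det_one, hodd.neg_one_pow, mul_one] at h1
  apply h2
  linear_combination -h1

theorem card_center_omega_of_odd (h2 : (2 : F) ≠ 0) (hQ : (polarBilin Q).Nondegenerate)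
    (hn : 3 ≤ Fintype.card ι) (hodd : Odd (Fintype.card ι)) (hs : ∃ u : ι → F, u ≠ 0 ∧ Q u = 0) :
    Nat.card (Subgroup.center (Cfsg.Omega F (⇑Q))) = 1 := by
  rw [center_omega_eq_bot_of_odd h2 hQ hn hodd hs]
  exact Subgroup.card_bot

/-- The order of `POmega` in terms of the order of the isometry group, the index of `Omega` and its centre. -/
theorem card_POmega_mul (Q : (ι → F) → F) :
    Nat.card (Cfsg.POmega F Q) * Nat.card (Subgroup.center (Cfsg.Omega F Q)) * (Cfsg.Omega F Q).index
      = Nat.card (Cfsg.isometryGroup F Q) := by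
  rw [← Subgroup.card_mul_index (Cfsg.Omega F Q)]
  congr 1
  exact (Subgroup.card_eq_card_quotient_mul_card_subgroup _).symm

end center

end Cfsg.Agent.LieClassical.OrthCenter
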