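import Mathlib
set_option linter.all false

/-!
Subgroups of `SL_2(F)` centralizing a non-scalar element (abelian, embed in the units of the algebraic closure).
-/

set_option autoImplicit false

namespace Cfsg.Agent.LieClassical.SLTwoTorus

open Matrix

/-- The matrix square of a `2 × 2` matrix: Cayley-Hamilton. -/
theorem sq_eq {R : Type*} [CommRing R] (A : Matrix (Fin 2) (Fin 2) R) :
    A * A = A.trace • A - A.det • (1 : Matrix (Fin 2) (Fin 2) R) := by
  ext i j
  fin_cases i <;> fin_cases j <;>
    simp [Matrix.mul_apply, Fin.sum_univ_two, Matrix.trace_fin_two, Matrix.det_fin_two] <;> ring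

/-- `det (A - c) = det A - c tr A + c ^ 2`. -/
theorem det_sub_scalar {R : Type*} [CommRing R] (A : Matrix (Fin 2) (Fin 2) R) (c : R) :
    (A - c • (1 : Matrix (Fin 2) (Fin 2) R)).det = A.det - c * A.trace + c ^ 2 := by
  simp [Matrix.trace_fin_two, Matrix.det_fin_two]
  ring

/-- Two eigenvectors of a non-scalar `2 × 2` matrix with the same eigenvalue are proportional. -/
theorem eigen_unique {K : Type*} [Field K] (A : Matrix (Fin 2) (Fin 2) K) (c : K)
    (hA : A ≠ c • (1 : Matrix (Fin 2) (Fin 2) K)) (v w : Fin 2 → K) (hv : v ≠ 0)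
    (hAv : A.mulVec v = c • v) (hAw : A.mulVec w = c • w) : ∃ d : K, w = d • v := by
  have h0 : A 0 0 * v 0 + A 0 1 * v 1 = c * v 0 := by
    simpa [Matrix.mulVec, dotProduct, Fin.sum_univ_two] using congrFun hAv 0
  have h1 : A 1 0 * v 0 + A 1 1 * v 1 = c * v 1 := by
    simpa [Matrix.mulVec, dotProduct, Fin.sum_univ_two] using congrFun hAv 1
  have h2 : A 0 0 * w 0 + A 0 1 * w 1 = c * w 0 := by
    simpa [Matrix.mulVec, dotProduct, Fin.sum_univ_two] using congrFun hAw 0
  have h3 : A 1 0 * w 0 + A 1 1 * w 1 = c * w 1 := by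
    simpa [Matrix.mulVec, dotProduct, Fin.sum_univ_two] using congrFun hAw 1
  have hD : v 0 * w 1 - v 1 * w 0 = 0 := by
    by_contra hD
    apply hA
    have e00 : A 0 0 = c := by
      apply mul_right_cancel₀ hD
      linear_combination w 1 * h0 - v 1 * h2
    have e01 : A 0 1 = 0 := by
      apply mul_right_cancel₀ hD
      linear_combination v 0 * h2 - w 0 * h0
    have e10 : A 1 0 = 0 := by
      apply mul_right_cancel₀ hD
      linear_combination w 1 * h1 - v 1 * h3
    have e11 : A 1 1 = c := by
      apply mul_right_cancel₀ hD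
      linear_combination v 0 * h3 - w 0 * h1
    ext i j
    fin_cases i <;> fin_cases j <;> simp [e00, e01, e10, e11]
  by_cases hv0 : v 0 = 0
  · have hv1 : v 1 ≠ 0 := by
      intro hv1
      apply hv
      ext i
      fin_cases i <;> simp [hv0, hv1]
    refine ⟨w 1 / v 1, ?_⟩
    ext i
    fin_cases i
    · have : v 1 * w 0 = 0 := by
        rw [hv0] at hD
        linear_combination -hD
      have hw0 : w 0 = 0 := by
        rcases mul_eq_zero.mp this with h | h
        · exact absurd h hv1
        · exact h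
      simp [hv0, hw0]
    · simp [hv1]
  · refine ⟨w 0 / v 0, ?_⟩
    ext i
    fin_cases i
    · simp [hv0]
    · simp only [Fin.mk_one, Fin.isValue, Pi.smul_apply, smul_eq_mul]
      field_simp
      linear_combination hD

/-- Over an algebraically closed field each `2 × 2` matrix has an eigenvector. -/
theorem exists_eigen {K : Type*} [Field K] [IsAlgClosed K] (A : Matrix (Fin 2) (Fin 2) K) :
    ∃ (c : K) (v : Fin 2 → K), v ≠ 0 ∧ A.mulVec v = c • v := by
  obtain ⟨c, hc⟩ := Module.End.exists_eigenvalue (K := K) (V := Fin 2 → K) (Matrix.toLin' A)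
  obtain ⟨v, hv⟩ := hc.exists_hasEigenvector
  refine ⟨c, v, hv.2, ?_⟩
  have := hv.apply_eq_smul
  simpa [Matrix.toLin'_apply] using this

/-- An element of `SL_2(F)` of trace `2` whose order is prime to the characteristic is trivial. -/
theorem eq_one_of_trace {F : Type*} [Field F] (p : ℕ) [Fact p.Prime] [CharP F p]
    (g : Matrix.SpecialLinearGroup (Fin 2) F) (ht : (g : Matrix (Fin 2) (Fin 2) F).trace = 2)
    (hg : (orderOf g).Coprime p) : g = 1 := by
  have hsq := sq_eq (g : Matrix (Fin 2) (Fin 2) F)
  rw [ht, g.det_coe] at hsq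
  have h2 : ((g : Matrix (Fin 2) (Fin 2) F) - 1) ^ 2 = 0 := by
    rw [pow_two, sub_mul, mul_sub, mul_one, one_mul, hsq, two_smul, one_smul]
    abel
  have hp2 : 2 ≤ p := (Fact.out : p.Prime).two_le
  have hp : ((g : Matrix (Fin 2) (Fin 2) F) - 1) ^ p = 0 := by
    obtain ⟨k, hk⟩ := Nat.exists_eq_add_of_le hp2
    rw [hk, pow_add, h2, zero_mul]
  have hgp : (g : Matrix (Fin 2) (Fin 2) F) ^ p = 1 := by
    have hc : Commute (g : Matrix (Fin 2) (Fin 2) F) 1 := Commute.one_right _
    rw [sub_pow_char_of_commute (p := p) hc, one_pow, sub_eq_zero] at hp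
    exact hp
  have hgp' : g ^ p = 1 := by
    apply Subtype.ext
    simpa using hgp
  have hd : orderOf g ∣ p := orderOf_dvd_of_pow_eq_one hgp'
  have h1 : orderOf g = 1 := hg.eq_one_of_dvd hd
  exact orderOf_eq_one_iff.mp h1

/-- A finite subgroup of `SL_2(F)` of order prime to the characteristic that centralizes a non-scalar element is
cyclic. -/
theorem isCyclic_of_commute {F : Type*} [Field F] (p : ℕ) [Fact p.Prime] [CharP F p]
    (H : Subgroup (Matrix.SpecialLinearGroup (Fin 2) F)) [Finite H]
    (hH : (Nat.card H).Coprime p) (z : Matrix (Fin 2) (Fin 2) F)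
    (hz : ∀ c : F, z ≠ c • (1 : Matrix (Fin 2) (Fin 2) F))
    (hc : ∀ h ∈ H, (h : Matrix (Fin 2) (Fin 2) F) * z = z * (h : Matrix (Fin 2) (Fin 2) F)) :
    IsCyclic H := by
  classical
  let K := AlgebraicClosure F
  let f : F →+* K := algebraMap F K
  have hf : Function.Injective f := f.injective
  obtain ⟨c, v, hv, hzv⟩ := exists_eigen (f.mapMatrix z)
  have hz' : f.mapMatrix z ≠ c • (1 : Matrix (Fin 2) (Fin 2) K) := by
    intro h
    have h00 : f (z 0 0) = c := by simpa using congrFun (congrFun h 0) 0
    have h01 : f (z 0 1) = 0 := by simpa using congrFun (congrFun h 0) 1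
    have h10 : f (z 1 0) = 0 := by simpa using congrFun (congrFun h 1) 0
    have h11 : f (z 1 1) = c := by simpa using congrFun (congrFun h 1) 1
    apply hz (z 0 0)
    have e01 : z 0 1 = 0 := (map_eq_zero f).mp h01
    have e10 : z 1 0 = 0 := (map_eq_zero f).mp h10
    have e11 : z 1 1 = z 0 0 := hf (h11.trans h00.symm)
    ext i j
    fin_cases i <;> fin_cases j <;> simp [e01, e10, e11]
  -- every element of `H` multiplies `v` by a scalar
  have key : ∀ h : H, ∃ d : K, (f.mapMatrix ((h : Matrix.SpecialLinearGroup (Fin 2) F) :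
      Matrix (Fin 2) (Fin 2) F)).mulVec v = d • v := by
    intro h
    apply eigen_unique (f.mapMatrix z) c hz' v _ hv hzv
    rw [Matrix.mulVec_mulVec, ← map_mul, ← hc h h.2, map_mul, ← Matrix.mulVec_mulVec, hzv,
      Matrix.mulVec_smul]
  choose d hd using key
  have hinjv : ∀ a b : K, a • v = b • v → a = b := by
    intro a b hab
    have : (a - b) • v = 0 := by rw [sub_smul, hab, sub_self]
    rcases smul_eq_zero.mp this with h | h
    · exact sub_eq_zero.mp h
    · exact absurd h hv
  let χ : H →* K :=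
    { toFun := d
      map_one' := by
        apply hinjv
        rw [← hd 1]
        simp
      map_mul' := by
        intro g h
        apply hinjv
        rw [← hd (g * h)]
        have : (f.mapMatrix (((g * h : H) : Matrix.SpecialLinearGroup (Fin 2) F) :
            Matrix (Fin 2) (Fin 2) F)) =
            f.mapMatrix ((g : Matrix.SpecialLinearGroup (Fin 2) F) : Matrix (Fin 2) (Fin 2) F) *
            f.mapMatrix ((h : Matrix.SpecialLinearGroup (Fin 2) F) : Matrix (Fin 2) (Fin 2) F) := by
          rw [← map_mul]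
          rfl
        rw [this, ← Matrix.mulVec_mulVec, hd h, Matrix.mulVec_smul, hd g, smul_smul, mul_comm] }
  refine isCyclic_of_injective_ringHom χ ?_
  rw [injective_iff_map_eq_one]
  intro g hg
  have hgv : (f.mapMatrix ((g : Matrix.SpecialLinearGroup (Fin 2) F) :
      Matrix (Fin 2) (Fin 2) F)).mulVec v = v := by
    rw [hd g]
    have : d g = 1 := hg
    rw [this, one_smul]
  have hdet : (f.mapMatrix ((g : Matrix.SpecialLinearGroup (Fin 2) F) :
      Matrix (Fin 2) (Fin 2) F) - (1 : K) • (1 : Matrix (Fin 2) (Fin 2) K)).det = 0 := by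
    apply Matrix.exists_mulVec_eq_zero_iff.mp
    refine ⟨v, hv, ?_⟩
    rw [one_smul, Matrix.sub_mulVec, hgv, Matrix.one_mulVec, sub_self]
  rw [det_sub_scalar, ← RingHom.map_det, Matrix.SpecialLinearGroup.det_coe, map_one, one_mul,
    one_pow] at hdet
  have htr : (((g : Matrix.SpecialLinearGroup (Fin 2) F) : Matrix (Fin 2) (Fin 2) F)).trace = 2 := by
    apply hf
    have h1 : (f.mapMatrix ((g : Matrix.SpecialLinearGroup (Fin 2) F) :
      Matrix (Fin 2) (Fin 2) F)).trace = f (((g : Matrix.SpecialLinearGroup (Fin 2) F) :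
        Matrix (Fin 2) (Fin 2) F)).trace := by
      simp [Matrix.trace_fin_two]
    rw [← h1, map_ofNat]
    linear_combination -hdet
  have hg1 : (g : Matrix.SpecialLinearGroup (Fin 2) F) = 1 := by
    apply eq_one_of_trace p _ htr
    apply Nat.Coprime.coprime_dvd_left _ hH
    rw [Subgroup.orderOf_coe]
    exact orderOf_dvd_natCard g
  exact Subtype.ext hg1

end Cfsg.Agent.LieClassical.SLTwoTorus
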