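import Mathlib
set_option linter.all false

/-!
# `Sp_4(2) ≅ S_6`

`Sp_4(2)` permutes the six quadratic forms of minus type whose polarisation is the symplectic form.
-/

set_option autoImplicit false

namespace Cfsg.Agent.LieClassical.SpFourTwo

open Matrix

/-- The natural module. -/
abbrev V := Fin 2 ⊕ Fin 2 → ZMod 2

/-- `Sp_4(2)`. -/
abbrev G := Matrix.symplecticGroup (Fin 2) (ZMod 2)

/-- the symplectic form -/
def B (u v : V) : ZMod 2 := u ⬝ᵥ (Matrix.J (Fin 2) (ZMod 2) *ᵥ v)

/-- the quadratic form of plus type -/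
def q0 (v : V) : ZMod 2 := v (Sum.inl 0) * v (Sum.inr 0) + v (Sum.inl 1) * v (Sum.inr 1)

/-- Coefficient vectors of the six forms of minus type. -/
def coef : Fin 6 → V :=
  ![Sum.elim ![1,0] ![1,0], Sum.elim ![1,1] ![1,0], Sum.elim ![1,0] ![1,1],
    Sum.elim ![0,1] ![0,1], Sum.elim ![1,1] ![0,1], Sum.elim ![0,1] ![1,1]]

/-- The quadratic form with polarisation `B` and diagonal coefficients `c`. -/
def qf (c : V) (v : V) : ZMod 2 := q0 v + c ⬝ᵥ v

/-- The six quadratic forms of minus type. -/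
def Q (i : Fin 6) (v : V) : ZMod 2 := qf (coef i) v

theorem B_apply (u v : V) : B u v = u (Sum.inr 0) * v (Sum.inl 0) + u (Sum.inr 1) * v (Sum.inl 1)
    + u (Sum.inl 0) * v (Sum.inr 0) + u (Sum.inl 1) * v (Sum.inr 1) := by
  have h : v = Sum.elim (v ∘ Sum.inl) (v ∘ Sum.inr) := (Sum.elim_comp_inl_inr v).symm
  unfold B
  rw [Matrix.J]
  conv_lhs => rw [h]
  rw [Matrix.fromBlocks_mulVec]
  simp only [dotProduct, Fin.sum_univ_two, Fintype.sum_sum_type, Sum.elim_inl,
    Sum.elim_inr, zero_mulVec, one_mulVec, zero_add, add_zero, Function.comp_apply,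
    CharTwo.neg_eq]
  ring

theorem qf_apply (c v : V) : qf c v = v (Sum.inl 0) * v (Sum.inr 0) + v (Sum.inl 1) * v (Sum.inr 1)
    + (c (Sum.inl 0) * v (Sum.inl 0) + c (Sum.inl 1) * v (Sum.inl 1)
    + (c (Sum.inr 0) * v (Sum.inr 0) + c (Sum.inr 1) * v (Sum.inr 1))) := by
  simp only [qf, q0, dotProduct, Fin.sum_univ_two, Fintype.sum_sum_type]

/-- A quadratic form with polarisation `B`. -/
def IsQuad (q : V → ZMod 2) : Prop := ∀ x y, q (x + y) = q x + q y + B x y

/-- A quadratic form of minus type. -/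
def IsMinus (q : V → ZMod 2) : Prop :=
  IsQuad q ∧ (Finset.univ.filter (fun v => q v = 0)).card = 6

theorem isQuad_qf (c : V) : IsQuad (qf c) := by
  intro x y
  simp only [qf_apply, B_apply, Pi.add_apply]
  ring

theorem card_Q (i : Fin 6) : (Finset.univ.filter (fun v => Q i v = 0)).card = 6 := by
  revert i
  decide +kernel

theorem isMinus_Q (i : Fin 6) : IsMinus (Q i) := ⟨isQuad_qf _, card_Q i⟩

theorem eq_sum_single (v : V) :
    v = v (Sum.inl 0) • Pi.single (Sum.inl 0) 1 + v (Sum.inl 1) • Pi.single (Sum.inl 1) 1 +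
      v (Sum.inr 0) • Pi.single (Sum.inr 0) 1 + v (Sum.inr 1) • Pi.single (Sum.inr 1) 1 := by
  ext k
  rcases k with k | k <;> fin_cases k <;> simp

theorem IsQuad.eq_qf {q : V → ZMod 2} (hq : IsQuad q) : q = qf (fun k => q (Pi.single k 1)) := by
  have h0 : q 0 = 0 := by
    have := hq 0 0
    simpa [B_apply] using this
  have hs : ∀ (t : ZMod 2) (x : V), q (t • x) = t * q x := by
    intro t x
    rcases (by decide : ∀ t : ZMod 2, t = 0 ∨ t = 1) t with rfl | rfl
    · simp [h0]
    · simp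
  funext v
  conv_lhs => rw [eq_sum_single v]
  rw [hq, hq, hq, hs, hs, hs, hs, qf_apply]
  simp [B_apply]
  ring

theorem card_qf_minus (c : V) (h : (Finset.univ.filter (fun v => qf c v = 0)).card = 6) :
    ∃ i, coef i = c := by
  revert c
  decide +kernel

theorem IsMinus.exists_eq {q : V → ZMod 2} (hq : IsMinus q) : ∃ i, Q i = q := by
  have h1 := hq.1.eq_qf
  have h2 := hq.2
  rw [h1] at h2
  obtain ⟨i, hi⟩ := card_qf_minus _ h2
  refine ⟨i, ?_⟩
  rw [h1, ← hi]
  rfl

theorem coef_injective : Function.Injective coef := by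
  intro i j
  revert i j
  decide +kernel

theorem Q_single (i : Fin 6) (k : Fin 2 ⊕ Fin 2) : Q i (Pi.single k 1) = coef i k := by
  revert i k
  decide +kernel

theorem Q_injective : Function.Injective Q := by
  intro i j h
  apply coef_injective
  funext k
  rw [← Q_single, ← Q_single, h]

/-- The set of the six forms. -/
abbrev X := {q : V → ZMod 2 // IsMinus q}

/-- The labelling of the six forms. -/
noncomputable def label : Fin 6 ≃ X :=
  Equiv.ofBijective (fun i => ⟨Q i, isMinus_Q i⟩)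
    ⟨fun i j h => Q_injective (congrArg Subtype.val h),
      fun ⟨q, hq⟩ => by
        obtain ⟨i, hi⟩ := hq.exists_eq
        exact ⟨i, Subtype.ext hi⟩⟩

theorem B_mulVec (g : G) (x y : V) : B (g.1 *ᵥ x) (g.1 *ᵥ y) = B x y := by
  have h := SymplecticGroup.mem_iff'.1 g.2
  unfold B
  conv_rhs => rw [← h]
  rw [← Matrix.mulVec_mulVec, ← Matrix.mulVec_mulVec, Matrix.dotProduct_mulVec x,
    Matrix.vecMul_transpose]

theorem mulVec_injective (g : G) : Function.Injective (fun v : V => g.1 *ᵥ v) := by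
  intro x y h
  have h2 : (g⁻¹ : G).1 *ᵥ (g.1 *ᵥ x) = (g⁻¹ : G).1 *ᵥ (g.1 *ᵥ y) := congrArg _ h
  have h3 : (g⁻¹ : G).1 * g.1 = 1 := by
    rw [← Submonoid.coe_mul, inv_mul_cancel, Submonoid.coe_one]
  rwa [Matrix.mulVec_mulVec, Matrix.mulVec_mulVec, h3, Matrix.one_mulVec, Matrix.one_mulVec] at h2

theorem mulVec_bijective (g : G) : Function.Bijective (fun v : V => g.1 *ᵥ v) :=
  Finite.injective_iff_bijective.1 (mulVec_injective g)

theorem IsMinus.comp {q : V → ZMod 2} (hq : IsMinus q) (g : G) :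
    IsMinus (fun v => q (g.1 *ᵥ v)) := by
  refine ⟨fun x y => ?_, ?_⟩
  · change q (g.1 *ᵥ (x + y)) = q (g.1 *ᵥ x) + q (g.1 *ᵥ y) + B x y
    rw [Matrix.mulVec_add, hq.1, B_mulVec]
  · rw [← hq.2]
    refine Finset.card_bij (fun v _ => g.1 *ᵥ v) ?_ ?_ ?_
    · intro v hv
      simpa using hv
    · intro v _ w _ h
      exact mulVec_injective g h
    · intro w hw
      obtain ⟨v, hv⟩ := (mulVec_bijective g).2 w
      simp only at hv
      refine ⟨v, ?_, hv⟩
      subst hv
      simpa using hw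

noncomputable instance instMulActionX : MulAction G X where
  smul g q := ⟨fun v => q.1 ((g⁻¹ : G).1 *ᵥ v), q.2.comp g⁻¹⟩
  one_smul q := by
    apply Subtype.ext
    funext v
    change q.1 (((1 : G)⁻¹ : G).1 *ᵥ v) = q.1 v
    rw [inv_one, Submonoid.coe_one, Matrix.one_mulVec]
  mul_smul g h q := by
    apply Subtype.ext
    funext v
    change q.1 (((g * h)⁻¹ : G).1 *ᵥ v) = q.1 ((h⁻¹ : G).1 *ᵥ ((g⁻¹ : G).1 *ᵥ v))
    rw [_root_.mul_inv_rev, Submonoid.coe_mul, Matrix.mulVec_mulVec]

theorem smul_apply (g : G) (q : X) (v : V) : (g • q).1 v = q.1 ((g⁻¹ : G).1 *ᵥ v) := rfl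

/-- The permutation representation of `Sp_4(2)` on the six forms of minus type. -/
noncomputable def rep : G →* Equiv.Perm (Fin 6) :=
  (label.permCongrHom.symm.toMonoidHom).comp (MulAction.toPermHom G X)

theorem rep_apply (g : G) (i : Fin 6) : rep g i = label.symm (g • label i) := by
  simp [rep, Equiv.permCongrHom]

theorem Q_rep (g : G) (i : Fin 6) (v : V) : Q (rep g i) (g.1 *ᵥ v) = Q i v := by
  have h := rep_apply g i
  rw [Equiv.eq_symm_apply] at h
  have h2 : (label (rep g i)).1 (g.1 *ᵥ v) = (g • label i).1 (g.1 *ᵥ v) := by rw [h]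
  rw [smul_apply, Matrix.mulVec_mulVec] at h2
  have h3 : (g⁻¹ : G).1 * g.1 = 1 := by
    rw [← Submonoid.coe_mul, inv_mul_cancel, Submonoid.coe_one]
  rw [h3, Matrix.one_mulVec] at h2
  exact h2

theorem rep_eq_of_Q (g : G) (σ : Equiv.Perm (Fin 6))
    (h : ∀ i v, Q (σ i) (g.1 *ᵥ v) = Q i v) : rep g = σ := by
  ext i
  congr 1
  apply Q_injective
  funext v
  obtain ⟨w, rfl⟩ := (mulVec_bijective g).2 v
  exact (Q_rep g i w).trans (h i w).symm

theorem exists_B_eq : ∀ k : Fin 2 ⊕ Fin 2, ∃ i j : Fin 6, ∀ v : V,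
    v k = Q i v + Q j v := by
  decide +kernel

theorem rep_injective : Function.Injective rep := by
  rw [injective_iff_map_eq_one]
  intro g hg
  have h1 : ∀ v : V, g.1 *ᵥ v = v := by
    intro v
    funext k
    obtain ⟨i, j, hij⟩ := exists_B_eq k
    have hi := Q_rep g i v
    have hj := Q_rep g j v
    rw [hg, Equiv.Perm.one_apply] at hi hj
    rw [hij v, hij (g.1 *ᵥ v), hi, hj]
  apply Subtype.ext
  rw [Submonoid.coe_one]
  apply Matrix.ext_of_mulVec_single
  intro k
  rw [h1, Matrix.one_mulVec]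

/-- The symplectic transvection with vector `w`. -/
def trans (w : V) : Matrix (Fin 2 ⊕ Fin 2) (Fin 2 ⊕ Fin 2) (ZMod 2) :=
  Matrix.of fun a b => (if a = b then 1 else 0) + w a * w (Sum.swap b)

theorem trans_mem (w : V) : trans w ∈ Matrix.symplecticGroup (Fin 2) (ZMod 2) := by
  rw [SymplecticGroup.mem_iff]
  revert w
  decide +kernel

theorem trans_swap (i : Fin 5) (k : Fin 6) (v : V) :
    Q (Equiv.swap i.castSucc i.succ k)
      (trans (fun a => coef i.castSucc (Sum.swap a) + coef i.succ (Sum.swap a)) *ᵥ v) = Q k v := by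
  revert i k v
  decide +kernel

theorem rep_surjective : Function.Surjective rep := by
  have h : ∀ σ : Equiv.Perm (Fin 6), σ ∈ MonoidHom.mrange rep := by
    have h1 : Submonoid.closure (Set.range fun i : Fin 5 ↦ Equiv.swap i.castSucc i.succ) ≤
        MonoidHom.mrange rep := by
      rw [Submonoid.closure_le]
      rintro _ ⟨i, rfl⟩
      exact ⟨⟨_, trans_mem _⟩, rep_eq_of_Q _ _ (trans_swap i)⟩
    rw [Equiv.Perm.mclosure_swap_castSucc_succ] at h1
    intro σ
    exact h1 (Submonoid.mem_top σ)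
  exact h

/-- `Sp_4(2) ≃ S_6`. -/
noncomputable def spFourTwoEquiv : Matrix.symplecticGroup (Fin 2) (ZMod 2) ≃* Equiv.Perm (Fin 6) :=
  MulEquiv.ofBijective rep ⟨rep_injective, rep_surjective⟩

/-- A ring isomorphism induces an isomorphism of symplectic groups. -/
def symplecticMap {l R S : Type*} [Fintype l] [DecidableEq l] [CommRing R] [CommRing S]
    (f : R →+* S) : Matrix.symplecticGroup l R →* Matrix.symplecticGroup l S where
  toFun A := ⟨A.1.map f, SymplecticGroup.map_mem A.2 f⟩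
  map_one' := Subtype.ext (by simp)
  map_mul' A B := Subtype.ext (by simp [Matrix.map_mul])

/-- A ring isomorphism induces an isomorphism of symplectic groups. -/
def symplecticCongr {l R S : Type*} [Fintype l] [DecidableEq l] [CommRing R] [CommRing S]
    (f : R ≃+* S) : Matrix.symplecticGroup l R ≃* Matrix.symplecticGroup l S :=
  MonoidHom.toMulEquiv (symplecticMap f.toRingHom) (symplecticMap f.symm.toRingHom)
    (by
      ext A i j
      simp [symplecticMap])
    (by
      ext A i j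
      simp [symplecticMap])

/-- `Sp_4(F) ≃ S_6` for a field `F` with two elements. -/
theorem nonempty_equiv_perm {F : Type*} [Field F] [Fintype F] (hF : Fintype.card F = 2) :
    Nonempty (Matrix.symplecticGroup (Fin 2) F ≃* Equiv.Perm (Fin 6)) :=
  ⟨(symplecticCongr (ZMod.ringEquivOfPrime F Nat.prime_two hF).symm).trans spFourTwoEquiv⟩

end Cfsg.Agent.LieClassical.SpFourTwo
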