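import Mathlib
import Cfsg.Agent.LieClassical.Grun
import Cfsg.Prelude.Def_Classical
import Cfsg.Agent.LieClassical.KleinSix
import Cfsg.Agent.LieClassical.SLGen
set_option linter.all false

-- part: LieClassical/ReflGen
section
set_option autoImplicit false

/-!
Generation of orthogonal groups by reflections, in every characteristic (and over every field,
`F_2` included), for quadratic spaces `H ⊥ H ⊥ W` with `W` a plane; with a step lemma for `H ⊥ W`.
-/

namespace Cfsg.Agent.LieClassical.ReflGen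

open QuadraticMap

variable {F V : Type*} [Field F] [AddCommGroup V] [Module F V]

/-- The isometry group of a function `Q : V → F`, as a subgroup of the group of linear
automorphisms. -/
def orth (Q : V → F) : Subgroup (V ≃ₗ[F] V) where
  carrier := {g | ∀ v, Q (g v) = Q v}
  mul_mem' {a b} ha hb := by
    intro v
    show Q (a (b v)) = Q v
    rw [ha, hb]
  one_mem' := fun v => rfl
  inv_mem' {a} ha := by
    intro v
    have h := ha (a⁻¹ v)
    rw [← h]
    have h2 : a (a⁻¹ v) = v := by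
      show (a * a⁻¹) v = v
      rw [mul_inv_cancel]; rfl
    rw [h2]

theorem mem_orth_iff {Q : V → F} {g : V ≃ₗ[F] V} : g ∈ orth Q ↔ ∀ v, Q (g v) = Q v := Iff.rfl

variable (Q : QuadraticForm F V)

theorem orth_polar (g : orth (Q : V → F)) (x y : V) :
    polar Q ((g : V ≃ₗ[F] V) x) ((g : V ≃ₗ[F] V) y) = polar Q x y := by
  unfold polar
  rw [← map_add, g.2, g.2, g.2]

theorem polar_self' (x : V) (h : Q x = 0) : polar Q x x = 0 := by
  rw [QuadraticMap.polar_self, h]; simp

/-- The reflection `x ↦ x - Q(a)⁻¹ B(a,x) a` as a linear map. -/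
noncomputable def reflLin (a : V) : V →ₗ[F] V :=
  LinearMap.id - ((Q a)⁻¹ • (polarBilin Q a)).smulRight a

theorem reflLin_apply (a x : V) : reflLin Q a x = x - ((Q a)⁻¹ * polar Q a x) • a := by
  simp [reflLin]

theorem polar_sub_right' (x y z : V) : polar Q x (y - z) = polar Q x y - polar Q x z :=
  QuadraticMap.polar_sub_right Q x y z

theorem polar_smul_right' (c : F) (x y : V) : polar Q x (c • y) = c * polar Q x y := by
  rw [QuadraticMap.polar_smul_right, smul_eq_mul]

theorem polar_smul_left' (c : F) (x y : V) : polar Q (c • x) y = c * polar Q x y := by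
  rw [QuadraticMap.polar_smul_left, smul_eq_mul]

theorem Q_smul (c : F) (x : V) : Q (c • x) = c * c * Q x := by
  rw [QuadraticMap.map_smul, smul_eq_mul]

theorem Q_add (x y : V) : Q (x + y) = Q x + Q y + polar Q x y := by
  unfold polar; ring

theorem Q_sub (x y : V) : Q (x - y) = Q x + Q y - polar Q x y := by
  have h := Q_add Q x (-y)
  rw [← sub_eq_add_neg, QuadraticMap.polar_neg_right, QuadraticMap.map_neg] at h
  rw [h]; ring

theorem polar_self_two (x : V) : polar Q x x = 2 * Q x := by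
  rw [QuadraticMap.polar_self, two_nsmul, two_mul]

theorem reflLin_reflLin {a : V} (ha : Q a ≠ 0) (x : V) : reflLin Q a (reflLin Q a x) = x := by
  rw [reflLin_apply, reflLin_apply, polar_sub_right', polar_smul_right', polar_self_two,
    sub_sub, ← add_smul]
  have : (Q a)⁻¹ * polar Q a x +
      (Q a)⁻¹ * (polar Q a x - (Q a)⁻¹ * polar Q a x * (2 * Q a)) = 0 := by
    field_simp
    ring
  rw [this, zero_smul, sub_zero]

theorem Q_reflLin {a : V} (ha : Q a ≠ 0) (x : V) : Q (reflLin Q a x) = Q x := by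
  rw [reflLin_apply, Q_sub, polar_smul_right', Q_smul, QuadraticMap.polar_comm Q x a]
  field_simp
  ring

/-- The reflection as an element of the isometry group. -/
noncomputable def refl (a : V) (ha : Q a ≠ 0) : orth (Q : V → F) :=
  ⟨LinearEquiv.ofInvolutive (reflLin Q a) (reflLin_reflLin Q ha), Q_reflLin Q ha⟩

theorem refl_apply (a : V) (ha : Q a ≠ 0) (x : V) :
    (refl Q a ha : V ≃ₗ[F] V) x = x - ((Q a)⁻¹ * polar Q a x) • a := reflLin_apply Q a x

theorem refl_mul_self (a : V) (ha : Q a ≠ 0) : refl Q a ha * refl Q a ha = 1 := by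
  apply Subtype.ext
  apply LinearEquiv.ext
  intro x
  exact reflLin_reflLin Q ha x

/-- The set of all reflections. -/
def reflSet : Set (orth (Q : V → F)) := {g | ∃ (a : V) (ha : Q a ≠ 0), g = refl Q a ha}

/-- The group generated by all reflections. -/
def reflGroup : Subgroup (orth (Q : V → F)) := Subgroup.closure (reflSet Q)

theorem refl_mem (a : V) (ha : Q a ≠ 0) : refl Q a ha ∈ reflGroup Q :=
  Subgroup.subset_closure ⟨a, ha, rfl⟩

/-- The reflection in `x - y` moves `x` to `y` when `Q x = Q y` and `Q (x - y) ≠ 0`. -/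
theorem refl_sub_apply (x y : V) (hxy : Q x = Q y) (h : Q (x - y) ≠ 0) :
    (refl Q (x - y) h : V ≃ₗ[F] V) x = y := by
  rw [refl_apply]
  have h1 : polar Q (x - y) x = Q (x - y) := by
    rw [QuadraticMap.polar_sub_left, polar_self_two, Q_sub, hxy, QuadraticMap.polar_comm Q y x]
    ring
  rw [h1, inv_mul_cancel₀ h, one_smul]
  abel

/-- A reflection fixes what is orthogonal to its centre. -/
theorem refl_apply_of_polar_eq_zero (a : V) (ha : Q a ≠ 0) (x : V) (hx : polar Q a x = 0) :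
    (refl Q a ha : V ≃ₗ[F] V) x = x := by
  rw [refl_apply, hx]; simp

/-- The Siegel (Eichler) transformation `x ↦ x + B(x,u) w - B(x,w) u - Q(w) B(x,u) u`. -/
def siegelFun (u w x : V) : V :=
  x + polar Q x u • w - polar Q x w • u - (Q w * polar Q x u) • u

/-- The reflection group contains the Siegel transformation of `(u, w)`. -/
def HasSiegel (u w : V) : Prop :=
  ∃ h ∈ reflGroup Q, ∀ x, ((h : orth (Q : V → F)) : V ≃ₗ[F] V) x = siegelFun Q u w x

theorem hasSiegel_of_ne {u w : V} (hu : Q u = 0) (huw : polar Q u w = 0) (hw : Q w ≠ 0) :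
    HasSiegel Q u w := by
  have hQ : Q (w + Q w • u) = Q w := by
    rw [Q_add, Q_smul, hu, polar_smul_right', QuadraticMap.polar_comm Q w u, huw]; ring
  have h1 : Q (w + Q w • u) ≠ 0 := by rw [hQ]; exact hw
  refine ⟨refl Q w hw * refl Q (w + Q w • u) h1,
    mul_mem (refl_mem Q _ _) (refl_mem Q _ _), ?_⟩
  intro x
  show (refl Q w hw : V ≃ₗ[F] V) ((refl Q (w + Q w • u) h1 : V ≃ₗ[F] V) x) = _
  rw [refl_apply, refl_apply, hQ, siegelFun]
  rw [QuadraticMap.polar_add_left, polar_smul_left', QuadraticMap.polar_sub_right Q,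
    polar_smul_right', QuadraticMap.polar_add_right, polar_smul_right', polar_self_two,
    QuadraticMap.polar_comm Q w u, huw, QuadraticMap.polar_comm Q x u,
    QuadraticMap.polar_comm Q x w]
  set p := polar Q w x
  set r := polar Q u x
  have e1 : (Q w)⁻¹ * (p + Q w * r) = (Q w)⁻¹ * p + r := by field_simp
  rw [e1]
  have e2 : (Q w)⁻¹ * (p - ((Q w)⁻¹ * p + r) * (2 * Q w + Q w * 0)) = -((Q w)⁻¹ * p + r + r) := by
    field_simp; ring
  rw [e2]
  have e3 : ((Q w)⁻¹ * p + r) * Q w = p + r * Q w := by field_simp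
  rw [smul_add, smul_smul, e3]
  module

theorem siegelFun_comp {u w₁ w₂ : V} (hu : Q u = 0) (h1 : polar Q u w₁ = 0)
    (h2 : polar Q u w₂ = 0) (x : V) :
    siegelFun Q u w₁ (siegelFun Q u w₂ x) = siegelFun Q u (w₁ + w₂) x := by
  have hB : polar Q (siegelFun Q u w₂ x) u = polar Q x u := by
    unfold siegelFun
    simp only [QuadraticMap.polar_sub_left, QuadraticMap.polar_add_left, polar_smul_left',
      polar_self_two, hu, QuadraticMap.polar_comm Q w₂ u, h2]
    ring
  have hB1 : polar Q (siegelFun Q u w₂ x) w₁ = polar Q x w₁ + polar Q x u * polar Q w₂ w₁ := by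
    unfold siegelFun
    simp only [QuadraticMap.polar_sub_left, QuadraticMap.polar_add_left, polar_smul_left',
      h1]
    ring
  rw [siegelFun, hB, hB1]
  unfold siegelFun
  rw [Q_add Q w₁ w₂, QuadraticMap.polar_add_right, QuadraticMap.polar_comm Q w₂ w₁]
  module

theorem HasSiegel.add {u w₁ w₂ : V} (hu : Q u = 0) (h1 : polar Q u w₁ = 0)
    (h2 : polar Q u w₂ = 0) (H1 : HasSiegel Q u w₁) (H2 : HasSiegel Q u w₂) :
    HasSiegel Q u (w₁ + w₂) := by
  obtain ⟨a, ha, ha'⟩ := H1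
  obtain ⟨b, hb, hb'⟩ := H2
  refine ⟨a * b, mul_mem ha hb, fun x => ?_⟩
  show (a : V ≃ₗ[F] V) ((b : V ≃ₗ[F] V) x) = _
  rw [hb', ha', siegelFun_comp Q hu h1 h2]

/-- The reflection group contains the Siegel transformation of `(u, w)` as soon as there is a
non-singular vector orthogonal to `u` and `w`. -/
theorem hasSiegel_of_exists {u w : V} (hu : Q u = 0) (huw : polar Q u w = 0)
    (h : ∃ w', polar Q u w' = 0 ∧ polar Q w w' = 0 ∧ Q w' ≠ 0) : HasSiegel Q u w := by
  by_cases hw : Q w = 0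
  · obtain ⟨w', hw1, hw2, hw3⟩ := h
    have e : w = (w - w') + w' := by abel
    rw [e]
    apply HasSiegel.add Q hu
    · rw [QuadraticMap.polar_sub_right, huw, hw1, sub_zero]
    · exact hw1
    · apply hasSiegel_of_ne Q hu
      · rw [QuadraticMap.polar_sub_right, huw, hw1, sub_zero]
      · rw [Q_sub, hw, hw2]; simpa using hw3
    · exact hasSiegel_of_ne Q hu hw1 hw3
  · exact hasSiegel_of_ne Q hu huw hw

/-- The pointwise fixer of a set of vectors in the isometry group. -/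
def fixer (C : Set V) : Subgroup (orth (Q : V → F)) where
  carrier := {g | ∀ c ∈ C, (g : V ≃ₗ[F] V) c = c}
  mul_mem' {a b} ha hb := by
    intro c hc
    show (a : V ≃ₗ[F] V) ((b : V ≃ₗ[F] V) c) = c
    rw [hb c hc, ha c hc]
  one_mem' := fun c _ => rfl
  inv_mem' {a} ha := by
    intro c hc
    have h := ha c hc
    show (a : V ≃ₗ[F] V)⁻¹ c = c
    conv_lhs => rw [← h]
    show ((a : V ≃ₗ[F] V)⁻¹ * (a : V ≃ₗ[F] V)) c = c
    rw [inv_mul_cancel]; rfl

theorem mem_fixer_iff {C : Set V} {g : orth (Q : V → F)} :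
    g ∈ fixer Q C ↔ ∀ c ∈ C, (g : V ≃ₗ[F] V) c = c := Iff.rfl

/-- `w` is orthogonal to `C` and to `e`, `f`. -/
def InW (C : Set V) (e f w : V) : Prop :=
  (∀ c ∈ C, polar Q c w = 0) ∧ polar Q e w = 0 ∧ polar Q f w = 0

theorem siegel_fixes {u w c : V} (hu : polar Q c u = 0) (hw : polar Q c w = 0) :
    siegelFun Q u w c = c := by
  unfold siegelFun
  rw [hu, hw]; simp

theorem HasSiegel.fix {C : Set V} {u w : V} (h : HasSiegel Q u w)
    (hu : ∀ c ∈ C, polar Q c u = 0) (hw : ∀ c ∈ C, polar Q c w = 0) :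
    ∃ h ∈ reflGroup Q ⊓ fixer Q C, ∀ x, ((h : orth (Q : V → F)) : V ≃ₗ[F] V) x
      = siegelFun Q u w x := by
  obtain ⟨a, ha, hax⟩ := h
  refine ⟨a, ⟨ha, ?_⟩, hax⟩
  intro c hc
  rw [hax]
  exact siegel_fixes Q (hu c hc) (hw c hc)

/-- The component of `u` orthogonal to the hyperbolic pair. -/
theorem inW_comp {C : Set V} {e f u : V} (he : Q e = 0) (hf : Q f = 0) (hef : polar Q e f = 1)
    (hCe : ∀ c ∈ C, polar Q c e = 0) (hCf : ∀ c ∈ C, polar Q c f = 0)
    (hu : ∀ c ∈ C, polar Q c u = 0) :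
    InW Q C e f (u - polar Q u f • e - polar Q u e • f) := by
  have hfe : polar Q f e = 1 := by rw [QuadraticMap.polar_comm]; exact hef
  refine ⟨fun c hc => ?_, ?_, ?_⟩
  · rw [polar_sub_right', polar_sub_right', polar_smul_right', polar_smul_right', hu c hc,
      hCe c hc, hCf c hc]; ring
  · rw [polar_sub_right', polar_sub_right', polar_smul_right', polar_smul_right',
      polar_self_two, he, hef, QuadraticMap.polar_comm Q u e]; ring
  · rw [polar_sub_right', polar_sub_right', polar_smul_right', polar_smul_right',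
      polar_self_two, hf, hfe, QuadraticMap.polar_comm Q u f]; ring

section Step

variable {Q}
variable {C : Set V} {e f : V} (he : Q e = 0) (hf : Q f = 0) (hef : polar Q e f = 1)
    (hCe : ∀ c ∈ C, polar Q c e = 0) (hCf : ∀ c ∈ C, polar Q c f = 0)
    (hSe : ∀ w, InW Q C e f w → HasSiegel Q e w) (hSf : ∀ w, InW Q C e f w → HasSiegel Q f w)
include he hf hef hCe hCf

include hSf in
theorem step_a {u : V} (hu : ∀ c ∈ C, polar Q c u = 0) (hu0 : Q u = 0) (huf : polar Q u f ≠ 0) :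
    ∃ h ∈ reflGroup Q ⊓ fixer Q C, ((h : orth (Q : V → F)) : V ≃ₗ[F] V) u
      = polar Q u f • e := by
  set α := polar Q u f with hα
  set β := polar Q u e with hβ
  have hW := inW_comp Q he hf hef hCe hCf hu
  rw [← hα, ← hβ] at hW
  set w₀ := u - α • e - β • f with hw₀
  have hW' : InW Q C e f (-(α⁻¹ • w₀)) := by
    refine ⟨fun c hc => ?_, ?_, ?_⟩
    · rw [QuadraticMap.polar_neg_right, polar_smul_right', hW.1 c hc]; simp
    · rw [QuadraticMap.polar_neg_right, polar_smul_right', hW.2.1]; simp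
    · rw [QuadraticMap.polar_neg_right, polar_smul_right', hW.2.2]; simp
  obtain ⟨h, hh, hx⟩ := (hSf _ hW').fix Q hCf hW'.1
  refine ⟨h, hh, ?_⟩
  have h1 := hx u
  have key : ∃ γ : F, ((h : orth (Q : V → F)) : V ≃ₗ[F] V) u = α • e + γ • f := by
    refine ⟨β - polar Q u (-(α⁻¹ • w₀)) - Q (-(α⁻¹ • w₀)) * α, ?_⟩
    rw [h1, siegelFun, ← hα]
    have : u = w₀ + α • e + β • f := by rw [hw₀]; abel
    conv_lhs => rw [this]
    have h3 : α • -(α⁻¹ • w₀) = -w₀ := by
      rw [smul_neg, smul_smul, mul_inv_cancel₀ huf, one_smul]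
    rw [← this, h3]
    conv_lhs =>
      arg 1; arg 1; arg 1; rw [this]
    module
  obtain ⟨γ, hγ⟩ := key
  have h2 : Q (((h : orth (Q : V → F)) : V ≃ₗ[F] V) u) = 0 := by
    rw [(h.2 : ∀ v, Q ((h : V ≃ₗ[F] V) v) = Q v), hu0]
  rw [hγ, Q_add, Q_smul, Q_smul, he, hf, polar_smul_left', polar_smul_right', hef] at h2
  have h3 : γ = 0 := by
    have h4 : α * γ = 0 := by linear_combination h2
    exact (mul_eq_zero.mp h4).resolve_left huf
  rw [hγ, h3, zero_smul, add_zero]

include hSe in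
theorem step_b {u : V} (hu : ∀ c ∈ C, polar Q c u = 0) (hu0 : Q u = 0) (hune : u ≠ 0)
    (hnd : ∀ w, InW Q C e f w → w ≠ 0 → ∃ w', InW Q C e f w' ∧ polar Q w w' ≠ 0)
    (hns : ∃ w, InW Q C e f w ∧ Q w ≠ 0) :
    ∃ h ∈ reflGroup Q ⊓ fixer Q C, polar Q (((h : orth (Q : V → F)) : V ≃ₗ[F] V) u) f ≠ 0 := by
  have hfe : polar Q f e = 1 := by rw [QuadraticMap.polar_comm]; exact hef
  by_cases hα : polar Q u f = 0
  swap
  · exact ⟨1, one_mem _, hα⟩
  -- α = 0
  have hW := inW_comp Q he hf hef hCe hCf hu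
  rw [hα, zero_smul, sub_zero] at hW
  set β := polar Q u e with hβ
  set w₀ := u - β • f with hw₀
  have hu' : u = w₀ + β • f := by rw [hw₀]; abel
  by_cases hβ0 : β = 0
  · -- u = w₀ ≠ 0
    rw [hβ0, zero_smul, add_zero] at hu'
    have hw0 : w₀ ≠ 0 := by rw [← hu']; exact hune
    obtain ⟨w', hw', hne⟩ := hnd w₀ hW hw0
    obtain ⟨h, hh, hx⟩ := (hSe _ hw').fix Q hCe hw'.1
    refine ⟨h, hh, ?_⟩
    rw [hx, siegelFun, ← hβ, hβ0]
    simp only [zero_smul, add_zero, mul_zero, sub_zero, QuadraticMap.polar_sub_left,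
      polar_smul_left', hα, hef]
    rw [hu']
    simpa using hne
  · -- β ≠ 0 : first move to β f, then by a nonsingular vector
    obtain ⟨w1, hw1, hw1n⟩ := hns
    have hQw0 : Q w₀ = 0 := by
      have := hu0
      rw [hu', Q_add, Q_smul, hf, polar_smul_right', QuadraticMap.polar_comm Q w₀ f, hW.2.2] at this
      linear_combination this
    have hW' : InW Q C e f (-(β⁻¹ • w₀) + w1) := by
      refine ⟨fun c hc => ?_, ?_, ?_⟩
      · rw [QuadraticMap.polar_add_right, QuadraticMap.polar_neg_right, polar_smul_right',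
          hW.1 c hc, hw1.1 c hc]; simp
      · rw [QuadraticMap.polar_add_right, QuadraticMap.polar_neg_right, polar_smul_right',
          hW.2.1, hw1.2.1]; simp
      · rw [QuadraticMap.polar_add_right, QuadraticMap.polar_neg_right, polar_smul_right',
          hW.2.2, hw1.2.2]; simp
    obtain ⟨h, hh, hx⟩ := (hSe _ hW').fix Q hCe hW'.1
    refine ⟨h, hh, ?_⟩
    rw [hx, siegelFun, ← hβ]
    have hfw0 : polar Q w₀ f = 0 := by rw [QuadraticMap.polar_comm]; exact hW.2.2
    have hfw1 : polar Q w1 f = 0 := by rw [QuadraticMap.polar_comm]; exact hw1.2.2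
    have hww : polar Q w₀ w₀ = 0 := by rw [polar_self_two, hQw0]; ring
    have e1 : polar Q u (-(β⁻¹ • w₀) + w1) = polar Q w₀ w1 := by
      rw [hu']
      simp only [QuadraticMap.polar_add_left, QuadraticMap.polar_add_right, polar_smul_left',
        polar_smul_right', QuadraticMap.polar_neg_right, hW.2.2, hw1.2.2, hww]
      ring
    have e2 : Q (-(β⁻¹ • w₀) + w1) = Q w1 - β⁻¹ * polar Q w₀ w1 := by
      rw [Q_add, QuadraticMap.map_neg, Q_smul, hQw0, QuadraticMap.polar_neg_left,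
        polar_smul_left']
      ring
    rw [e1, e2]
    simp only [QuadraticMap.polar_sub_left, QuadraticMap.polar_add_left,
      polar_smul_left', hα, hef, QuadraticMap.polar_neg_left, hfw0, hfw1]
    have e3 : 0 + β * (-(β⁻¹ * 0) + 0) - polar Q w₀ w1 * 1
        - (Q w1 - β⁻¹ * polar Q w₀ w1) * β * 1 = -(Q w1 * β) := by
      field_simp
      ring
    rw [e3]
    exact neg_ne_zero.mpr (mul_ne_zero hw1n hβ0)

/-- Scaling of a hyperbolic pair. -/
theorem step_c (t : F) (ht : t ≠ 0) :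
    ∃ h ∈ reflGroup Q ⊓ fixer Q C, ((h : orth (Q : V → F)) : V ≃ₗ[F] V) e = t • e ∧
      ((h : orth (Q : V → F)) : V ≃ₗ[F] V) f = t⁻¹ • f ∧
      (∀ x, polar Q e x = 0 → polar Q f x = 0 → ((h : orth (Q : V → F)) : V ≃ₗ[F] V) x = x) := by
  have hfe : polar Q f e = 1 := by rw [QuadraticMap.polar_comm]; exact hef
  have hQ : ∀ s : F, Q (e - s • f) = -s := by
    intro s
    rw [Q_sub, he, Q_smul, hf, polar_smul_right', hef]; ring
  have h1 : Q (e - (1:F) • f) ≠ 0 := by rw [hQ]; simp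
  have h2 : Q (e - t • f) ≠ 0 := by rw [hQ]; simpa using ht
  have hpe : ∀ s : F, polar Q (e - s • f) e = -s := by
    intro s
    rw [QuadraticMap.polar_sub_left, polar_smul_left', polar_self_two, he, hfe]; ring
  have hpf : ∀ s : F, polar Q (e - s • f) f = 1 := by
    intro s
    rw [QuadraticMap.polar_sub_left, polar_smul_left', polar_self_two, hf, hef]; ring
  have hre : ∀ (s : F) (hs : Q (e - s • f) ≠ 0),
      (refl Q (e - s • f) hs : V ≃ₗ[F] V) e = s • f := by
    intro s hs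
    rw [refl_apply, hQ, hpe]
    have hs' : s ≠ 0 := by rw [hQ] at hs; simpa using hs
    rw [inv_mul_cancel₀ (neg_ne_zero.mpr hs'), one_smul]; abel
  have hrf : ∀ (s : F) (hs : Q (e - s • f) ≠ 0),
      (refl Q (e - s • f) hs : V ≃ₗ[F] V) f = s⁻¹ • e := by
    intro s hs
    rw [refl_apply, hQ, hpf]
    have hs' : s ≠ 0 := by rw [hQ] at hs; simpa using hs
    rw [mul_one, smul_sub, smul_smul, inv_neg, neg_mul, inv_mul_cancel₀ hs']
    module
  have hrx : ∀ (s : F) (hs : Q (e - s • f) ≠ 0) (x : V), polar Q e x = 0 → polar Q f x = 0 →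
      (refl Q (e - s • f) hs : V ≃ₗ[F] V) x = x := by
    intro s hs x hx1 hx2
    apply refl_apply_of_polar_eq_zero
    rw [QuadraticMap.polar_sub_left, polar_smul_left', hx1, hx2]; ring
  have hrc : ∀ (s : F) (hs : Q (e - s • f) ≠ 0), refl Q (e - s • f) hs ∈ fixer Q C := by
    intro s hs c hc
    apply hrx
    · rw [QuadraticMap.polar_comm]; exact hCe c hc
    · rw [QuadraticMap.polar_comm]; exact hCf c hc
  refine ⟨refl Q (e - (1:F) • f) h1 * refl Q (e - t • f) h2,
    mul_mem ⟨refl_mem Q _ _, hrc _ _⟩ ⟨refl_mem Q _ _, hrc _ _⟩, ?_, ?_, ?_⟩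
  · show (refl Q (e - (1:F) • f) h1 : V ≃ₗ[F] V) ((refl Q (e - t • f) h2 : V ≃ₗ[F] V) e) = _
    rw [hre, map_smul, hrf, inv_one, one_smul]
  · show (refl Q (e - (1:F) • f) h1 : V ≃ₗ[F] V) ((refl Q (e - t • f) h2 : V ≃ₗ[F] V) f) = _
    rw [hrf, map_smul, hre, one_smul]
  · intro x hx1 hx2
    show (refl Q (e - (1:F) • f) h1 : V ≃ₗ[F] V) ((refl Q (e - t • f) h2 : V ≃ₗ[F] V) x) = _
    rw [hrx t h2 x hx1 hx2, hrx 1 h1 x hx1 hx2]

include hSe hSf in
/-- The step lemma: an isometry `g` fixing `C` pointwise can be corrected, by a product of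
reflections fixing `C` pointwise, to one that also fixes the hyperbolic pair `e, f`. -/
theorem step
    (hnd : ∀ w, InW Q C e f w → w ≠ 0 → ∃ w', InW Q C e f w' ∧ polar Q w w' ≠ 0)
    (hns : ∃ w, InW Q C e f w ∧ Q w ≠ 0)
    (g : orth (Q : V → F)) (hg : g ∈ fixer Q C) :
    ∃ h ∈ reflGroup Q ⊓ fixer Q C, h * g ∈ fixer Q (C ∪ {e, f}) := by
  have hfe : polar Q f e = 1 := by rw [QuadraticMap.polar_comm]; exact hef
  have he0 : e ≠ 0 := by
    rintro rfl
    rw [QuadraticMap.polar_zero_left] at hef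
    exact zero_ne_one hef
  -- every isometry fixing C maps vectors orthogonal to C to such vectors
  have hperp : ∀ (k : orth (Q : V → F)), k ∈ fixer Q C → ∀ x, (∀ c ∈ C, polar Q c x = 0) →
      ∀ c ∈ C, polar Q c ((k : V ≃ₗ[F] V) x) = 0 := by
    intro k hk x hx c hc
    have := orth_polar Q k c x
    rw [hk c hc] at this
    rw [this]; exact hx c hc
  -- step 1: make B(g e, f) ≠ 0
  obtain ⟨h1, hh1, hh1f⟩ := step_b he hf hef hCe hCf hSe (u := (g : V ≃ₗ[F] V) e)
    (hperp g hg e hCe) (by rw [g.2, he]) (by simpa using he0) hnd hns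
  -- step 2: g e ↦ α e
  obtain ⟨h2, hh2, hh2e⟩ := step_a he hf hef hCe hCf hSf
    (u := (h1 : V ≃ₗ[F] V) ((g : V ≃ₗ[F] V) e))
    (hperp h1 hh1.2 _ (hperp g hg e hCe)) (by rw [h1.2, g.2, he]) hh1f
  set α := polar Q ((h1 : V ≃ₗ[F] V) ((g : V ≃ₗ[F] V) e)) f with hα
  obtain ⟨h3, hh3, hh3e, hh3f, -⟩ := step_c he hf hef hCe hCf α⁻¹ (inv_ne_zero hh1f)
  -- now k = h3 h2 h1 g fixes e
  set k : orth (Q : V → F) := h3 * h2 * h1 * g with hk
  have hkC : k ∈ fixer Q C := mul_mem (mul_mem (mul_mem hh3.2 hh2.2) hh1.2) hg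
  have hke : (k : V ≃ₗ[F] V) e = e := by
    show (h3 : V ≃ₗ[F] V) ((h2 : V ≃ₗ[F] V) ((h1 : V ≃ₗ[F] V) ((g : V ≃ₗ[F] V) e))) = e
    rw [hh2e, map_smul, hh3e, smul_smul, mul_inv_cancel₀ hh1f, one_smul]
  -- k f = f + w + γ e
  have hkf : polar Q ((k : V ≃ₗ[F] V) f) e = 1 := by
    have := orth_polar Q k f e
    rw [hke] at this
    rw [this, hfe]
  have hfC := hperp k hkC f hCf
  have hW := inW_comp Q he hf hef hCe hCf hfC
  rw [hkf, one_smul] at hW
  set γ := polar Q ((k : V ≃ₗ[F] V) f) f with hγ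
  set w := (k : V ≃ₗ[F] V) f - γ • e - f with hw
  have hW' : InW Q C e f (-w) := by
    refine ⟨fun c hc => ?_, ?_, ?_⟩
    · rw [QuadraticMap.polar_neg_right, hW.1 c hc]; simp
    · rw [QuadraticMap.polar_neg_right, hW.2.1]; simp
    · rw [QuadraticMap.polar_neg_right, hW.2.2]; simp
  obtain ⟨h4, hh4, hx⟩ := (hSe _ hW').fix Q hCe hW'.1
  have h4e : (h4 : V ≃ₗ[F] V) e = e := by
    rw [hx, siegelFun, polar_self_two, he, QuadraticMap.polar_neg_right, hW.2.1]
    simp
  have h4f : (h4 : V ≃ₗ[F] V) ((k : V ≃ₗ[F] V) f) = f := by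
    have key : ∃ δ : F, (h4 : V ≃ₗ[F] V) ((k : V ≃ₗ[F] V) f) = f + δ • e := by
      refine ⟨γ - polar Q ((k : V ≃ₗ[F] V) f) (-w) - Q (-w), ?_⟩
      rw [hx, siegelFun, hkf]
      have : (k : V ≃ₗ[F] V) f = w + γ • e + f := by rw [hw]; abel
      conv_lhs =>
        arg 1; arg 1; arg 1; rw [this]
      module
    obtain ⟨δ, hδ⟩ := key
    have h5 : Q ((h4 : V ≃ₗ[F] V) ((k : V ≃ₗ[F] V) f)) = 0 := by rw [h4.2, k.2, hf]
    rw [hδ, Q_add, Q_smul, hf, he, polar_smul_right', hfe] at h5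
    have h6 : δ = 0 := by linear_combination h5
    rw [hδ, h6, zero_smul, add_zero]
  refine ⟨h4 * (h3 * h2 * h1), mul_mem hh4 (mul_mem (mul_mem hh3 hh2) hh1), ?_⟩
  have heq : h4 * (h3 * h2 * h1) * g = h4 * k := by rw [hk]; group
  rw [heq]
  rintro c (hc | hc)
  · show (h4 : V ≃ₗ[F] V) ((k : V ≃ₗ[F] V) c) = c
    rw [hkC c hc, hh4.2 c hc]
  · rcases hc with rfl | hc
    · show (h4 : V ≃ₗ[F] V) ((k : V ≃ₗ[F] V) c) = c
      rw [hke, h4e]
    · rw [Set.mem_singleton_iff] at hc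
      subst hc
      exact h4f

end Step

/-! ### Two hyperbolic planes and a plane -/

theorem polar_zero_of_span {S : Set V} (hS : Submodule.span F S = ⊤) {x : V}
    (hx : ∀ s ∈ S, polar Q x s = 0) (y : V) : polar Q x y = 0 := by
  have hy : y ∈ Submodule.span F S := by rw [hS]; trivial
  induction hy using Submodule.span_induction with
  | mem s hs => exact hx s hs
  | zero => rw [QuadraticMap.polar_zero_right]
  | add a b _ _ ha hb => rw [QuadraticMap.polar_add_right, ha, hb, add_zero]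
  | smul c a _ ha => rw [polar_smul_right', ha, mul_zero]

theorem eq_one_of_fixer {S : Set V} (hS : Submodule.span F S = ⊤) {g : orth (Q : V → F)}
    (hg : g ∈ fixer Q S) : g = 1 := by
  apply Subtype.ext
  apply LinearEquiv.toLinearMap_injective
  apply LinearMap.ext_on hS
  intro s hs
  exact hg s hs

/-- The last step, hyperbolic case. -/
theorem fixer_le_of_hyperbolic {C : Set V} {e f : V} (he : Q e = 0) (hf : Q f = 0)
    (hef : polar Q e f = 1)
    (hCe : ∀ c ∈ C, polar Q c e = 0) (hCf : ∀ c ∈ C, polar Q c f = 0)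
    (hnd : ∀ x, (∀ y, polar Q x y = 0) → x = 0)
    (hspan : Submodule.span F (C ∪ {e, f}) = ⊤) : fixer Q C ≤ reflGroup Q := by
  intro g hg
  have hfe : polar Q f e = 1 := by rw [QuadraticMap.polar_comm]; exact hef
  -- decomposition of vectors orthogonal to `C`
  have hdec : ∀ u, (∀ c ∈ C, polar Q c u = 0) → u = polar Q u f • e + polar Q u e • f := by
    intro u hu
    have hW := inW_comp Q he hf hef hCe hCf hu
    have h0 : u - polar Q u f • e - polar Q u e • f = 0 := by
      apply hnd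
      apply polar_zero_of_span Q hspan
      rintro s (hs | hs | hs)
      · rw [QuadraticMap.polar_comm]; exact hW.1 s hs
      · rw [hs, QuadraticMap.polar_comm]; exact hW.2.1
      · rw [Set.mem_singleton_iff.mp hs, QuadraticMap.polar_comm]; exact hW.2.2
    rw [sub_sub] at h0
    exact sub_eq_zero.mp h0
  have hperp : ∀ (k : orth (Q : V → F)), k ∈ fixer Q C → ∀ x, (∀ c ∈ C, polar Q c x = 0) →
      ∀ c ∈ C, polar Q c ((k : V ≃ₗ[F] V) x) = 0 := by
    intro k hk x hx c hc
    have := orth_polar Q k c x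
    rw [hk c hc] at this
    rw [this]; exact hx c hc
  -- step 1: WLOG `B(g e, e) = 0`
  have h1 : ∃ h ∈ reflGroup Q ⊓ fixer Q C,
      polar Q (((h * g : orth (Q : V → F)) : V ≃ₗ[F] V) e) e = 0 := by
    by_cases h : polar Q ((g : V ≃ₗ[F] V) e) e = 0
    · exact ⟨1, one_mem _, by rw [one_mul]; exact h⟩
    · have hQ : Q ((g : V ≃ₗ[F] V) e - e) ≠ 0 := by
        rw [Q_sub, g.2, he]; simpa using h
      refine ⟨refl Q _ hQ, ⟨refl_mem Q _ _, ?_⟩, ?_⟩
      · intro c hc
        apply refl_apply_of_polar_eq_zero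
        rw [QuadraticMap.polar_comm, QuadraticMap.polar_sub_right, hperp g hg e hCe c hc,
          hCe c hc, sub_zero]
      · show polar Q ((refl Q _ hQ : V ≃ₗ[F] V) ((g : V ≃ₗ[F] V) e)) e = 0
        rw [refl_sub_apply Q _ _ (g.2 e) hQ, polar_self_two, he, mul_zero]
  obtain ⟨h, hh, hhe⟩ := h1
  set k : orth (Q : V → F) := h * g with hk
  have hkC : k ∈ fixer Q C := mul_mem hh.2 hg
  have hke := hdec _ (hperp k hkC e hCe)
  rw [hhe, zero_smul, add_zero] at hke
  set α := polar Q ((k : V ≃ₗ[F] V) e) f with hα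
  have hα0 : α ≠ 0 := by
    intro h0
    rw [h0, zero_smul] at hke
    have : e = 0 := by
      have := (k : V ≃ₗ[F] V).map_eq_zero_iff.mp hke
      exact this
    rw [this, QuadraticMap.polar_zero_left] at hef
    exact zero_ne_one hef
  obtain ⟨h3, hh3, hh3e, -, -⟩ := step_c he hf hef hCe hCf α⁻¹ (inv_ne_zero hα0)
  set k' : orth (Q : V → F) := h3 * k with hk'
  have hk'C : k' ∈ fixer Q C := mul_mem hh3.2 hkC
  have hk'e : (k' : V ≃ₗ[F] V) e = e := by
    show (h3 : V ≃ₗ[F] V) ((k : V ≃ₗ[F] V) e) = e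
    rw [hke, map_smul, hh3e, smul_smul, mul_inv_cancel₀ hα0, one_smul]
  have hk'f : (k' : V ≃ₗ[F] V) f = f := by
    have h4 := hdec _ (hperp k' hk'C f hCf)
    have h5 : polar Q ((k' : V ≃ₗ[F] V) f) e = 1 := by
      have := orth_polar Q k' f e
      rw [hk'e] at this
      rw [this, hfe]
    rw [h5, one_smul] at h4
    have h6 : Q ((k' : V ≃ₗ[F] V) f) = 0 := by rw [k'.2, hf]
    rw [h4, Q_add, Q_smul, hf, he, polar_smul_left', hef] at h6
    have h7 : polar Q ((k' : V ≃ₗ[F] V) f) f = 0 := by linear_combination h6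
    rw [h4, h7, zero_smul, zero_add]
  have hk'1 : k' = 1 := by
    apply eq_one_of_fixer Q hspan
    rintro c (hc | hc | hc)
    · exact hk'C c hc
    · rw [hc]; exact hk'e
    · rw [Set.mem_singleton_iff.mp hc]; exact hk'f
  have hg' : g = (h3 * h)⁻¹ := by
    have h8 : h3 * h * g = 1 := by rw [mul_assoc, ← hk, ← hk', hk'1]
    exact eq_inv_of_mul_eq_one_right h8
  rw [hg']
  exact inv_mem (mul_mem hh3.1 hh.1)

/-- The last step, anisotropic case. -/
theorem fixer_le_of_anisotropic {C : Set V} {z₁ z₂ : V}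
    (hC1 : ∀ c ∈ C, polar Q c z₁ = 0) (hC2 : ∀ c ∈ C, polar Q c z₂ = 0)
    (han : ∀ x, (∀ c ∈ C, polar Q c x = 0) → Q x = 0 → x = 0)
    (hspan : Submodule.span F (C ∪ {z₁, z₂}) = ⊤) : fixer Q C ≤ reflGroup Q := by
  intro g hg
  have hperp : ∀ (k : orth (Q : V → F)), k ∈ fixer Q C → ∀ x, (∀ c ∈ C, polar Q c x = 0) →
      ∀ c ∈ C, polar Q c ((k : V ≃ₗ[F] V) x) = 0 := by
    intro k hk x hx c hc
    have := orth_polar Q k c x
    rw [hk c hc] at this
    rw [this]; exact hx c hc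
  -- step 1: WLOG `g z₁ = z₁`
  have h1 : ∃ h ∈ reflGroup Q ⊓ fixer Q C,
      ((h * g : orth (Q : V → F)) : V ≃ₗ[F] V) z₁ = z₁ := by
    by_cases h : (g : V ≃ₗ[F] V) z₁ = z₁
    · exact ⟨1, one_mem _, by rw [one_mul]; exact h⟩
    · have hQ : Q ((g : V ≃ₗ[F] V) z₁ - z₁) ≠ 0 := by
        intro h0
        apply h
        have := han _ (fun c hc => by
          rw [QuadraticMap.polar_sub_right, hperp g hg z₁ hC1 c hc, hC1 c hc, sub_zero]) h0
        exact sub_eq_zero.mp this
      refine ⟨refl Q _ hQ, ⟨refl_mem Q _ _, ?_⟩, ?_⟩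
      · intro c hc
        apply refl_apply_of_polar_eq_zero
        rw [QuadraticMap.polar_comm, QuadraticMap.polar_sub_right, hperp g hg z₁ hC1 c hc,
          hC1 c hc, sub_zero]
      · show (refl Q _ hQ : V ≃ₗ[F] V) ((g : V ≃ₗ[F] V) z₁) = z₁
        rw [refl_sub_apply Q _ _ (g.2 z₁) hQ]
  obtain ⟨h, hh, hhe⟩ := h1
  set k : orth (Q : V → F) := h * g with hk
  have hkC : k ∈ fixer Q C := mul_mem hh.2 hg
  -- step 2 : now `z₂`
  have h2 : ∃ h' ∈ reflGroup Q ⊓ fixer Q C,
      ((h' * k : orth (Q : V → F)) : V ≃ₗ[F] V) z₁ = z₁ ∧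
      ((h' * k : orth (Q : V → F)) : V ≃ₗ[F] V) z₂ = z₂ := by
    by_cases h : (k : V ≃ₗ[F] V) z₂ = z₂
    · exact ⟨1, one_mem _, by rw [one_mul]; exact hhe, by rw [one_mul]; exact h⟩
    · have hQ : Q ((k : V ≃ₗ[F] V) z₂ - z₂) ≠ 0 := by
        intro h0
        apply h
        have := han _ (fun c hc => by
          rw [QuadraticMap.polar_sub_right, hperp k hkC z₂ hC2 c hc, hC2 c hc, sub_zero]) h0
        exact sub_eq_zero.mp this
      refine ⟨refl Q _ hQ, ⟨refl_mem Q _ _, ?_⟩, ?_, ?_⟩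
      · intro c hc
        apply refl_apply_of_polar_eq_zero
        rw [QuadraticMap.polar_comm, QuadraticMap.polar_sub_right, hperp k hkC z₂ hC2 c hc,
          hC2 c hc, sub_zero]
      · show (refl Q _ hQ : V ≃ₗ[F] V) ((k : V ≃ₗ[F] V) z₁) = z₁
        rw [hhe]
        apply refl_apply_of_polar_eq_zero
        have := orth_polar Q k z₂ z₁
        rw [hhe] at this
        rw [QuadraticMap.polar_sub_left, this, sub_self]
      · show (refl Q _ hQ : V ≃ₗ[F] V) ((k : V ≃ₗ[F] V) z₂) = z₂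
        rw [refl_sub_apply Q _ _ (k.2 z₂) hQ]
  obtain ⟨h', hh', h'1, h'2⟩ := h2
  have hk'1 : h' * k = 1 := by
    apply eq_one_of_fixer Q hspan
    rintro c (hc | hc | hc)
    · exact (mul_mem hh'.2 hkC : h' * k ∈ fixer Q C) c hc
    · rw [hc]; exact h'1
    · rw [Set.mem_singleton_iff.mp hc]; exact h'2
  have hg' : g = (h' * h)⁻¹ := by
    have h8 : h' * h * g = 1 := by rw [mul_assoc, ← hk, hk'1]
    exact eq_inv_of_mul_eq_one_right h8
  rw [hg']
  exact inv_mem (mul_mem hh'.1 hh.1)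

/-- `O(H ⊥ H ⊥ W)` is generated by reflections, provided the fixer of the two hyperbolic planes
is, and `W` has a non-singular vector. Any characteristic, any field. -/
theorem reflGroup_eq_top {e₁ f₁ e₂ f₂ : V} (he₁ : Q e₁ = 0) (hf₁ : Q f₁ = 0)
    (hef₁ : polar Q e₁ f₁ = 1) (he₂ : Q e₂ = 0) (hf₂ : Q f₂ = 0) (hef₂ : polar Q e₂ f₂ = 1)
    (hee : polar Q e₁ e₂ = 0) (heff : polar Q e₁ f₂ = 0) (hfe : polar Q f₁ e₂ = 0)
    (hff : polar Q f₁ f₂ = 0)
    (hnd : ∀ x, (∀ y, polar Q x y = 0) → x = 0)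
    (hns : ∃ w, polar Q e₁ w = 0 ∧ polar Q f₁ w = 0 ∧ polar Q e₂ w = 0 ∧ polar Q f₂ w = 0 ∧
      Q w ≠ 0)
    (hC : fixer Q ({e₁, f₁} ∪ {e₂, f₂}) ≤ reflGroup Q) : reflGroup Q = ⊤ := by
  obtain ⟨w₁, hw1, hw2, hw3, hw4, hw5⟩ := hns
  rw [eq_top_iff]
  intro g _
  have he₂e₁ : polar Q e₂ e₁ = 0 := by rw [QuadraticMap.polar_comm]; exact hee
  have he₂f₁ : polar Q e₂ f₁ = 0 := by rw [QuadraticMap.polar_comm]; exact hfe
  have hf₂e₁ : polar Q f₂ e₁ = 0 := by rw [QuadraticMap.polar_comm]; exact heff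
  have hf₂f₁ : polar Q f₂ f₁ = 0 := by rw [QuadraticMap.polar_comm]; exact hff
  have hfe₁ : polar Q f₁ e₁ = 1 := by rw [QuadraticMap.polar_comm]; exact hef₁
  have hfe₂ : polar Q f₂ e₂ = 1 := by rw [QuadraticMap.polar_comm]; exact hef₂
  have hQ2 : Q (e₂ + f₂) = 1 := by rw [Q_add, he₂, hf₂, hef₂]; ring
  have hQ1 : Q (e₁ + f₁) = 1 := by rw [Q_add, he₁, hf₁, hef₁]; ring
  -- Siegel transformations on `e₁`, `f₁`
  have hex : ∀ w, polar Q e₁ w = 0 → polar Q f₁ w = 0 →
      ∃ w', polar Q e₁ w' = 0 ∧ polar Q f₁ w' = 0 ∧ polar Q w w' = 0 ∧ Q w' ≠ 0 := by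
    intro w hwe hwf
    by_cases hx : polar Q w f₂ = 0
    · by_cases hy : polar Q w e₂ = 0
      · refine ⟨e₂ + f₂, ?_, ?_, ?_, ?_⟩
        · rw [QuadraticMap.polar_add_right, hee, heff, add_zero]
        · rw [QuadraticMap.polar_add_right, hfe, hff, add_zero]
        · rw [QuadraticMap.polar_add_right, hx, hy, add_zero]
        · rw [hQ2]; exact one_ne_zero
      · refine ⟨w₁ - (polar Q w w₁ / polar Q w e₂) • e₂, ?_, ?_, ?_, ?_⟩
        · rw [polar_sub_right', polar_smul_right', hee, hw1]; ring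
        · rw [polar_sub_right', polar_smul_right', hfe, hw2]; ring
        · rw [polar_sub_right', polar_smul_right', div_mul_cancel₀ _ hy, sub_self]
        · rw [Q_sub, Q_smul, he₂, polar_smul_right', QuadraticMap.polar_comm Q w₁ e₂, hw3]
          simpa using hw5
    · refine ⟨w₁ - (polar Q w w₁ / polar Q w f₂) • f₂, ?_, ?_, ?_, ?_⟩
      · rw [polar_sub_right', polar_smul_right', heff, hw1]; ring
      · rw [polar_sub_right', polar_smul_right', hff, hw2]; ring
      · rw [polar_sub_right', polar_smul_right', div_mul_cancel₀ _ hx, sub_self]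
      · rw [Q_sub, Q_smul, hf₂, polar_smul_right', QuadraticMap.polar_comm Q w₁ f₂, hw4]
        simpa using hw5
  have hS₁e : ∀ w, InW Q ∅ e₁ f₁ w → HasSiegel Q e₁ w := by
    intro w hw
    obtain ⟨w', h1, h2, h3, h4⟩ := hex w hw.2.1 hw.2.2
    exact hasSiegel_of_exists Q he₁ hw.2.1 ⟨w', h1, h3, h4⟩
  have hS₁f : ∀ w, InW Q ∅ e₁ f₁ w → HasSiegel Q f₁ w := by
    intro w hw
    obtain ⟨w', h1, h2, h3, h4⟩ := hex w hw.2.1 hw.2.2
    exact hasSiegel_of_exists Q hf₁ hw.2.2 ⟨w', h2, h3, h4⟩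
  have hnd₁ : ∀ w, InW Q ∅ e₁ f₁ w → w ≠ 0 → ∃ w', InW Q ∅ e₁ f₁ w' ∧ polar Q w w' ≠ 0 := by
    intro w hw hw0
    by_contra hcon
    push Not at hcon
    apply hw0
    apply hnd
    intro y
    have h1 := hcon _ (inW_comp Q (C := ∅) he₁ hf₁ hef₁ (by simp) (by simp) (u := y) (by simp))
    rw [polar_sub_right', polar_sub_right', polar_smul_right', polar_smul_right',
      QuadraticMap.polar_comm Q w e₁, QuadraticMap.polar_comm Q w f₁, hw.2.1, hw.2.2] at h1
    linear_combination h1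
  obtain ⟨h, hh, hhg⟩ := step he₁ hf₁ hef₁ (C := ∅) (by simp) (by simp) hS₁e hS₁f hnd₁
    ⟨w₁, ⟨by simp, hw1, hw2⟩, hw5⟩ g (by intro c hc; exact absurd hc (by simp))
  rw [Set.empty_union] at hhg
  -- second pair
  have hCe : ∀ c ∈ ({e₁, f₁} : Set V), polar Q c e₂ = 0 := by
    rintro c (rfl | hc)
    · exact hee
    · rw [Set.mem_singleton_iff.mp hc]; exact hfe
  have hCf : ∀ c ∈ ({e₁, f₁} : Set V), polar Q c f₂ = 0 := by
    rintro c (rfl | hc)
    · exact heff
    · rw [Set.mem_singleton_iff.mp hc]; exact hff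
  have hperp1 : ∀ w, InW Q {e₁, f₁} e₂ f₂ w → polar Q w (e₁ + f₁) = 0 := by
    intro w hw
    rw [QuadraticMap.polar_comm, QuadraticMap.polar_add_left, hw.1 e₁ (by simp),
      hw.1 f₁ (by simp), add_zero]
  have hS₂e : ∀ w, InW Q {e₁, f₁} e₂ f₂ w → HasSiegel Q e₂ w := by
    intro w hw
    refine hasSiegel_of_exists Q he₂ hw.2.1 ⟨e₁ + f₁, ?_, hperp1 w hw, ?_⟩
    · rw [QuadraticMap.polar_add_right, he₂e₁, he₂f₁, add_zero]
    · rw [hQ1]; exact one_ne_zero
  have hS₂f : ∀ w, InW Q {e₁, f₁} e₂ f₂ w → HasSiegel Q f₂ w := by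
    intro w hw
    refine hasSiegel_of_exists Q hf₂ hw.2.2 ⟨e₁ + f₁, ?_, hperp1 w hw, ?_⟩
    · rw [QuadraticMap.polar_add_right, hf₂e₁, hf₂f₁, add_zero]
    · rw [hQ1]; exact one_ne_zero
  have hnd₂ : ∀ w, InW Q {e₁, f₁} e₂ f₂ w → w ≠ 0 →
      ∃ w', InW Q {e₁, f₁} e₂ f₂ w' ∧ polar Q w w' ≠ 0 := by
    intro w hw hw0
    by_contra hcon
    push Not at hcon
    apply hw0
    apply hnd
    intro y
    have hwe₁ : polar Q e₁ w = 0 := hw.1 e₁ (by simp)
    have hwf₁ : polar Q f₁ w = 0 := hw.1 f₁ (by simp)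
    set y' := y - polar Q y f₁ • e₁ - polar Q y e₁ • f₁ with hy'
    have h0 := inW_comp Q (C := ∅) he₁ hf₁ hef₁ (by simp) (by simp) (u := y) (by simp)
    rw [← hy'] at h0
    have h1 := hcon _ (inW_comp Q (C := {e₁, f₁}) he₂ hf₂ hef₂ hCe hCf (u := y') (by
      rintro c (rfl | hc)
      · exact h0.2.1
      · rw [Set.mem_singleton_iff.mp hc]; exact h0.2.2))
    rw [polar_sub_right', polar_sub_right', polar_smul_right', polar_smul_right',
      QuadraticMap.polar_comm Q w e₂, QuadraticMap.polar_comm Q w f₂, hw.2.1, hw.2.2, hy',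
      polar_sub_right', polar_sub_right', polar_smul_right', polar_smul_right',
      QuadraticMap.polar_comm Q w e₁, QuadraticMap.polar_comm Q w f₁, hwe₁, hwf₁] at h1
    linear_combination h1
  obtain ⟨k, hk, hkg⟩ := step he₂ hf₂ hef₂ hCe hCf hS₂e hS₂f hnd₂
    ⟨w₁, ⟨by
      rintro c (rfl | hc)
      · exact hw1
      · rw [Set.mem_singleton_iff.mp hc]; exact hw2, hw3, hw4⟩, hw5⟩ (h * g) hhg
  have h9 := hC hkg
  have h10 : g = (k * h)⁻¹ * (k * (h * g)) := by group
  rw [h10]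
  exact mul_mem (inv_mem (mul_mem hk.1 hh.1)) h9

end Cfsg.Agent.LieClassical.ReflGen
end

-- part: LieClassical/SixModel
section
set_option autoImplicit false

/-!
An abstract form of the argument identifying `Ω` of a quadratic space of matrices `S v` with
`S v * T v = -Q v` with a matrix group acting by `X ↦ g X gᵀ`.
-/

namespace Cfsg.Agent.LieClassical.SixModel

open QuadraticMap Matrix Cfsg.Agent.LieClassical.ReflGen

section Model

variable {F V K : Type*} [Field F] [AddCommGroup V] [Module F V] [Field K]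
  {n : Type*} [Fintype n] [DecidableEq n]
  {Q : QuadraticForm F V} {ι : F →+* K} {S T : V → Matrix n n K}

/-- The hypotheses on the pair `S`, `T`. -/
structure IsPair (Q : QuadraticForm F V) (ι : F →+* K) (S T : V → Matrix n n K) : Prop where
  Sadd : ∀ x y, S (x + y) = S x + S y
  Ssmul : ∀ (c : F) x, S (c • x) = ι c • S x
  Tadd : ∀ x y, T (x + y) = T x + T y
  Tsmul : ∀ (c : F) x, T (c • x) = ι c • T x
  Sinj : Function.Injective S
  ST : ∀ x, S x * T x = (-ι (Q x)) • (1 : Matrix n n K)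
  TS : ∀ x, T x * S x = (-ι (Q x)) • (1 : Matrix n n K)
  Str : ∀ x, (S x)ᵀ = -S x
  Ttr : ∀ x, (T x)ᵀ = -T x

variable (P : IsPair Q ι S T)
include P

theorem ST_polar (x y : V) : S x * T y + S y * T x = (-ι (polar Q x y)) • (1 : Matrix n n K) := by
  have h := P.ST (x + y)
  rw [P.Sadd, P.Tadd, Matrix.add_mul, Matrix.mul_add, Matrix.mul_add, P.ST x, P.ST y,
    Q_add, map_add, map_add] at h
  have h2 : S x * T y + S y * T x = (-ι (Q x)) • (1 : Matrix n n K) + S x * T y
      + (S y * T x + (-ι (Q y)) • (1 : Matrix n n K)) - (-ι (Q x)) • (1 : Matrix n n K)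
      - (-ι (Q y)) • (1 : Matrix n n K) := by abel
  rw [h2, h]
  module

theorem TS_polar (x y : V) : T x * S y + T y * S x = (-ι (polar Q x y)) • (1 : Matrix n n K) := by
  have h := P.TS (x + y)
  rw [P.Sadd, P.Tadd, Matrix.add_mul, Matrix.mul_add, Matrix.mul_add, P.TS x, P.TS y,
    Q_add, map_add, map_add] at h
  have h2 : T x * S y + T y * S x = (-ι (Q x)) • (1 : Matrix n n K) + T x * S y
      + (T y * S x + (-ι (Q y)) • (1 : Matrix n n K)) - (-ι (Q x)) • (1 : Matrix n n K)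
      - (-ι (Q y)) • (1 : Matrix n n K) := by abel
  rw [h2, h]
  module

theorem S_sub (x y : V) : S (x - y) = S x - S y := by
  have h := P.Sadd (x - y) y
  rw [sub_add_cancel] at h
  rw [h]; abel

theorem T_sub (x y : V) : T (x - y) = T x - T y := by
  have h := P.Tadd (x - y) y
  rw [sub_add_cancel] at h
  rw [h]; abel

theorem S_refl {a : V} (ha : Q a ≠ 0) (x : V) :
    S ((refl Q a ha : V ≃ₗ[F] V) x) = (ι (Q a))⁻¹ • (S a * T x * S a) := by
  have hι : ι (Q a) ≠ 0 := (map_ne_zero ι).mpr ha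
  rw [refl_apply, S_sub P, P.Ssmul, map_mul, map_inv₀]
  have h1 : S a * T x = (-ι (polar Q a x)) • (1 : Matrix n n K) - S x * T a := by
    rw [← ST_polar P a x]; abel
  rw [h1, Matrix.sub_mul, Matrix.mul_assoc, P.TS, Matrix.smul_mul, Matrix.one_mul,
    Matrix.mul_smul, Matrix.mul_one, smul_sub, smul_smul, smul_smul]
  have h2 : (ι (Q a))⁻¹ * -ι (Q a) = -1 := by field_simp
  rw [h2]
  module

theorem T_refl {a : V} (ha : Q a ≠ 0) (x : V) :
    T ((refl Q a ha : V ≃ₗ[F] V) x) = (ι (Q a))⁻¹ • (T a * S x * T a) := by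
  have hι : ι (Q a) ≠ 0 := (map_ne_zero ι).mpr ha
  rw [refl_apply, T_sub P, P.Tsmul, map_mul, map_inv₀]
  have h1 : T a * S x = (-ι (polar Q a x)) • (1 : Matrix n n K) - T x * S a := by
    rw [← TS_polar P a x]; abel
  rw [h1, Matrix.sub_mul, Matrix.mul_assoc, P.ST, Matrix.smul_mul, Matrix.one_mul,
    Matrix.mul_smul, Matrix.mul_one, smul_sub, smul_smul, smul_smul]
  have h2 : (ι (Q a))⁻¹ * -ι (Q a) = -1 := by field_simp
  rw [h2]
  module

/-- The hypotheses on the group. -/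
structure IsAction {G : Type*} [Group G] (Q : QuadraticForm F V) (ι : F →+* K)
    (S T : V → Matrix n n K) (ρ : G →* Matrix n n K) (φ : G →* orth (Q : V → F)) : Prop where
  hS : ∀ g x, S ((φ g : V ≃ₗ[F] V) x) = ρ g * S x * (ρ g)ᵀ
  hT : ∀ g x, T ((φ g : V ≃ₗ[F] V) x) = (ρ g⁻¹)ᵀ * T x * ρ g⁻¹
  h1 : ∀ a, Q a ≠ 0 → ∀ g, ∃ g', ρ g' = (ι (Q a))⁻¹ • (S a * (ρ g⁻¹)ᵀ * T a)
  h2 : ∀ a b, Q a ≠ 0 → Q b ≠ 0 →
    ∃ g', ρ g' = (ι (Q a) * ι (Q b))⁻¹ • (S a * T b * (S a * T b))

variable {G : Type*} [Group G] {ρ : G →* Matrix n n K} {φ : G →* orth (Q : V → F)}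
  (A : IsAction Q ι S T ρ φ)
include A

theorem refl_conj_mem {a : V} (ha : Q a ≠ 0) (g : G) :
    refl Q a ha * φ g * (refl Q a ha)⁻¹ ∈ φ.range := by
  have hι : ι (Q a) ≠ 0 := (map_ne_zero ι).mpr ha
  obtain ⟨g', hg'⟩ := A.h1 a ha g
  refine ⟨g', ?_⟩
  have hinv : (refl Q a ha)⁻¹ = refl Q a ha := inv_eq_of_mul_eq_one_left (refl_mul_self Q a ha)
  rw [hinv]
  apply Subtype.ext
  apply LinearEquiv.ext
  intro x
  apply P.Sinj
  show S ((φ g' : V ≃ₗ[F] V) x) = S ((refl Q a ha : V ≃ₗ[F] V) ((φ g : V ≃ₗ[F] V)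
    ((refl Q a ha : V ≃ₗ[F] V) x)))
  rw [A.hS, hg', S_refl P, A.hT, T_refl P]
  simp only [Matrix.transpose_smul, Matrix.transpose_mul, Matrix.transpose_transpose, P.Str,
    P.Ttr, Matrix.smul_mul, Matrix.mul_smul, Matrix.neg_mul, Matrix.mul_neg, neg_neg,
    Matrix.mul_assoc]

theorem refl_sq_mem {a b : V} (ha : Q a ≠ 0) (hb : Q b ≠ 0) :
    (refl Q a ha * refl Q b hb) * (refl Q a ha * refl Q b hb) ∈ φ.range := by
  obtain ⟨g', hg'⟩ := A.h2 a b ha hb
  refine ⟨g', ?_⟩
  apply Subtype.ext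
  apply LinearEquiv.ext
  intro x
  apply P.Sinj
  show S ((φ g' : V ≃ₗ[F] V) x) = S ((refl Q a ha : V ≃ₗ[F] V) ((refl Q b hb : V ≃ₗ[F] V)
    ((refl Q a ha : V ≃ₗ[F] V) ((refl Q b hb : V ≃ₗ[F] V) x))))
  rw [A.hS, hg', S_refl P, T_refl P, S_refl P, T_refl P]
  simp only [Matrix.transpose_smul, Matrix.transpose_mul, P.Str,
    P.Ttr, Matrix.smul_mul, Matrix.mul_smul, Matrix.neg_mul, Matrix.mul_neg, neg_neg,
    Matrix.mul_assoc, smul_smul]
  congr 1
  rw [mul_inv]
  ring

omit P A [Fintype n] [DecidableEq n] in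
theorem comm_of_closure {A : Type*} [Group A] {s : Set A} (hs : Subgroup.closure s = ⊤)
    (h : ∀ x ∈ s, ∀ y ∈ s, x * y = y * x) (x y : A) : x * y = y * x := by
  have h1 : ∀ y ∈ s, y ∈ Subgroup.center A := by
    intro y hy
    have h2 : Subgroup.closure s ≤ Subgroup.centralizer {y} := by
      rw [Subgroup.closure_le]
      intro x hx
      rw [SetLike.mem_coe, Subgroup.mem_centralizer_iff]
      intro z hz
      rw [Set.mem_singleton_iff.mp hz]
      exact (h x hx y hy).symm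
    rw [Subgroup.mem_center_iff]
    intro g
    have h3 : g ∈ Subgroup.centralizer {y} := h2 (by rw [hs]; trivial)
    exact (Subgroup.mem_centralizer_iff.mp h3 y rfl).symm
  have h4 : Subgroup.closure s ≤ Subgroup.center A := by
    rw [Subgroup.closure_le]; exact h1
  have h5 : y ∈ Subgroup.center A := h4 (by rw [hs]; trivial)
  exact Subgroup.mem_center_iff.mp h5 x

/-- If reflections generate, then the commutator subgroup lies in the image of `G`. -/
theorem commutator_le_range (hgen : reflGroup Q = ⊤) :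
    commutator (orth (Q : V → F)) ≤ φ.range := by
  have hnorm : φ.range.Normal := by
    rw [← Subgroup.normalizer_eq_top_iff, eq_top_iff, ← hgen, reflGroup, Subgroup.closure_le]
    rintro r ⟨a, ha, rfl⟩
    rw [SetLike.mem_coe, Subgroup.mem_normalizer_iff]
    have hinv : (refl Q a ha)⁻¹ = refl Q a ha := inv_eq_of_mul_eq_one_left (refl_mul_self Q a ha)
    have h1 : ∀ h ∈ φ.range, refl Q a ha * h * (refl Q a ha)⁻¹ ∈ φ.range := by
      rintro _ ⟨g, rfl⟩
      exact refl_conj_mem P A ha g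
    intro h
    refine ⟨h1 h, fun h2 => ?_⟩
    have h3 := h1 _ h2
    rw [hinv] at h3
    have h4 : refl Q a ha * (refl Q a ha * h * refl Q a ha) * refl Q a ha = h := by
      have := refl_mul_self Q a ha
      calc _ = (refl Q a ha * refl Q a ha) * h * (refl Q a ha * refl Q a ha) := by group
        _ = h := by rw [this]; simp
    rwa [h4] at h3
  let π := QuotientGroup.mk' φ.range
  have hπ : Function.Surjective π := QuotientGroup.mk'_surjective _
  have hcl : Subgroup.closure (π '' reflSet Q) = ⊤ := by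
    rw [← MonoidHom.map_closure]
    show (reflGroup Q).map π = ⊤
    rw [hgen]
    exact Subgroup.map_top_of_surjective π hπ
  have hcomm : ∀ x ∈ π '' reflSet Q, ∀ y ∈ π '' reflSet Q, x * y = y * x := by
    rintro _ ⟨_, ⟨a, ha, rfl⟩, rfl⟩ _ ⟨_, ⟨b, hb, rfl⟩, rfl⟩
    rw [← map_mul, ← map_mul]
    apply QuotientGroup.eq.mpr
    have hinva : (refl Q a ha)⁻¹ = refl Q a ha := inv_eq_of_mul_eq_one_left (refl_mul_self Q a ha)
    have hinvb : (refl Q b hb)⁻¹ = refl Q b hb := inv_eq_of_mul_eq_one_left (refl_mul_self Q b hb)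
    rw [_root_.mul_inv_rev, hinva, hinvb]
    exact refl_sq_mem P A hb ha
  rw [commutator_def, Subgroup.commutator_le]
  intro x _ y _
  rw [← QuotientGroup.eq_one_iff]
  change π _ = 1
  rw [map_commutatorElement, commutatorElement_eq_one_iff_mul_comm]
  exact comm_of_closure hcl hcomm _ _

/-- The main abstract theorem. -/
theorem omega_quotient_equiv (hgen : reflGroup Q = ⊤) (hG : commutator G = ⊤)
    (hker : φ.ker ≤ Subgroup.center G) :
    Nonempty (commutator (orth (Q : V → F)) ⧸ Subgroup.center (commutator (orth (Q : V → F)))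
      ≃* G ⧸ Subgroup.center G) := by
  have hrange : φ.range = commutator (orth (Q : V → F)) := by
    apply le_antisymm _ (commutator_le_range P A hgen)
    rw [MonoidHom.range_eq_map, ← hG, commutator_def, commutator_def, Subgroup.map_commutator]
    exact Subgroup.commutator_mono le_top le_top
  have hmem : ∀ g, φ g ∈ commutator (orth (Q : V → F)) := by
    intro g; rw [← hrange]; exact ⟨g, rfl⟩
  let ψ : G →* commutator (orth (Q : V → F)) := φ.codRestrict _ hmem
  have hψ : Function.Surjective ψ := by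
    rintro ⟨x, hx⟩
    rw [← hrange] at hx
    obtain ⟨g, hg⟩ := hx
    exact ⟨g, Subtype.ext hg⟩
  have hk : ψ.ker ≤ Subgroup.center G := by
    intro g hg
    apply hker
    rw [MonoidHom.mem_ker] at hg ⊢
    exact congrArg Subtype.val hg
  obtain ⟨e⟩ := Grun.quotient_center_equiv hG ψ hψ hk
  exact ⟨e.symm⟩

end Model

/-- The isometry group of the Prelude is the isometry group here. -/
noncomputable def isometryEquiv {ι : Type} [Fintype ι] [DecidableEq ι] {F : Type*} [Field F]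
    (Q : (ι → F) → F) : Cfsg.isometryGroup F Q ≃* orth Q where
  toFun g := ⟨(LinearMap.GeneralLinearGroup.generalLinearEquiv F (ι → F))
    (Matrix.GeneralLinearGroup.toLin (g : GL ι F)), fun v => g.2 v v⟩
  invFun g := ⟨Matrix.GeneralLinearGroup.toLin.symm
    ((LinearMap.GeneralLinearGroup.generalLinearEquiv F (ι → F)).symm (g : _ ≃ₗ[F] _)), by
      intro u v
      have h := g.2 u
      have h2 : ((Units.coeHom (Matrix ι ι F)) (Matrix.GeneralLinearGroup.toLin.symm
        ((LinearMap.GeneralLinearGroup.generalLinearEquiv F (ι → F)).symm (g : _ ≃ₗ[F] _)))) *ᵥ u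
        = (g : (ι → F) ≃ₗ[F] (ι → F)) u := by
        show (LinearMap.toMatrix' _) *ᵥ u = _
        rw [LinearMap.toMatrix'_mulVec]
        rfl
      show Q _ = Q _
      rw [h2]
      exact h⟩
  left_inv g := by
    apply Subtype.ext
    simp
  right_inv g := by
    apply Subtype.ext
    simp
  map_mul' g h := by
    apply Subtype.ext
    simp

/-- Central quotients of commutator subgroups of isomorphic groups are isomorphic. -/
theorem commutator_center_congr {G H : Type*} [Group G] [Group H] (e : G ≃* H) :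
    Nonempty (commutator G ⧸ Subgroup.center (commutator G) ≃*
      commutator H ⧸ Subgroup.center (commutator H)) := by
  obtain ⟨f⟩ := Grun.commutator_quotient_center_congr e
  refine ⟨QuotientGroup.congr _ _ f ?_⟩
  ext x
  rw [Subgroup.mem_map]
  constructor
  · rintro ⟨y, hy, rfl⟩
    rw [Subgroup.mem_center_iff] at hy ⊢
    intro z
    obtain ⟨z, rfl⟩ := f.surjective z
    show f z * f y = f y * f z
    rw [← map_mul, hy z, map_mul]
  · intro hx
    refine ⟨f.symm x, ?_, f.apply_symm_apply x⟩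
    rw [Subgroup.mem_center_iff] at hx ⊢
    intro z
    apply f.injective
    rw [map_mul, map_mul, f.apply_symm_apply]
    exact hx (f z)

end Cfsg.Agent.LieClassical.SixModel
end

-- part: LieClassical/KleinPlus
section
set_option autoImplicit false

/-!
`PΩ⁺₆(F) ≅ PSL₄(F)` over every field.
-/

namespace Cfsg.Agent.LieClassical.KleinPlus

open QuadraticMap Matrix Cfsg.Agent.LieClassical.ReflGen Cfsg.Agent.LieClassical.KleinSix
  Cfsg.Agent.LieClassical.SixModel

variable {F : Type*} [Field F]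

/-- The hyperbolic quadratic form in dimension 6. -/
def plusForm (F : Type*) [Field F] : QuadraticForm F (Fin 3 ⊕ Fin 3 → F) :=
  linMulLin (LinearMap.proj (Sum.inl 0)) (LinearMap.proj (Sum.inr 0))
    + linMulLin (LinearMap.proj (Sum.inl 1)) (LinearMap.proj (Sum.inr 1))
    + linMulLin (LinearMap.proj (Sum.inl 2)) (LinearMap.proj (Sum.inr 2))

theorem plusForm_apply (v : Fin 3 ⊕ Fin 3 → F) : plusForm F v = pf v := rfl

theorem coe_plusForm : (plusForm F : (Fin 3 ⊕ Fin 3 → F) → F) = Cfsg.quadFormPlus 3 F := by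
  funext v
  rw [plusForm_apply, quadFormPlus_eq_pf]

theorem polar_plusForm (u v : Fin 3 ⊕ Fin 3 → F) : polar (plusForm F) u v =
    u (.inl 0) * v (.inr 0) + u (.inr 0) * v (.inl 0) + u (.inl 1) * v (.inr 1)
      + u (.inr 1) * v (.inl 1) + u (.inl 2) * v (.inr 2) + u (.inr 2) * v (.inl 2) := by
  simp only [polar, plusForm_apply, pf, Pi.add_apply]
  ring

/-- The standard basis vectors. -/
abbrev bv (i : Fin 3 ⊕ Fin 3) : Fin 3 ⊕ Fin 3 → F := Pi.single i 1

theorem span_bv : Submodule.span F (Set.range (bv : Fin 3 ⊕ Fin 3 → Fin 3 ⊕ Fin 3 → F)) = ⊤ := by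
  have := (Pi.basisFun F (Fin 3 ⊕ Fin 3)).span_eq
  rw [← this]
  congr 1
  ext v
  simp [bv]

theorem reflGroup_plus : reflGroup (plusForm F) = ⊤ := by
  have hnd : ∀ x : Fin 3 ⊕ Fin 3 → F, (∀ y, polar (plusForm F) x y = 0) → x = 0 := by
    intro x hx
    funext i
    rcases i with i | i <;> fin_cases i
    · simpa [polar_plusForm, bv] using hx (bv (.inr 0))
    · simpa [polar_plusForm, bv] using hx (bv (.inr 1))
    · simpa [polar_plusForm, bv] using hx (bv (.inr 2))
    · simpa [polar_plusForm, bv] using hx (bv (.inl 0))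
    · simpa [polar_plusForm, bv] using hx (bv (.inl 1))
    · simpa [polar_plusForm, bv] using hx (bv (.inl 2))
  have hb : ∀ i : Fin 3 ⊕ Fin 3, plusForm F (bv i) = 0 := by
    intro i
    rcases i with i | i <;> fin_cases i <;> simp [plusForm_apply, pf, bv]
  have hspan : Submodule.span F (({bv (.inl 0), bv (.inr 0)} ∪ {bv (.inl 1), bv (.inr 1)}) ∪
      {bv (.inl 2), bv (.inr 2)} : Set (Fin 3 ⊕ Fin 3 → F)) = ⊤ := by
    rw [← span_bv]
    congr 1
    ext v
    constructor
    · rintro (((h | h) | (h | h)) | (h | h)) <;> exact ⟨_, h.symm⟩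
    · rintro ⟨i, rfl⟩
      rcases i with i | i <;> fin_cases i <;> simp
  refine ReflGen.reflGroup_eq_top (plusForm F) (e₁ := bv (.inl 0)) (f₁ := bv (.inr 0))
    (e₂ := bv (.inl 1)) (f₂ := bv (.inr 1)) (hb _) (hb _) ?_ (hb _) (hb _) ?_ ?_ ?_ ?_ ?_ hnd ?_ ?_
  any_goals simp [polar_plusForm, bv]
  · refine ⟨bv (.inl 2) + bv (.inr 2), ?_⟩
    simp [plusForm_apply, pf, bv]
  · refine fixer_le_of_hyperbolic (plusForm F) (e := bv (.inl 2)) (f := bv (.inr 2)) (hb _) (hb _)
      ?_ ?_ ?_ hnd ?_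
    · simp [polar_plusForm, bv]
    · rintro c (h | h | h | h) <;> (subst h; simp [polar_plusForm, bv])
    · rintro c (h | h | h | h) <;> (subst h; simp [polar_plusForm, bv])
    · have := hspan
      simpa [Set.union_comm, Set.insert_union] using this

/-- `g ∈ SL₄(F)` as an isometry. -/
noncomputable def phi : Matrix.SpecialLinearGroup (Fin 4) F →*
    orth (plusForm F : (Fin 3 ⊕ Fin 3 → F) → F) where
  toFun g := ⟨LinearEquiv.ofLinearMap
      { toFun := act (g : Matrix (Fin 4) (Fin 4) F)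
        map_add' := act_add _
        map_smul' := act_smul _ }
      { toFun := act ((g⁻¹ : Matrix.SpecialLinearGroup (Fin 4) F) : Matrix (Fin 4) (Fin 4) F)
        map_add' := act_add _
        map_smul' := act_smul _ }
      (by
        apply LinearMap.ext
        intro x
        show act _ (act _ x) = x
        rw [← act_mul, ← Matrix.SpecialLinearGroup.coe_mul, mul_inv_cancel,
          Matrix.SpecialLinearGroup.coe_one, act_one])
      (by
        apply LinearMap.ext
        intro x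
        show act _ (act _ x) = x
        rw [← act_mul, ← Matrix.SpecialLinearGroup.coe_mul, inv_mul_cancel,
          Matrix.SpecialLinearGroup.coe_one, act_one]), by
      intro v
      show pf (act _ v) = pf v
      rw [pf_act, g.2, one_mul]⟩
  map_one' := by
    apply Subtype.ext
    apply LinearEquiv.ext
    intro x
    show act _ x = x
    rw [Matrix.SpecialLinearGroup.coe_one, act_one]
  map_mul' g h := by
    apply Subtype.ext
    apply LinearEquiv.ext
    intro x
    show act _ x = act _ (act _ x)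
    rw [Matrix.SpecialLinearGroup.coe_mul, act_mul]

theorem phi_apply (g : Matrix.SpecialLinearGroup (Fin 4) F) (x : Fin 3 ⊕ Fin 3 → F) :
    (phi g : (Fin 3 ⊕ Fin 3 → F) ≃ₗ[F] (Fin 3 ⊕ Fin 3 → F)) x
      = act (g : Matrix (Fin 4) (Fin 4) F) x := rfl

theorem isPair : IsPair (plusForm F) (RingHom.id F) (sk : (Fin 3 ⊕ Fin 3 → F) → _)
    (fun v => sk (hodge v)) where
  Sadd := sk_add
  Ssmul := sk_smul
  Tadd x y := by rw [hodge_add, sk_add]
  Tsmul c x := by rw [hodge_smul, sk_smul]; rfl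
  Sinj := sk_injective
  ST x := sk_mul_hodge x
  TS x := hodge_mul_sk x
  Str := transpose_sk
  Ttr x := transpose_sk _

/-- `SL₄` to matrices. -/
def rho : Matrix.SpecialLinearGroup (Fin 4) F →* Matrix (Fin 4) (Fin 4) F where
  toFun g := (g : Matrix (Fin 4) (Fin 4) F)
  map_one' := Matrix.SpecialLinearGroup.coe_one
  map_mul' := Matrix.SpecialLinearGroup.coe_mul

/-- `T` of the action, for matrices of determinant 1. -/
theorem sk_hodge_act {g h : Matrix (Fin 4) (Fin 4) F} (hg : g.det = 1) (hgh : g * h = 1)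
    (v : Fin 3 ⊕ Fin 3 → F) : sk (hodge (act g v)) = hᵀ * sk (hodge v) * h := by
  have h1 := hodge_act g v
  rw [hg, one_smul] at h1
  have h2 : hᵀ * gᵀ = 1 := by rw [← Matrix.transpose_mul, hgh, Matrix.transpose_one]
  calc sk (hodge (act g v)) = (hᵀ * gᵀ) * sk (hodge (act g v)) * (g * h) := by
        rw [h2, hgh, Matrix.one_mul, Matrix.mul_one]
    _ = hᵀ * (gᵀ * sk (hodge (act g v)) * g) * h := by simp only [Matrix.mul_assoc]
    _ = hᵀ * sk (hodge v) * h := by rw [h1]

theorem det_one (a : Fin 3 ⊕ Fin 3 → F) (ha : pf a ≠ 0) {h : Matrix (Fin 4) (Fin 4) F}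
    (hh : h.det = 1) : ((pf a)⁻¹ • (sk a * hᵀ * sk (hodge a))).det = 1 := by
  rw [Matrix.det_smul, Matrix.det_mul, Matrix.det_mul, det_sk, det_sk, pf_hodge,
    Matrix.det_transpose, hh, Fintype.card_fin]
  field_simp

theorem det_two (a b : Fin 3 ⊕ Fin 3 → F) (ha : pf a ≠ 0) (hb : pf b ≠ 0) :
    ((pf a * pf b)⁻¹ • (sk a * sk (hodge b) * (sk a * sk (hodge b)))).det = 1 := by
  rw [Matrix.det_smul, Matrix.det_mul, Matrix.det_mul, det_sk, det_sk, pf_hodge,
    Fintype.card_fin]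
  field_simp

theorem isAction : IsAction (plusForm F) (RingHom.id F) (sk : (Fin 3 ⊕ Fin 3 → F) → _)
    (fun v => sk (hodge v)) rho phi where
  hS g x := sk_act _ x
  hT g x := by
    apply sk_hodge_act g.2
    show (g : Matrix (Fin 4) (Fin 4) F) * ((g⁻¹ : Matrix.SpecialLinearGroup (Fin 4) F) :
      Matrix (Fin 4) (Fin 4) F) = 1
    rw [← Matrix.SpecialLinearGroup.coe_mul, mul_inv_cancel, Matrix.SpecialLinearGroup.coe_one]
  h1 a ha g := ⟨⟨_, det_one a ha (h := rho g⁻¹) (g⁻¹).2⟩, rfl⟩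
  h2 a b ha hb := ⟨⟨_, det_two a b ha hb⟩, rfl⟩

theorem ker_le : (phi (F := F)).ker ≤ Subgroup.center _ := by
  intro g hg
  have h1 : ∀ v : Fin 3 ⊕ Fin 3 → F, act (g : Matrix (Fin 4) (Fin 4) F) v = v := by
    intro v
    have h2 := congrArg (fun k : orth (plusForm F : (Fin 3 ⊕ Fin 3 → F) → F) =>
      (k : (Fin 3 ⊕ Fin 3 → F) ≃ₗ[F] (Fin 3 ⊕ Fin 3 → F)) v) (MonoidHom.mem_ker.mp hg)
    exact h2
  obtain ⟨c, hc⟩ := scalar_of_act_eq g.2 h1
  rw [Subgroup.mem_center_iff]
  intro h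
  apply Subtype.ext
  show (h : Matrix (Fin 4) (Fin 4) F) * (g : Matrix (Fin 4) (Fin 4) F)
    = (g : Matrix (Fin 4) (Fin 4) F) * (h : Matrix (Fin 4) (Fin 4) F)
  rw [hc]
  exact ((Matrix.scalar_commute c (fun r => Commute.all _ _) _).symm).eq

theorem nonempty_equiv : Nonempty (Cfsg.POmega F (Cfsg.quadFormPlus 3 F) ≃*
    Matrix.ProjectiveSpecialLinearGroup (Fin 4) F) := by
  obtain ⟨e₁⟩ := omega_quotient_equiv isPair isAction (reflGroup_plus (F := F))
    (SLGen.commutator_eq_top (by simp)) ker_le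
  have e₀ := isometryEquiv (Cfsg.quadFormPlus 3 F)
  rw [← coe_plusForm] at e₀ ⊢
  obtain ⟨e₂⟩ := commutator_center_congr e₀
  exact ⟨e₂.trans e₁⟩

end Cfsg.Agent.LieClassical.KleinPlus
end
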