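import Cfsg.Agent.LieClassical.OrthForms
import Cfsg.Agent.LieClassical.KleinPlus
import Cfsg.Agent.LieClassical.HermPerfect
set_option linter.all false

-- part: LieClassical/KleinMinusGen
section
set_option autoImplicit false

/-!
The isometry group of the minus type form in dimension 6 is generated by reflections.
-/

namespace Cfsg.Agent.LieClassical.KleinMinusGen

open QuadraticMap Cfsg.Agent.LieClassical.OrthForms Cfsg.Agent.LieClassical.ReflGen

variable {F : Type*} [Field F]

/-- The index type. -/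
abbrev I6 := (Fin 2 ⊕ Fin 2) ⊕ Fin 2

/-- The standard basis vectors. -/
abbrev bv (i : I6) : I6 → F := Pi.single i 1

theorem span_bv : Submodule.span F (Set.range (bv : I6 → I6 → F)) = ⊤ := by
  have := (Pi.basisFun F I6).span_eq
  rw [← this]
  congr 1
  ext v
  simp [bv]

theorem Q_apply (a b : F) (v : I6 → F) : minusForm 2 F a b v =
    v (.inl (.inl 0)) * v (.inl (.inr 0)) + v (.inl (.inl 1)) * v (.inl (.inr 1))
      + (v (.inr 0) ^ 2 + a * v (.inr 0) * v (.inr 1) + b * v (.inr 1) ^ 2) := by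
  rw [coe_minusForm, quadFormMinus_apply, Fin.sum_univ_two]

theorem polar_apply (a b : F) (u v : I6 → F) : polar (minusForm 2 F a b) u v =
    (u (.inl (.inl 0)) * v (.inl (.inr 0)) + v (.inl (.inl 0)) * u (.inl (.inr 0)))
    + (u (.inl (.inl 1)) * v (.inl (.inr 1)) + v (.inl (.inl 1)) * u (.inl (.inr 1)))
      + (2 * u (.inr 0) * v (.inr 0) + a * (u (.inr 0) * v (.inr 1) + u (.inr 1) * v (.inr 0)) +
        2 * b * u (.inr 1) * v (.inr 1)) := by
  rw [polar_minusForm, Fin.sum_univ_two]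

theorem reflGroup_minus [Finite F] (a b : F)
    (hab : ∀ z₁ z₂ : F, z₁ ^ 2 + a * z₁ * z₂ + b * z₂ ^ 2 = 0 → z₁ = 0 ∧ z₂ = 0) :
    reflGroup (minusForm 2 F a b) = ⊤ := by
  have hnd := nondeg_minusForm 2 F a b hab
  have hb : ∀ i : Fin 2 ⊕ Fin 2, minusForm 2 F a b (bv (.inl i)) = 0 := by
    intro i
    rcases i with i | i <;> fin_cases i <;> simp [Q_apply, bv]
  have hspan : Submodule.span F (({bv (.inl (.inl 0)), bv (.inl (.inr 0))} ∪
      {bv (.inl (.inl 1)), bv (.inl (.inr 1))}) ∪
      {bv (.inr 0), bv (.inr 1)} : Set (I6 → F)) = ⊤ := by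
    rw [← span_bv]
    congr 1
    ext v
    constructor
    · rintro (((h | h) | (h | h)) | (h | h)) <;> exact ⟨_, h.symm⟩
    · rintro ⟨i, rfl⟩
      rcases i with (i | i) | i <;> fin_cases i <;> simp
  refine ReflGen.reflGroup_eq_top (minusForm 2 F a b) (e₁ := bv (.inl (.inl 0)))
    (f₁ := bv (.inl (.inr 0))) (e₂ := bv (.inl (.inl 1))) (f₂ := bv (.inl (.inr 1)))
    (hb _) (hb _) ?_ (hb _) (hb _) ?_ ?_ ?_ ?_ ?_ hnd ?_ ?_
  any_goals simp [polar_apply, bv]
  · refine ⟨bv (.inr 0), ?_⟩
    simp [Q_apply, bv]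
  · refine fixer_le_of_anisotropic (minusForm 2 F a b) (z₁ := bv (.inr 0)) (z₂ := bv (.inr 1))
      ?_ ?_ ?_ ?_
    · rintro c (h | h | h | h) <;> (subst h; simp [polar_apply, bv])
    · rintro c (h | h | h | h) <;> (subst h; simp [polar_apply, bv])
    · intro x hx hQ
      have h1 := hx (bv (.inl (.inl 0))) (by simp)
      have h2 := hx (bv (.inl (.inr 0))) (by simp)
      have h3 := hx (bv (.inl (.inl 1))) (by simp)
      have h4 := hx (bv (.inl (.inr 1))) (by simp)
      simp [polar_apply, bv] at h1 h2 h3 h4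
      rw [Q_apply, h1, h2, h3, h4] at hQ
      have h5 := hab (x (.inr 0)) (x (.inr 1)) (by linear_combination hQ)
      funext i
      rcases i with (i | i) | i <;> fin_cases i
      · exact h2
      · exact h4
      · exact h1
      · exact h3
      · exact h5.1
      · exact h5.2
    · have := hspan
      simpa [Set.union_comm, Set.insert_union] using this

end Cfsg.Agent.LieClassical.KleinMinusGen
end

-- part: LieClassical/KleinMinus
section
set_option autoImplicit false

/-!
`PΩ⁻₆(q) ≅ PSU₄(q)`.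
-/

namespace Cfsg.Agent.LieClassical.KleinMinus

open QuadraticMap Matrix Cfsg.Agent.LieClassical.ReflGen Cfsg.Agent.LieClassical.KleinSix
  Cfsg.Agent.LieClassical.SixModel Cfsg.Agent.LieClassical.OrthForms
  Cfsg.Agent.LieClassical.HermBasic Cfsg.Agent.LieClassical.KleinMinusGen

variable {F K : Type*} [Field F] [Fintype F] [Field K] [Fintype K] {q : ℕ}

/-- The field data: an embedding of `F` in `K` and a root of `T² - aT + b`. -/
theorem exists_data (hF : Fintype.card F = q) (hK : Fintype.card K = q ^ 2) (a b : F)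
    (hab : ∀ z₁ z₂ : F, z₁ ^ 2 + a * z₁ * z₂ + b * z₂ ^ 2 = 0 → z₁ = 0 ∧ z₂ = 0) :
    ∃ (ι : F →+* K) (α : K), (∀ c, ι c ^ q = ι c) ∧
      (∀ x y : F, ι x + ι y * α = 0 → x = 0 ∧ y = 0) ∧ α ^ q ≠ α ∧ α + α ^ q = ι a ∧
      α * α ^ q = ι b := by
  have hFact : Fact (∀ r : F, r ^ 2 ≠ -b + a * r) := ⟨fun r hr => by
    have := (hab (-r) 1 (by linear_combination hr)).2
    exact one_ne_zero this⟩
  let _ : Fintype (QuadraticAlgebra F (-b) a) :=
    Fintype.ofEquiv _ (QuadraticAlgebra.equivProd (-b) a).symm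
  have hcard : Fintype.card (QuadraticAlgebra F (-b) a) = Fintype.card K := by
    rw [hK, Fintype.card_congr (QuadraticAlgebra.equivProd (-b) a), Fintype.card_prod, hF, pow_two]
  let f : QuadraticAlgebra F (-b) a ≃+* K := FiniteField.ringEquivOfCardEq hcard
  let ι : F →+* K := (f : QuadraticAlgebra F (-b) a →+* K).comp
    (algebraMap F (QuadraticAlgebra F (-b) a))
  let α : K := f QuadraticAlgebra.omega
  have hι : ∀ c, ι c ^ q = ι c := by
    intro c
    rw [← map_pow, ← hF, FiniteField.pow_card]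
  have hind : ∀ x y : F, ι x + ι y * α = 0 → x = 0 ∧ y = 0 := by
    intro x y h
    have h1 : f (algebraMap F _ x + algebraMap F _ y * QuadraticAlgebra.omega) = 0 := by
      rw [map_add, map_mul]; exact h
    have h2 := (map_eq_zero_iff f f.injective).mp h1
    have h3 := congrArg QuadraticAlgebra.re h2
    have h4 := congrArg QuadraticAlgebra.im h2
    simp at h3 h4
    exact ⟨h3, h4⟩
  have hα : α ^ 2 = ι a * α - ι b := by
    have h1 : (QuadraticAlgebra.omega : QuadraticAlgebra F (-b) a) ^ 2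
        = algebraMap F _ a * QuadraticAlgebra.omega - algebraMap F _ b := by
      rw [pow_two, QuadraticAlgebra.omega_mul_omega_eq_mk]
      ext <;> simp
    have h2 := congrArg f h1
    rw [map_pow, map_sub, map_mul] at h2
    exact h2
  have hne : α ^ q ≠ α := by
    intro h
    -- the fixed points are `q` in number, but `ι F` and `α` are fixed
    have h1 : Function.Injective (fun c : Option F =>
        (Option.elim c ⟨α, h⟩ (fun c => ⟨ι c, hι c⟩) : {x : K // x ^ q = x})) := by
      rintro (_ | x) (_ | y) hxy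
      · rfl
      · exfalso
        have h2 : α = ι y := congrArg Subtype.val hxy
        have := (hind (-y) 1 (by rw [map_neg, map_one, h2]; ring)).2
        exact one_ne_zero this
      · exfalso
        have h2 : ι x = α := congrArg Subtype.val hxy
        have := (hind (-x) 1 (by rw [map_neg, map_one, h2]; ring)).2
        exact one_ne_zero this
      · have h2 : ι x = ι y := congrArg Subtype.val hxy
        rw [ι.injective h2]
    have h3 := Nat.card_le_card_of_injective _ h1
    rw [card_fixed hK, Nat.card_eq_fintype_card, Fintype.card_option, hF] at h3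
    omega
  have hsum : α + α ^ q = ι a := by
    have h1 : (α ^ q) ^ 2 = ι a * α ^ q - ι b := by
      have h2 := congrArg (conj hK) hα
      rw [map_pow, map_sub, map_mul] at h2
      simp only [conj_apply, hι] at h2
      exact h2
    have h3 : (α - α ^ q) * (α + α ^ q - ι a) = 0 := by
      linear_combination hα - h1
    rcases mul_eq_zero.mp h3 with h4 | h4
    · exact absurd (sub_eq_zero.mp h4).symm hne
    · exact sub_eq_zero.mp h4
  refine ⟨ι, α, hι, hind, hne, hsum, ?_⟩
  have h5 : α ^ q = ι a - α := by rw [← hsum]; ring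
  rw [h5]
  linear_combination -hα

/-- The field data, collected. -/
structure Data (F K : Type*) [Field F] [Field K] (a b : F) where
  σ : K ≃+* K
  σσ : ∀ x, σ (σ x) = x
  ι : F →+* K
  α : K
  l : K
  hι : ∀ c, σ (ι c) = ι c
  hind : ∀ x y : F, ι x + ι y * α = 0 → x = 0 ∧ y = 0
  hne : α - σ α ≠ 0
  hsum : α + σ α = ι a
  hprod : α * σ α = ι b
  hl : l * σ l = -1

section data

variable {F K : Type*} [Field F] [Field K] {a b : F} (D : Data F K a b)

/-- First coordinate. -/
def Data.u (v : I6 → F) : K :=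
  (D.α * D.ι (v (.inl (.inr 0))) - D.ι (v (.inl (.inr 1)))) / (D.α - D.σ D.α)
    - D.σ D.α / (D.α - D.σ D.α) * (D.ι (v (.inl (.inl 0))) + D.ι (v (.inl (.inl 1))) * D.α)

/-- Second coordinate. -/
def Data.w (v : I6 → F) : K :=
  (D.α * D.ι (v (.inl (.inr 0))) - D.ι (v (.inl (.inr 1)))) / (D.α - D.σ D.α)
    - D.α / (D.α - D.σ D.α) * (D.ι (v (.inl (.inl 0))) + D.ι (v (.inl (.inl 1))) * D.α)

/-- Third coordinate. -/
def Data.t (v : I6 → F) : K := D.ι (v (.inr 0)) + D.ι (v (.inr 1)) * D.α

theorem Data.u_sub_w (v : I6 → F) : D.u v - D.w v =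
    D.ι (v (.inl (.inl 0))) + D.ι (v (.inl (.inl 1))) * D.α := by
  have h := D.hne
  unfold Data.u Data.w
  field_simp
  ring

theorem Data.norm_sub (v : I6 → F) : D.u v * D.σ (D.u v) - D.w v * D.σ (D.w v) =
    D.ι (v (.inl (.inl 0)) * v (.inl (.inr 0)) + v (.inl (.inl 1)) * v (.inl (.inr 1))) := by
  have h := D.hne
  have h' : D.σ D.α - D.α ≠ 0 := by
    intro h0; apply h; linear_combination -h0
  unfold Data.u Data.w
  simp only [map_sub, map_mul, map_add, map_div₀, D.hι, D.σσ]
  set β := D.σ D.α with hβ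
  have h'' : β - D.α = -(D.α - β) := by ring
  rw [h'']
  field_simp
  ring

theorem Data.norm_t (v : I6 → F) : D.t v * D.σ (D.t v) =
    D.ι (v (.inr 0) ^ 2 + a * v (.inr 0) * v (.inr 1) + b * v (.inr 1) ^ 2) := by
  unfold Data.t
  simp only [map_add, map_mul, map_pow, D.hι]
  rw [← D.hsum, ← D.hprod]
  ring

/-- The three coordinates. -/
def Data.J0 (v : I6 → F) : Fin 3 → K := ![D.u v, D.l * D.w v, D.t v]

/-- The embedding of the minus type space over `F` in the six-dimensional space over `K`. -/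
def Data.J (v : I6 → F) : Fin 3 ⊕ Fin 3 → K := Sum.elim (D.J0 v) (fun i => D.σ (D.J0 v i))

theorem Data.pf_J (v : I6 → F) : pf (D.J v) = D.ι (minusForm 2 F a b v) := by
  rw [Q_apply, map_add D.ι (_ + _) (_ + _), ← D.norm_sub v, ← D.norm_t v]
  simp only [pf, Data.J, Data.J0, Sum.elim_inl, Sum.elim_inr, Matrix.cons_val_zero,
    Matrix.cons_val_one, Matrix.cons_val, map_mul]
  linear_combination (D.w v * D.σ (D.w v)) * D.hl

theorem Data.u_add (v v' : I6 → F) : D.u (v + v') = D.u v + D.u v' := by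
  simp only [Data.u, Pi.add_apply, map_add]; ring

theorem Data.w_add (v v' : I6 → F) : D.w (v + v') = D.w v + D.w v' := by
  simp only [Data.w, Pi.add_apply, map_add]; ring

theorem Data.t_add (v v' : I6 → F) : D.t (v + v') = D.t v + D.t v' := by
  simp only [Data.t, Pi.add_apply, map_add]; ring

theorem Data.u_smul (c : F) (v : I6 → F) : D.u (c • v) = D.ι c * D.u v := by
  simp only [Data.u, Pi.smul_apply, smul_eq_mul, map_mul]; ring

theorem Data.w_smul (c : F) (v : I6 → F) : D.w (c • v) = D.ι c * D.w v := by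
  simp only [Data.w, Pi.smul_apply, smul_eq_mul, map_mul]; ring

theorem Data.t_smul (c : F) (v : I6 → F) : D.t (c • v) = D.ι c * D.t v := by
  simp only [Data.t, Pi.smul_apply, smul_eq_mul, map_mul]; ring

theorem Data.J0_add (v v' : I6 → F) : D.J0 (v + v') = D.J0 v + D.J0 v' := by
  funext i
  fin_cases i
  · exact D.u_add v v'
  · show D.l * D.w (v + v') = D.l * D.w v + D.l * D.w v'
    rw [D.w_add]; ring
  · exact D.t_add v v'

theorem Data.J0_smul (c : F) (v : I6 → F) : D.J0 (c • v) = D.ι c • D.J0 v := by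
  funext i
  fin_cases i
  · exact D.u_smul c v
  · show D.l * D.w (c • v) = D.ι c * (D.l * D.w v)
    rw [D.w_smul]; ring
  · exact D.t_smul c v

theorem Data.J_add (v v' : I6 → F) : D.J (v + v') = D.J v + D.J v' := by
  funext i
  rcases i with i | i
  · exact congrFun (D.J0_add v v') i
  · show D.σ (D.J0 (v + v') i) = D.σ (D.J0 v i) + D.σ (D.J0 v' i)
    rw [D.J0_add, Pi.add_apply, map_add]

theorem Data.J_smul (c : F) (v : I6 → F) : D.J (c • v) = D.ι c • D.J v := by
  funext i
  rcases i with i | i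
  · exact congrFun (D.J0_smul c v) i
  · show D.σ (D.J0 (c • v) i) = D.ι c * D.σ (D.J0 v i)
    rw [D.J0_smul, Pi.smul_apply, smul_eq_mul, map_mul, D.hι]

theorem Data.l_ne : D.l ≠ 0 := by
  intro h
  have := D.hl
  rw [h, zero_mul] at this
  exact one_ne_zero (neg_eq_zero.mp this.symm)

theorem Data.J0_injective : Function.Injective D.J0 := by
  have key : ∀ v, D.J0 v = 0 → v = 0 := by
    intro v hv
    have h0 : D.u v = 0 := congrFun hv 0
    have h1 : D.l * D.w v = 0 := congrFun hv 1
    have h2 : D.t v = 0 := congrFun hv 2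
    have h1' : D.w v = 0 := (mul_eq_zero.mp h1).resolve_left D.l_ne
    have h3 := D.u_sub_w v
    rw [h0, h1', sub_zero] at h3
    obtain ⟨hx0, hx1⟩ := D.hind _ _ h3.symm
    obtain ⟨hz0, hz1⟩ := D.hind _ _ h2
    have h4 : D.α * D.ι (v (.inl (.inr 0))) - D.ι (v (.inl (.inr 1))) = 0 := by
      have h5 := h0
      unfold Data.u at h5
      rw [hx0, hx1, map_zero, zero_mul, add_zero, mul_zero, sub_zero] at h5
      exact (div_eq_zero_iff.mp h5).resolve_right D.hne
    obtain ⟨hy1, hy0⟩ := D.hind (-v (.inl (.inr 1))) (v (.inl (.inr 0))) (by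
      rw [map_neg]; linear_combination h4)
    funext i
    rcases i with (i | i) | i <;> fin_cases i
    · exact hx0
    · exact hx1
    · exact hy0
    · exact neg_eq_zero.mp hy1
    · exact hz0
    · exact hz1
  intro v v' h
  have h1 : D.J0 (v - v') = 0 := by
    have h2 := D.J0_add (v - v') v'
    rw [sub_add_cancel, h] at h2
    have h3 : D.J0 (v - v') = (D.J0 (v - v') + D.J0 v') - D.J0 v' := by abel
    rw [h3, ← h2, sub_self]
  exact sub_eq_zero.mp (key _ h1)

theorem Data.J_injective : Function.Injective D.J := by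
  intro v v' h
  apply D.J0_injective
  funext i
  exact congrFun h (.inl i)

/-- Conjugation of coordinate vectors followed by the Hodge star fixes the image of `J`. -/
theorem Data.hodge_J (v : I6 → F) : hodge (D.J v) = fun i => D.σ (D.J v i) := by
  funext i
  rcases i with i | i
  · rfl
  · show D.J0 v i = D.σ (D.σ (D.J0 v i))
    rw [D.σσ]

theorem Data.exists_J [Fintype F] [Fintype K] (hc : Fintype.card K = Fintype.card F ^ 2)
    (x : Fin 3 ⊕ Fin 3 → K) (hx : ∀ i : Fin 3, x (.inr i) = D.σ (x (.inl i))) :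
    ∃ v, D.J v = x := by
  have hcard : Fintype.card (I6 → F) = Fintype.card (Fin 3 → K) := by
    rw [Fintype.card_fun, Fintype.card_fun, hc]
    simp [← pow_mul]
  have hbij := (Fintype.bijective_iff_injective_and_card D.J0).mpr ⟨D.J0_injective, hcard⟩
  obtain ⟨v, hv⟩ := hbij.2 (fun i => x (.inl i))
  refine ⟨v, ?_⟩
  funext i
  rcases i with i | i
  · exact congrFun hv i
  · show D.σ (D.J0 v i) = x (.inr i)
    rw [hx, hv]

end data

section pair

variable {F K : Type*} [Field F] [Field K] {a b : F} (D : Data F K a b)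

theorem isPair : IsPair (minusForm 2 F a b) D.ι (fun v => sk (D.J v))
    (fun v => sk (hodge (D.J v))) where
  Sadd x y := by rw [D.J_add, sk_add]
  Ssmul c x := by rw [D.J_smul, sk_smul]
  Tadd x y := by rw [D.J_add, hodge_add, sk_add]
  Tsmul c x := by rw [D.J_smul, hodge_smul, sk_smul]
  Sinj x y h := D.J_injective (sk_injective h)
  ST x := by rw [sk_mul_hodge, D.pf_J]
  TS x := by rw [hodge_mul_sk, D.pf_J]
  Str x := transpose_sk _
  Ttr x := transpose_sk _

/-- The conjugate transpose. -/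
def Data.H (M : Matrix (Fin 4) (Fin 4) K) : Matrix (Fin 4) (Fin 4) K := (M.map D.σ)ᵀ

theorem Data.H_mul (M N : Matrix (Fin 4) (Fin 4) K) : D.H (M * N) = D.H N * D.H M := by
  unfold Data.H
  rw [Matrix.map_mul, Matrix.transpose_mul]

theorem Data.H_smul (c : K) (M : Matrix (Fin 4) (Fin 4) K) : D.H (c • M) = D.σ c • D.H M := by
  ext i j
  simp [Data.H]

theorem Data.H_transpose (M : Matrix (Fin 4) (Fin 4) K) : D.H Mᵀ = (D.H M)ᵀ := rfl

theorem Data.H_H (M : Matrix (Fin 4) (Fin 4) K) : D.H (D.H M) = M := by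
  ext i j
  simp [Data.H, D.σσ]

theorem sk_map (x : Fin 3 ⊕ Fin 3 → K) (σ : K ≃+* K) :
    (sk x).map σ = sk (fun i => σ (x i)) := by
  ext i j
  fin_cases i <;> fin_cases j <;> simp [sk]

theorem Data.H_S (v : I6 → F) : D.H (sk (D.J v)) = -sk (hodge (D.J v)) := by
  unfold Data.H
  rw [sk_map, transpose_sk, D.hodge_J]

theorem Data.H_T (v : I6 → F) : D.H (sk (hodge (D.J v))) = -sk (D.J v) := by
  have h := D.H_S v
  have h2 : sk (hodge (D.J v)) = -D.H (sk (D.J v)) := by rw [h, neg_neg]
  rw [h2]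
  have h3 : D.H (-D.H (sk (D.J v))) = -D.H (D.H (sk (D.J v))) := by
    ext i j
    simp [Data.H]
  rw [h3, D.H_H]

theorem Data.H_one_sided {M : Matrix (Fin 4) (Fin 4) K} :
    M * D.H M = 1 ↔ Mᵀ * M.map D.σ = 1 := by
  rw [_root_.mul_eq_one_comm, ← Matrix.transpose_inj (A := D.H M * M), Matrix.transpose_mul]
  rw [Matrix.transpose_one]
  rfl

theorem Data.unitary_one {v : I6 → F} (hv : minusForm 2 F a b v ≠ 0)
    {g h : Matrix (Fin 4) (Fin 4) K} (hh : D.H h = g) (hgh : h * g = 1) :
    ((D.ι (minusForm 2 F a b v))⁻¹ • (sk (D.J v) * hᵀ * sk (hodge (D.J v)))) *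
      D.H ((D.ι (minusForm 2 F a b v))⁻¹ • (sk (D.J v) * hᵀ * sk (hodge (D.J v)))) = 1 := by
  have hι : D.ι (minusForm 2 F a b v) ≠ 0 := (map_ne_zero D.ι).mpr hv
  rw [D.H_smul, D.H_mul, D.H_mul, D.H_S, D.H_T, D.H_transpose, hh, map_inv₀, D.hι,
    Matrix.smul_mul, Matrix.mul_smul, smul_smul]
  have h1 : sk (D.J v) * hᵀ * sk (hodge (D.J v)) * (-sk (D.J v) * (gᵀ * -sk (hodge (D.J v))))
      = sk (D.J v) * (hᵀ * (sk (hodge (D.J v)) * sk (D.J v)) * gᵀ) * sk (hodge (D.J v)) := by
    simp only [Matrix.neg_mul, Matrix.mul_neg, neg_neg, Matrix.mul_assoc]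
  have h2 : hᵀ * gᵀ = 1 := by
    rw [← Matrix.transpose_mul, _root_.mul_eq_one_comm.mp hgh, Matrix.transpose_one]
  rw [h1, hodge_mul_sk, Matrix.mul_smul, Matrix.smul_mul, Matrix.mul_one, h2, Matrix.mul_smul,
    Matrix.smul_mul, Matrix.mul_one, sk_mul_hodge, smul_smul, smul_smul, D.pf_J]
  convert one_smul K _ using 2
  field_simp

theorem Data.unitary_two {v w : I6 → F} (hv : minusForm 2 F a b v ≠ 0)
    (hw : minusForm 2 F a b w ≠ 0) :
    ((D.ι (minusForm 2 F a b v) * D.ι (minusForm 2 F a b w))⁻¹ •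
      (sk (D.J v) * sk (hodge (D.J w)) * (sk (D.J v) * sk (hodge (D.J w))))) *
      D.H ((D.ι (minusForm 2 F a b v) * D.ι (minusForm 2 F a b w))⁻¹ •
      (sk (D.J v) * sk (hodge (D.J w)) * (sk (D.J v) * sk (hodge (D.J w))))) = 1 := by
  have hιv : D.ι (minusForm 2 F a b v) ≠ 0 := (map_ne_zero D.ι).mpr hv
  have hιw : D.ι (minusForm 2 F a b w) ≠ 0 := (map_ne_zero D.ι).mpr hw
  have h0 : sk (D.J v) * sk (hodge (D.J w)) * D.H (sk (D.J v) * sk (hodge (D.J w)))
      = (D.ι (minusForm 2 F a b v) * D.ι (minusForm 2 F a b w)) •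
        (1 : Matrix (Fin 4) (Fin 4) K) := by
    rw [D.H_mul, D.H_S, D.H_T]
    have h1 : sk (D.J v) * sk (hodge (D.J w)) * (-sk (D.J w) * -sk (hodge (D.J v)))
      = sk (D.J v) * (sk (hodge (D.J w)) * sk (D.J w)) * sk (hodge (D.J v)) := by
      simp only [Matrix.neg_mul, Matrix.mul_neg, neg_neg, Matrix.mul_assoc]
    rw [h1, hodge_mul_sk, Matrix.mul_smul, Matrix.smul_mul, Matrix.mul_one, sk_mul_hodge,
      smul_smul, D.pf_J, D.pf_J]
    congr 1
    ring
  set M := sk (D.J v) * sk (hodge (D.J w)) with hM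
  rw [D.H_smul, D.H_mul, map_inv₀, map_mul, D.hι, D.hι, Matrix.smul_mul, Matrix.mul_smul,
    smul_smul]
  have h2 : M * M * (D.H M * D.H M) = M * (M * D.H M) * D.H M := by
    simp only [Matrix.mul_assoc]
  rw [h2, h0, Matrix.mul_smul, Matrix.smul_mul, Matrix.mul_one, h0, smul_smul, smul_smul]
  convert one_smul K _ using 2
  field_simp

end pair

/-- A group of matrices preserving `S V` acts by isometries. -/
theorem exists_hom {F V K : Type*} [Field F] [AddCommGroup V] [Module F V] [Field K]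
    {n : Type*} [Fintype n] [DecidableEq n]
    {Q : QuadraticForm F V} {ι : F →+* K} {S T : V → Matrix n n K} (P : IsPair Q ι S T)
    {G : Type*} [Group G] (ρ : G →* Matrix n n K)
    (hex : ∀ g v, ∃ v', S v' = ρ g * S v * (ρ g)ᵀ ∧ Q v' = Q v) :
    ∃ φ : G →* orth (Q : V → F), ∀ g x,
      S ((φ g : V ≃ₗ[F] V) x) = ρ g * S x * (ρ g)ᵀ := by
  choose f hf hQ using hex
  have hadd : ∀ g x y, f g (x + y) = f g x + f g y := by
    intro g x y
    apply P.Sinj
    rw [hf, P.Sadd, P.Sadd, hf, hf, Matrix.mul_add, Matrix.add_mul]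
  have hsmul : ∀ g (c : F) x, f g (c • x) = c • f g x := by
    intro g c x
    apply P.Sinj
    rw [hf, P.Ssmul, P.Ssmul, hf, Matrix.mul_smul, Matrix.smul_mul]
  have hmul : ∀ g h x, f (g * h) x = f g (f h x) := by
    intro g h x
    apply P.Sinj
    rw [hf, hf, hf, map_mul, Matrix.transpose_mul]
    simp only [Matrix.mul_assoc]
  have hone : ∀ x, f 1 x = x := by
    intro x
    apply P.Sinj
    rw [hf, map_one, Matrix.transpose_one, Matrix.one_mul, Matrix.mul_one]
  refine ⟨{ toFun := fun g => ⟨LinearEquiv.ofLinearMap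
              { toFun := f g, map_add' := hadd g, map_smul' := hsmul g }
              { toFun := f g⁻¹, map_add' := hadd g⁻¹, map_smul' := hsmul g⁻¹ }
              (by
                apply LinearMap.ext
                intro x
                show f g (f g⁻¹ x) = x
                rw [← hmul, mul_inv_cancel, hone])
              (by
                apply LinearMap.ext
                intro x
                show f g⁻¹ (f g x) = x
                rw [← hmul, inv_mul_cancel, hone]), fun v => hQ g v⟩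
            map_one' := by
              apply Subtype.ext
              apply LinearEquiv.ext
              intro x
              exact hone x
            map_mul' := by
              intro g h
              apply Subtype.ext
              apply LinearEquiv.ext
              intro x
              exact hmul g h x }, fun g x => hf g x⟩

section final

variable {F K : Type*} [Field F] [Fintype F] [Field K] [Fintype K] {a b : F} (D : Data F K a b)
  {q : ℕ} (hσ : ∀ x, D.σ x = x ^ q)

include hσ in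
omit [Fintype F] [Fintype K] in
theorem mem_SU_iff (A : Matrix.SpecialLinearGroup (Fin 4) K) :
    A ∈ Cfsg.SU 4 K q ↔ (A : Matrix (Fin 4) (Fin 4) K) * D.H A = 1 := by
  rw [D.H_one_sided, SUBasic.mem_SU_iff]
  have key : ∀ u v : Fin 4 → K, Cfsg.hermForm 4 K q ((A : Matrix (Fin 4) (Fin 4) K) *ᵥ u)
      ((A : Matrix (Fin 4) (Fin 4) K) *ᵥ v) =
      u ⬝ᵥ ((A : Matrix (Fin 4) (Fin 4) K)ᵀ * (A : Matrix (Fin 4) (Fin 4) K).map D.σ) *ᵥ
        (fun i => D.σ (v i)) := by
    intro u v
    rw [← Matrix.mulVec_mulVec, Matrix.dotProduct_mulVec, Matrix.vecMul_transpose]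
    rw [SUBasic.hermForm_apply]
    refine Finset.sum_congr rfl fun i _ => ?_
    rw [← hσ]
    congr 1
    simp only [Matrix.mulVec, dotProduct, map_sum, map_mul, Matrix.map_apply]
  have key2 : ∀ u v : Fin 4 → K, Cfsg.hermForm 4 K q u v = u ⬝ᵥ (fun i => D.σ (v i)) := by
    intro u v
    rw [SUBasic.hermForm_apply]
    refine Finset.sum_congr rfl fun i _ => ?_
    rw [← hσ]
  constructor
  · intro h
    ext i j
    have h1 := h (Pi.single i 1) (Pi.single j 1)
    rw [key, key2] at h1
    have h2 : (fun k => D.σ ((Pi.single j 1 : Fin 4 → K) k)) = Pi.single j 1 := by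
      funext k
      by_cases hk : k = j
      · subst hk; simp
      · simp [Pi.single_eq_of_ne hk]
    rw [h2] at h1
    simpa [Matrix.one_apply, Pi.single_apply, eq_comm] using h1
  · intro h u v
    rw [key, key2, h, Matrix.one_mulVec]

/-- `SU₄` to matrices. -/
def rho (K : Type*) [Field K] (q : ℕ) : Cfsg.SU 4 K q →* Matrix (Fin 4) (Fin 4) K :=
  KleinPlus.rho.comp (Cfsg.SU 4 K q).subtype

omit [Fintype F] [Fintype K] in
theorem rho_apply (g : Cfsg.SU 4 K q) :
    rho K q g = ((g : Matrix.SpecialLinearGroup (Fin 4) K) : Matrix (Fin 4) (Fin 4) K) := rfl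

omit [Fintype F] [Fintype K] in
theorem det_rho (g : Cfsg.SU 4 K q) : (rho K q g).det = 1 := g.1.2

omit [Fintype F] [Fintype K] in
theorem rho_mul_inv (g : Cfsg.SU 4 K q) : rho K q g * rho K q g⁻¹ = 1 := by
  rw [← map_mul, mul_inv_cancel, map_one]

omit [Fintype F] [Fintype K] in
theorem rho_inv_mul (g : Cfsg.SU 4 K q) : rho K q g⁻¹ * rho K q g = 1 := by
  rw [← map_mul, inv_mul_cancel, map_one]

include hσ in
omit [Fintype F] [Fintype K] in
theorem H_rho (g : Cfsg.SU 4 K q) : D.H (rho K q g) = rho K q g⁻¹ := by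
  have h1 : rho K q g * D.H (rho K q g) = 1 := (mem_SU_iff D hσ _).mp g.2
  calc D.H (rho K q g) = (rho K q g⁻¹ * rho K q g) * D.H (rho K q g) := by
        rw [rho_inv_mul, Matrix.one_mul]
    _ = rho K q g⁻¹ := by rw [Matrix.mul_assoc, h1, Matrix.mul_one]

include hσ in
theorem exists_act (hc : Fintype.card K = Fintype.card F ^ 2) (g : Cfsg.SU 4 K q) (v : I6 → F) :
    ∃ v', D.J v' = act (rho K q g) (D.J v) := by
  apply D.exists_J hc
  have h1 : sk (hodge (act (rho K q g) (D.J v))) =
      sk (fun i => D.σ (act (rho K q g) (D.J v) i)) := by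
    rw [KleinPlus.sk_hodge_act (det_rho g) (rho_mul_inv g), ← sk_map, sk_act, Matrix.map_mul,
      Matrix.map_mul, sk_map, ← D.hodge_J]
    have h2 : (rho K q g).map D.σ = (rho K q g⁻¹)ᵀ := by
      rw [← H_rho D hσ g]; rfl
    have h3 : ((rho K q g)ᵀ).map D.σ = rho K q g⁻¹ := H_rho D hσ g
    rw [h2, h3]
  have h4 := sk_injective h1
  intro i
  exact congrFun h4 (.inl i)

/-- The image of `J` spans. -/
theorem act_eq_of_forall (hc : Fintype.card K = Fintype.card F ^ 2) {M : Matrix (Fin 4) (Fin 4) K}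
    (h : ∀ v, act M (D.J v) = D.J v) (x : Fin 3 ⊕ Fin 3 → K) : act M x = x := by
  -- x = y + α z with y, z in the image of J
  set z : Fin 3 ⊕ Fin 3 → K := fun i => (x i - D.σ (x i.swap)) / (D.α - D.σ D.α) with hz
  set y : Fin 3 ⊕ Fin 3 → K := x - D.α • z with hy
  have hne := D.hne
  have h' : D.σ D.α - D.α = -(D.α - D.σ D.α) := by ring
  obtain ⟨v, hv⟩ := D.exists_J hc z (by
    intro i
    simp only [hz, map_div₀, map_sub, D.σσ, h', Sum.swap_inl, Sum.swap_inr]
    field_simp
    ring)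
  obtain ⟨w, hw⟩ := D.exists_J hc y (by
    intro i
    simp only [hy, hz, Pi.sub_apply, Pi.smul_apply, smul_eq_mul, map_div₀, map_sub, map_mul,
      D.σσ, h', Sum.swap_inl, Sum.swap_inr]
    field_simp
    ring)
  have hx : x = D.J w + D.α • D.J v := by
    rw [hv, hw, hy]; abel
  rw [hx, act_add, act_smul, h, h]

include hσ in
theorem nonempty_equiv_aux (hF : Fintype.card F = q) (hK : Fintype.card K = q ^ 2)
    (hab : ∀ z₁ z₂ : F, z₁ ^ 2 + a * z₁ * z₂ + b * z₂ ^ 2 = 0 → z₁ = 0 ∧ z₂ = 0) :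
    Nonempty (Cfsg.POmega F (Cfsg.quadFormMinus 2 F a b) ≃* Cfsg.PSU 4 K q) := by
  have hc : Fintype.card K = Fintype.card F ^ 2 := by rw [hK, hF]
  have P := isPair D
  obtain ⟨φ, hφ⟩ := exists_hom P (rho K q) (by
    intro g v
    obtain ⟨v', hv'⟩ := exists_act D hσ hc g v
    refine ⟨v', ?_, ?_⟩
    · show sk (D.J v') = _
      rw [hv', sk_act]
    · apply D.ι.injective
      rw [← D.pf_J, ← D.pf_J, hv', pf_act, det_rho, one_mul])
  have hJ : ∀ g x, D.J ((φ g : (I6 → F) ≃ₗ[F] (I6 → F)) x) = act (rho K q g) (D.J x) := by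
    intro g x
    apply sk_injective
    rw [sk_act]
    exact hφ g x
  have A : IsAction (minusForm 2 F a b) D.ι (fun v => sk (D.J v)) (fun v => sk (hodge (D.J v)))
      (rho K q) φ := by
    refine ⟨hφ, ?_, ?_, ?_⟩
    · intro g x
      show sk (hodge (D.J _)) = _
      rw [hJ, KleinPlus.sk_hodge_act (det_rho g) (rho_mul_inv g)]
    · intro v hv g
      have hpf : pf (D.J v) ≠ 0 := by rw [D.pf_J]; exact (map_ne_zero D.ι).mpr hv
      have h1 := D.unitary_one hv (g := rho K q g) (h := rho K q g⁻¹)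
        (by rw [H_rho D hσ g⁻¹, inv_inv]) (rho_inv_mul g)
      have h2 := KleinPlus.det_one (D.J v) hpf (h := rho K q g⁻¹) (det_rho _)
      rw [D.pf_J] at h2
      exact ⟨⟨⟨_, h2⟩, (mem_SU_iff D hσ _).mpr h1⟩, rfl⟩
    · intro v w hv hw
      have hpf : pf (D.J v) ≠ 0 := by rw [D.pf_J]; exact (map_ne_zero D.ι).mpr hv
      have hpf' : pf (D.J w) ≠ 0 := by rw [D.pf_J]; exact (map_ne_zero D.ι).mpr hw
      have h1 := D.unitary_two hv hw
      have h2 := KleinPlus.det_two (D.J v) (D.J w) hpf hpf'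
      rw [D.pf_J, D.pf_J] at h2
      exact ⟨⟨⟨_, h2⟩, (mem_SU_iff D hσ _).mpr h1⟩, rfl⟩
  have hker : φ.ker ≤ Subgroup.center _ := by
    intro g hg
    have h1 : ∀ x : Fin 3 ⊕ Fin 3 → K, act (rho K q g) x = x := by
      apply act_eq_of_forall D hc
      intro v
      rw [← hJ]
      congr 1
      exact congrArg (fun k : orth (minusForm 2 F a b : (I6 → F) → F) =>
        (k : (I6 → F) ≃ₗ[F] (I6 → F)) v) (MonoidHom.mem_ker.mp hg)
    obtain ⟨c, hc⟩ := scalar_of_act_eq (det_rho g) h1
    rw [Subgroup.mem_center_iff]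
    intro h
    apply Subtype.ext
    apply Subtype.ext
    show rho K q h * rho K q g = rho K q g * rho K q h
    rw [hc]
    exact ((Matrix.scalar_commute c (fun r => Commute.all _ _) _).symm).eq
  obtain ⟨e₁⟩ := omega_quotient_equiv P A (reflGroup_minus a b hab)
    (HermPerfect.commutator_SU_eq_top hK (by norm_num) (by omega)) hker
  have e₀ := isometryEquiv (Cfsg.quadFormMinus 2 F a b)
  rw [← coe_minusForm] at e₀ ⊢
  obtain ⟨e₂⟩ := commutator_center_congr e₀
  exact ⟨e₂.trans e₁⟩

end final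

theorem nonempty_equiv {F K : Type*} [Field F] [Fintype F] [Field K] [Fintype K] {q : ℕ}
    (hF : Fintype.card F = q) (hK : Fintype.card K = q ^ 2) (a b : F)
    (hab : ∀ z₁ z₂ : F, z₁ ^ 2 + a * z₁ * z₂ + b * z₂ ^ 2 = 0 → z₁ = 0 ∧ z₂ = 0) :
    Nonempty (Cfsg.POmega F (Cfsg.quadFormMinus 2 F a b) ≃* Cfsg.PSU 4 K q) := by
  obtain ⟨ι, α, hι, hind, hne, hsum, hprod⟩ := exists_data hF hK a b hab
  obtain ⟨l, hl⟩ := exists_norm_eq hK (c := (-1 : K)) (by rw [neg_pow_q hK, one_pow])
  let D : Data F K a b :=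
    { σ := conj hK
      σσ := fun x => pow_q_pow_q hK x
      ι := ι
      α := α
      l := l
      hι := hι
      hind := hind
      hne := fun h => hne (sub_eq_zero.mp h).symm
      hsum := hsum
      hprod := hprod
      hl := hl }
  exact nonempty_equiv_aux D (fun x => rfl) hF hK hab

end Cfsg.Agent.LieClassical.KleinMinus
end
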