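import Mathlib
set_option linter.all false

/-!
Symplectic transvections in Mathlib's `Matrix.symplecticGroup (Fin m) F` as matrices, and transitivity of
the symplectic group on non-zero vectors.
-/

set_option autoImplicit false

namespace Cfsg.Agent.LieClassical.SympTransvection

open Matrix

variable {l F : Type*} [DecidableEq l] [Fintype l] [Field F]

/-- The symplectic form `ω(u, v) = u ⬝ (J v)`. -/
def om (u v : l ⊕ l → F) : F := u ⬝ᵥ (J l F *ᵥ v)

theorem om_def (u v : l ⊕ l → F) : om u v = u ⬝ᵥ (J l F *ᵥ v) := rfl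

theorem om_add_left (u u' v : l ⊕ l → F) : om (u + u') v = om u v + om u' v := by
  simp [om_def, add_dotProduct]

theorem om_add_right (u v v' : l ⊕ l → F) : om u (v + v') = om u v + om u v' := by
  simp [om_def, mulVec_add]

theorem om_smul_left (c : F) (u v : l ⊕ l → F) : om (c • u) v = c * om u v := by
  simp [om_def]

theorem om_smul_right (c : F) (u v : l ⊕ l → F) : om u (c • v) = c * om u v := by
  simp [om_def, mulVec_smul]

theorem om_sub_left (u u' v : l ⊕ l → F) : om (u - u') v = om u v - om u' v := by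
  simp [om_def, sub_dotProduct]

theorem om_sub_right (u v v' : l ⊕ l → F) : om u (v - v') = om u v - om u v' := by
  simp [om_def, mulVec_sub]

theorem om_eq_sum (u v : l ⊕ l → F) :
    om u v = ∑ i, (u (.inr i) * v (.inl i) - u (.inl i) * v (.inr i)) := by
  simp [om_def, J, fromBlocks_mulVec, dotProduct, Finset.sum_sub_distrib, neg_mulVec]
  ring

theorem om_self (u : l ⊕ l → F) : om u u = 0 := by
  rw [om_eq_sum]
  exact Finset.sum_eq_zero fun i _ => by ring

theorem om_swap (u v : l ⊕ l → F) : om u v = - om v u := by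
  rw [om_eq_sum, om_eq_sum, ← Finset.sum_neg_distrib]
  exact Finset.sum_congr rfl fun i _ => by ring

/-- Nondegeneracy. -/
theorem exists_om_ne_zero {u : l ⊕ l → F} (hu : u ≠ 0) : ∃ v, om u v ≠ 0 := by
  by_contra h
  push Not at h
  apply hu
  funext i
  rcases i with i | i
  · have := h (Pi.single (.inr i) 1)
    rw [om_eq_sum] at this
    simpa [Pi.single_apply] using this
  · have := h (Pi.single (.inl i) 1)
    rw [om_eq_sum] at this
    simpa [Pi.single_apply] using this

/-- The symplectic transvection `x ↦ x + a ω(x,u) u` as a matrix. -/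
def tv (a : F) (u : l ⊕ l → F) : Matrix (l ⊕ l) (l ⊕ l) F :=
  1 + a • vecMulVec u (J l F *ᵥ u)

theorem tv_def (a : F) (u : l ⊕ l → F) : tv a u = 1 + a • vecMulVec u (J l F *ᵥ u) := rfl

theorem tv_mulVec (a : F) (u x : l ⊕ l → F) : tv a u *ᵥ x = x + (a * om x u) • u := by
  rw [tv_def, add_mulVec, one_mulVec, smul_mulVec, vecMulVec_mulVec]
  rw [om_def, dotProduct_comm x]
  ext i
  simp
  ring

theorem tv_mem (a : F) (u : l ⊕ l → F) : tv a u ∈ symplecticGroup l F := by
  rw [SymplecticGroup.mem_iff]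
  have hJu : (J l F *ᵥ u) ⬝ᵥ (J l F *ᵥ (J l F *ᵥ u)) = 0 := om_self _
  have hvJ : (J l F *ᵥ u) ᵥ* J l F = u := by
    rw [← vecMul_transpose, vecMul_vecMul, J_transpose, Matrix.neg_mul, J_squared]
    simp
  have hJJ : J l F *ᵥ (J l F *ᵥ u) = -u := by
    rw [mulVec_mulVec, J_squared, neg_mulVec, one_mulVec]
  rw [tv_def, transpose_add, transpose_one, transpose_smul, transpose_vecMulVec]
  rw [Matrix.add_mul, Matrix.one_mul, Matrix.mul_add, Matrix.mul_one, Matrix.smul_mul,
    vecMulVec_mul, hvJ, Matrix.mul_smul, Matrix.add_mul, mul_vecMulVec, hJJ, Matrix.smul_mul,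
    vecMulVec_mul_vecMulVec]
  have : u ⬝ᵥ (J l F *ᵥ u) = 0 := om_self u
  rw [this]
  simp

/-- The symplectic transvection as an element of the symplectic group. -/
def tvS (a : F) (u : l ⊕ l → F) : symplecticGroup l F := ⟨tv a u, tv_mem a u⟩

theorem coe_tvS (a : F) (u : l ⊕ l → F) : (tvS a u : Matrix (l ⊕ l) (l ⊕ l) F) = tv a u := rfl

/-- If `ω(v, w) ≠ 0` then a single transvection moves `v` to `w`. -/
theorem exists_tv_mulVec_eq {v w : l ⊕ l → F} (h : om v w ≠ 0) :
    ∃ a u, tv a u *ᵥ v = w := by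
  refine ⟨(om v w)⁻¹, w - v, ?_⟩
  rw [tv_mulVec, om_sub_right, om_self, sub_zero, inv_mul_cancel₀ h, one_smul]
  abel

/-- There is a vector not perpendicular to two given non-zero vectors. -/
theorem exists_om_ne_zero_two {v w : l ⊕ l → F} (hv : v ≠ 0) (hw : w ≠ 0) :
    ∃ z, om v z ≠ 0 ∧ om w z ≠ 0 := by
  obtain ⟨x, hx⟩ := exists_om_ne_zero hv
  obtain ⟨y, hy⟩ := exists_om_ne_zero hw
  by_cases h1 : om w x = 0
  · by_cases h2 : om v y = 0
    · refine ⟨x + y, ?_, ?_⟩
      · rwa [om_add_right, h2, add_zero]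
      · rwa [om_add_right, h1, zero_add]
    · exact ⟨y, h2, hy⟩
  · exact ⟨x, hx, h1⟩

/-- The symplectic group is transitive on non-zero vectors: at most two transvections suffice. -/
theorem exists_tv_tv_mulVec_eq {v w : l ⊕ l → F} (hv : v ≠ 0) (hw : w ≠ 0) :
    ∃ a u b x, (tvS b x * tvS a u : symplecticGroup l F).1 *ᵥ v = w := by
  obtain ⟨z, h1, h2⟩ := exists_om_ne_zero_two hv hw
  obtain ⟨a, u, hau⟩ := exists_tv_mulVec_eq h1
  have h3 : om z w ≠ 0 := by rw [om_swap]; exact neg_ne_zero.2 h2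
  obtain ⟨b, x, hbx⟩ := exists_tv_mulVec_eq h3
  refine ⟨a, u, b, x, ?_⟩
  rw [Submonoid.coe_mul, ← mulVec_mulVec]
  change tv b x *ᵥ (tv a u *ᵥ v) = w
  rw [hau, hbx]

end Cfsg.Agent.LieClassical.SympTransvection
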