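import Mathlib.LinearAlgebra.Matrix.GeneralLinearGroup.Card
import Mathlib.LinearAlgebra.Matrix.GeneralLinearGroup.FinTwo
import Mathlib.Topology.Compactification.OnePoint.ProjectiveLine
import Mathlib.GroupTheory.Sylow
import Mathlib.Algebra.CharP.Basic
set_option linter.all false

/-!
# Unipotent (Sylow `p`-) subgroups of `GL₂` over a (finite) field

* `upperUnip F : Subgroup (GL (Fin 2) F)`: the matrices `!![1, x; 0, 1]`
  (`mem_upperUnip_iff`, `card_upperUnip`, `isPGroup_upperUnip`, `index_upperUnip`).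
* `upperUnipSylow F p : Sylow p (GL (Fin 2) F)`; every Sylow `p`-subgroup is
  `a • upperUnipSylow F p` (`exists_smul_upperUnipSylow_eq`, `mem_smul_upperUnipSylow_iff`).
* `mem_normalizer_upperUnip_iff`: its normaliser is the Borel subgroup `g 1 0 = 0`, whose index
  is the number of points of the projective line (`index_normalizer_upperUnip`).
* `sylow_inf_eq_bot`: distinct Sylow `p`-subgroups intersect trivially.
-/

set_option autoImplicit false

namespace Cfsg.Agent.LieClassical.GLTwoUnipotent

open Matrix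
open scoped Pointwise

variable (F : Type*) [Field F]

/-- The subgroup of `GL₂(F)` of upper unitriangular matrices. -/
def upperUnip : Subgroup (GL (Fin 2) F) :=
  (GeneralLinearGroup.upperRightHom (R := F)).toMonoidHom.range

variable {F}

theorem mem_upperUnip_iff {g : GL (Fin 2) F} :
    g ∈ upperUnip F ↔ g 0 0 = 1 ∧ g 1 0 = 0 ∧ g 1 1 = 1 := by
  constructor
  · rintro ⟨x, rfl⟩
    simp
  · rintro ⟨h1, h2, h3⟩
    refine ⟨Multiplicative.ofAdd (g 0 1), ?_⟩
    ext i j
    fin_cases i <;> fin_cases j <;> simp [h1, h2, h3]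

theorem card_upperUnip : Nat.card (upperUnip F) = Nat.card F := by
  have h : Function.Injective (GeneralLinearGroup.upperRightHom (R := F)).toMonoidHom :=
    fun a b hab => Multiplicative.toAdd.injective
      (GeneralLinearGroup.injective_upperRightHom hab)
  exact (Nat.card_congr (MonoidHom.ofInjective h).toEquiv).symm

theorem isPGroup_upperUnip (p : ℕ) [Fact p.Prime] [CharP F p] :
    IsPGroup p (upperUnip F) := by
  rintro ⟨_, x, rfl⟩
  refine ⟨1, ?_⟩
  ext1
  rw [pow_one]
  simp only [SubgroupClass.coe_pow, OneMemClass.coe_one]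
  rw [← map_pow]
  have : x ^ p = 1 := by
    apply Multiplicative.toAdd.injective
    simp
  rw [this, map_one]

/-- The order of `GL₂(q)` is `q` times `(q² - 1)(q - 1)`. -/
theorem card_GL_two [Fintype F] :
    Nat.card (GL (Fin 2) F) =
      Fintype.card F * ((Fintype.card F ^ 2 - 1) * (Fintype.card F - 1)) := by
  rw [Matrix.card_GL_field, Fin.prod_univ_two]
  obtain ⟨k, hk⟩ := Nat.exists_eq_add_of_lt (Fintype.one_lt_card (α := F))
  have h1 : Fintype.card F ^ 2 - Fintype.card F ^ ((1 : Fin 2) : ℕ)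
      = Fintype.card F * (Fintype.card F - 1) := by
    simp [Nat.mul_sub, pow_two]
  rw [h1]
  simp only [Fin.val_zero, pow_zero]
  ring

theorem index_upperUnip [Fintype F] :
    (upperUnip F).index = (Fintype.card F ^ 2 - 1) * (Fintype.card F - 1) := by
  have h := (upperUnip F).card_mul_index
  rw [card_upperUnip, card_GL_two, Nat.card_eq_fintype_card] at h
  exact Nat.eq_of_mul_eq_mul_left Fintype.card_pos h

theorem not_dvd_index_upperUnip [Fintype F] (p : ℕ) [Fact p.Prime] [CharP F p] :
    ¬ p ∣ (upperUnip F).index := by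
  have hp : p.Prime := Fact.out
  have hq : p ∣ Fintype.card F := (CharP.cast_eq_zero_iff F p _).1 (by simp)
  have h1 : 1 < Fintype.card F := Fintype.one_lt_card
  have key : ∀ m : ℕ, 1 ≤ m → p ∣ m → ¬ p ∣ m - 1 := by
    intro m hm hpm h
    have : p ∣ m - (m - 1) := Nat.dvd_sub hpm h
    rw [Nat.sub_sub_self hm] at this
    exact hp.one_lt.ne' (Nat.dvd_one.1 this)
  rw [index_upperUnip, hp.dvd_mul, not_or]
  exact ⟨key _ (Nat.one_le_pow _ _ (by omega)) (hq.trans (dvd_pow_self _ two_ne_zero)),
    key _ h1.le hq⟩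

variable (F) in
/-- The upper unitriangular subgroup of `GL₂(q)`, as a Sylow `p`-subgroup. -/
def upperUnipSylow [Fintype F] (p : ℕ) [Fact p.Prime] [CharP F p] :
    Sylow p (GL (Fin 2) F) :=
  (isPGroup_upperUnip p).toSylow (not_dvd_index_upperUnip p)

@[simp] theorem coe_upperUnipSylow [Fintype F] (p : ℕ) [Fact p.Prime] [CharP F p] :
    (upperUnipSylow F p : Subgroup (GL (Fin 2) F)) = upperUnip F := rfl

/-- If conjugation by `c` sends some non-identity upper unitriangular matrix to an upper
unitriangular matrix then `c` is upper triangular. -/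
theorem apply_one_zero_eq_zero_of_conj {c u : GL (Fin 2) F} (hu : u ∈ upperUnip F)
    (hu1 : u ≠ 1) (hc : c * u * c⁻¹ ∈ upperUnip F) : c 1 0 = 0 := by
  rw [mem_upperUnip_iff] at hu
  obtain ⟨h1, h2, h3⟩ := hu
  set v := c * u * c⁻¹ with hv
  rw [mem_upperUnip_iff] at hc
  obtain ⟨k1, k2, k3⟩ := hc
  have h4 : u 0 1 ≠ 0 := by
    intro h
    apply hu1
    ext i j
    fin_cases i <;> fin_cases j <;> simp [h1, h2, h3, h]
  have hcomm : c * u = v * c := by rw [hv]; group
  have e := congrArg (fun g : GL (Fin 2) F => g 1 1) hcomm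
  simp only [Units.val_mul, Matrix.mul_apply, Fin.sum_univ_two, h3, k2, k3, mul_one, one_mul,
    zero_mul, zero_add] at e
  have e' : c 1 0 * u 0 1 = 0 := by linear_combination e
  exact (mul_eq_zero.1 e').resolve_right h4

/-- Upper triangular matrices normalise the upper unitriangular subgroup. -/
theorem conj_mem_upperUnip {c u : GL (Fin 2) F} (hc : c 1 0 = 0) (hu : u ∈ upperUnip F) :
    c * u * c⁻¹ ∈ upperUnip F := by
  rw [mem_upperUnip_iff] at hu
  obtain ⟨h1, h2, h3⟩ := hu
  have hdet : c 0 0 * c 1 1 ≠ 0 := by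
    have := c.det_ne_zero
    rw [Matrix.det_fin_two, hc] at this
    simpa using this
  set v := c * u * c⁻¹ with hv
  have hcomm : c * u = v * c := by rw [hv]; group
  have e (i j : Fin 2) := congrArg (fun g : GL (Fin 2) F => g i j) hcomm
  simp only [Units.val_mul, Matrix.mul_apply, Fin.sum_univ_two] at e
  have e00 := e 0 0
  have e10 := e 1 0
  have e11 := e 1 1
  simp only [h1, h2, h3, hc, mul_one, mul_zero, add_zero, zero_mul, zero_add] at e00 e10 e11
  have c0 : c 0 0 ≠ 0 := left_ne_zero_of_mul hdet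
  have c1 : c 1 1 ≠ 0 := right_ne_zero_of_mul hdet
  rw [mem_upperUnip_iff]
  have k1 : v 1 0 = 0 := by
    have : v 1 0 * c 0 0 = 0 := e10.symm
    exact (mul_eq_zero.1 this).resolve_right c0
  refine ⟨?_, k1, ?_⟩
  · exact mul_right_cancel₀ c0 (by rw [one_mul]; exact e00.symm)
  · rw [k1, zero_mul, zero_add] at e11
    exact mul_right_cancel₀ c1 (by rw [one_mul]; exact e11.symm)

theorem exists_mem_upperUnip_ne_one : ∃ u ∈ upperUnip F, u ≠ 1 := by
  refine ⟨GeneralLinearGroup.upperRightHom 1, ⟨Multiplicative.ofAdd 1, rfl⟩, fun h => ?_⟩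
  have := congrArg (fun g : GL (Fin 2) F => g 0 1) h
  simp at this

/-- The normaliser of the upper unitriangular subgroup of `GL₂(F)` is the Borel subgroup of
upper triangular matrices. -/
theorem mem_normalizer_upperUnip_iff {c : GL (Fin 2) F} :
    c ∈ Subgroup.normalizer (upperUnip F : Set (GL (Fin 2) F)) ↔ c 1 0 = 0 := by
  rw [Subgroup.mem_normalizer_iff]
  constructor
  · intro h
    obtain ⟨u, hu, hu1⟩ := exists_mem_upperUnip_ne_one (F := F)
    exact apply_one_zero_eq_zero_of_conj hu hu1 ((h u).1 hu)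
  · intro h u
    refine ⟨fun hu => conj_mem_upperUnip h hu, fun hu => ?_⟩
    have hinv : c⁻¹ 1 0 = 0 := by
      rw [Matrix.coe_units_inv, Matrix.inv_def, Matrix.adjugate_fin_two]
      simp [h]
    have := conj_mem_upperUnip hinv hu
    simpa [mul_assoc] using this

/-- The index of the normaliser of the upper unitriangular subgroup of `GL₂(F)` is the
number of points of the projective line. -/
theorem index_normalizer_upperUnip :
    (Subgroup.normalizer (upperUnip F : Set (GL (Fin 2) F))).index = Nat.card (OnePoint F) := by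
  classical
  have hstab : Subgroup.normalizer (upperUnip F : Set (GL (Fin 2) F)) =
      MulAction.stabilizer (GL (Fin 2) F) (OnePoint.infty : OnePoint F) := by
    ext c
    rw [mem_normalizer_upperUnip_iff, MulAction.mem_stabilizer_iff,
      OnePoint.smul_infty_eq_self_iff]
  have horb : MulAction.orbit (GL (Fin 2) F) (OnePoint.infty : OnePoint F) = Set.univ := by
    rw [Set.eq_univ_iff_forall]
    intro x
    induction x using OnePoint.rec with
    | infty => exact MulAction.mem_orbit_self _
    | coe x =>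
      refine ⟨GeneralLinearGroup.mkOfDetNeZero !![x, 1; 1, 0] (by simp), ?_⟩
      change GeneralLinearGroup.mkOfDetNeZero !![x, 1; 1, 0] (by simp) •
        (OnePoint.infty : OnePoint F) = _
      rw [OnePoint.smul_infty_eq_ite]
      simp [GeneralLinearGroup.mkOfDetNeZero]
  rw [hstab, MulAction.index_stabilizer, horb, Set.ncard_univ]

/-- Every Sylow `p`-subgroup of `GL₂(q)` is conjugate to the upper unitriangular one. -/
theorem exists_smul_upperUnipSylow_eq [Fintype F] (p : ℕ) [Fact p.Prime] [CharP F p]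
    (P : Sylow p (GL (Fin 2) F)) : ∃ a : GL (Fin 2) F, a • upperUnipSylow F p = P :=
  MulAction.exists_smul_eq _ _ _

theorem smul_upperUnipSylow_eq_self_iff [Fintype F] (p : ℕ) [Fact p.Prime] [CharP F p]
    {c : GL (Fin 2) F} : c • upperUnipSylow F p = upperUnipSylow F p ↔ c 1 0 = 0 := by
  rw [Sylow.smul_eq_iff_mem_normalizer]
  exact mem_normalizer_upperUnip_iff

theorem mem_smul_upperUnipSylow_iff [Fintype F] (p : ℕ) [Fact p.Prime] [CharP F p]
    {a g : GL (Fin 2) F} : g ∈ a • upperUnipSylow F p ↔ a⁻¹ * g * a ∈ upperUnip F := by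
  have h : g ∈ a • upperUnipSylow F p ↔
      g ∈ MulAut.conj a • (upperUnip F : Subgroup (GL (Fin 2) F)) := Iff.rfl
  rw [h, Subgroup.mem_pointwise_smul_iff_inv_smul_mem]
  simp [MulAut.smul_def, MulAut.conj_apply, ← map_inv]

/-- Distinct Sylow `p`-subgroups of `GL₂(q)` intersect trivially. -/
theorem sylow_inf_eq_bot [Fintype F] (p : ℕ) [Fact p.Prime] [CharP F p]
    (P Q : Sylow p (GL (Fin 2) F)) (h : P ≠ Q) :
    (P : Subgroup (GL (Fin 2) F)) ⊓ (Q : Subgroup (GL (Fin 2) F)) = ⊥ := by
  obtain ⟨a, rfl⟩ := exists_smul_upperUnipSylow_eq p P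
  obtain ⟨b, rfl⟩ := exists_smul_upperUnipSylow_eq p Q
  rw [eq_bot_iff]
  rintro g ⟨hg1, hg2⟩
  rw [Subgroup.mem_bot]
  by_contra hg
  have h1 : a⁻¹ * g * a ∈ upperUnip F := (mem_smul_upperUnipSylow_iff p).1 hg1
  have h2 : b⁻¹ * g * b ∈ upperUnip F := (mem_smul_upperUnipSylow_iff p).1 hg2
  have h3 : (b⁻¹ * a) 1 0 = 0 := by
    apply apply_one_zero_eq_zero_of_conj h1
    · intro h
      apply hg
      have := congrArg (fun x => a * x * a⁻¹) h
      simpa [mul_assoc] using this
    · simpa [mul_assoc] using h2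
  rw [← smul_upperUnipSylow_eq_self_iff p] at h3
  apply h
  calc a • upperUnipSylow F p = b • ((b⁻¹ * a) • upperUnipSylow F p) := by
        rw [smul_smul, mul_inv_cancel_left]
    _ = b • upperUnipSylow F p := by rw [h3]

end Cfsg.Agent.LieClassical.GLTwoUnipotent
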